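import Cfsg.Agent.Lib.LocalEven.GoldS.CharCount

/-!
Owner: helper26. Groups of Ree type have real elements of order three: three norm four lifts share four
constituents, and their common degree contradicts the `3`-part of the group order.
-/

set_option autoImplicit false
set_option linter.all false

namespace CfsgLib.LocalEven.GoldS

open Subgroup PSLF CfsgLib.Char
open scoped ComplexConjugate

theorem small_entry {ι : Type*} [Fintype ι] {d : ι → ℕ} (hd : ∀ i, d i ≠ 0) {a : ι → ℤ}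
    (h4 : ∑ i, a i ^ 2 = 4) (h0 : ∑ i, a i * (d i : ℤ) = 0) (i : ι) :
    a i = 0 ∨ a i = 1 ∨ a i = -1 := by
  classical
  by_contra h
  have h2 : 4 ≤ a i ^ 2 := by
    push Not at h
    have : 2 ≤ a i ∨ a i ≤ -2 := by omega
    rcases this with h' | h' <;> nlinarith
  have hz : ∀ j, j ≠ i → a j = 0 := by
    intro j hj
    have := Finset.sum_le_sum_of_subset_of_nonneg (Finset.subset_univ {i, j})
      (f := fun k => a k ^ 2) (fun k _ _ => sq_nonneg _)
    rw [Finset.sum_pair hj.symm, h4] at this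
    nlinarith [sq_nonneg (a j)]
  rw [Finset.sum_eq_single i (fun j _ hj => by rw [hz j hj, zero_mul]) (by simp)] at h0
  rcases mul_eq_zero.1 h0 with h' | h'
  · exact h (Or.inl h')
  · exact hd i (by exact_mod_cast h')

/-- three orthogonal vectors of norm four with the same parities -/
theorem four_constituents {ι : Type*} [Fintype ι] {d : ι → ℕ} (hd : ∀ i, d i ≠ 0)
    {a b c τ : ι → ℤ} {h : ℤ}
    (ha : ∑ i, a i ^ 2 = 4) (hb : ∑ i, b i ^ 2 = 4) (hc : ∑ i, c i ^ 2 = 4)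
    (hab : ∑ i, a i * b i = 0) (hac : ∑ i, a i * c i = 0) (hbc : ∑ i, b i * c i = 0)
    (ha0 : ∑ i, a i * (d i : ℤ) = 0) (hb0 : ∑ i, b i * (d i : ℤ) = 0)
    (hc0 : ∑ i, c i * (d i : ℤ) = 0)
    (p1 : ∀ i, 2 ∣ a i - b i) (p2 : ∀ i, 2 ∣ b i - c i)
    (hta : ∑ i, τ i * a i = 4 * h) (htb : ∑ i, τ i * b i = 4 * h) (htc : ∑ i, τ i * c i = 4 * h) :
    ∃ (d0 : ℕ) (s S : ℤ), d0 ≠ 0 ∧ (s = 1 ∨ s = -1) ∧ S ^ 2 ≤ 4 * ∑ i, τ i ^ 2 ∧
      (∑ i, (τ i : ℚ) ^ 2 * (a i : ℚ) / (d i : ℚ)) * (d0 : ℚ) =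
        2 * (h : ℚ) * (4 * (s : ℚ) * h + S) := by
  classical
  have sa := small_entry hd ha ha0
  have sb := small_entry hd hb hb0
  have sc := small_entry hd hc hc0
  -- either all three entries vanish or all three are signs
  have hcase : ∀ i, (a i = 0 ∧ b i = 0 ∧ c i = 0) ∨ (a i ^ 2 = 1 ∧ b i ^ 2 = 1 ∧ c i ^ 2 = 1) := by
    intro i
    have h1 := p1 i
    have h2 := p2 i
    rcases sa i with x | x | x <;> rcases sb i with y | y | y <;> rcases sc i with z | z | z <;>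
      rw [x, y] at h1 <;> rw [y, z] at h2 <;> rw [x, y, z] <;> omega
  set v : ι → ℤ := fun i => a i * b i * c i with hv
  have hvv : ∑ i, v i ^ 2 = 4 := by
    rw [← ha]
    refine Finset.sum_congr rfl fun i _ => ?_
    rcases hcase i with ⟨x, y, z⟩ | ⟨x, y, z⟩
    · simp [hv, x]
    · simp only [hv, mul_pow, x, y, z]; norm_num
  have hva : ∑ i, v i * a i = 0 := by
    rw [← hbc]
    refine Finset.sum_congr rfl fun i _ => ?_
    rcases hcase i with ⟨x, y, z⟩ | ⟨x, y, z⟩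
    · simp [hv, x, y]
    · simp only [hv]; linear_combination (b i * c i) * x
  have hvb : ∑ i, v i * b i = 0 := by
    rw [← hac]
    refine Finset.sum_congr rfl fun i _ => ?_
    rcases hcase i with ⟨x, y, z⟩ | ⟨x, y, z⟩
    · simp [hv, x]
    · simp only [hv]; linear_combination (a i * c i) * y
  have hvc : ∑ i, v i * c i = 0 := by
    rw [← hab]
    refine Finset.sum_congr rfl fun i _ => ?_
    rcases hcase i with ⟨x, y, z⟩ | ⟨x, y, z⟩
    · simp [hv, x]
    · simp only [hv]; linear_combination (a i * b i) * z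
  -- the four vectors form a basis on the common support
  have hbasis : ∀ i, a i ≠ 0 → ∀ f : ι → ℤ, 4 * f i =
      a i * (∑ j, a j * f j) + b i * (∑ j, b j * f j) + c i * (∑ j, c j * f j) + v i * (∑ j, v j * f j) := by
    intro i hi f
    obtain ⟨x, y, z⟩ : a i ^ 2 = 1 ∧ b i ^ 2 = 1 ∧ c i ^ 2 = 1 :=
      (hcase i).resolve_left fun h => hi h.1
    have hvi : v i ^ 2 = 1 := by simp only [hv, mul_pow, x, y, z]; norm_num
    set w : ι → ℤ := fun j =>
      4 * (if j = i then 1 else 0) - a i * a j - b i * b j - c i * c j - v i * v j with hw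
    have hsum : ∑ j, w j ^ 2 = 0 := by
      have e : ∀ j, w j ^ 2 = (if j = i then 16 - 8 * (a i * a j + b i * b j + c i * c j + v i * v j) else 0)
          + a i ^ 2 * a j ^ 2 + b i ^ 2 * b j ^ 2 + c i ^ 2 * c j ^ 2 + v i ^ 2 * v j ^ 2
          + 2 * (a i * b i) * (a j * b j) + 2 * (a i * c i) * (a j * c j)
          + 2 * (b i * c i) * (b j * c j) + 2 * (v i * a i) * (v j * a j)
          + 2 * (v i * b i) * (v j * b j) + 2 * (v i * c i) * (v j * c j) := by
        intro j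
        simp only [hw]
        split_ifs <;> ring
      rw [Finset.sum_congr rfl fun j _ => e j]
      simp only [Finset.sum_add_distrib, ← Finset.mul_sum, Finset.sum_ite_eq', Finset.mem_univ, if_true,
        ha, hb, hc, hvv, hab, hac, hbc, hva, hvb, hvc]
      linear_combination (-4 : ℤ) * x + (-4 : ℤ) * y + (-4 : ℤ) * z + (-4 : ℤ) * hvi
    have hz : ∀ j, w j = 0 := fun j =>
      pow_eq_zero_iff two_ne_zero |>.1
        ((Finset.sum_eq_zero_iff_of_nonneg fun k _ => sq_nonneg (w k)).1 hsum j (Finset.mem_univ _))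
    have h0 : ∑ j, w j * f j = 0 := Finset.sum_eq_zero fun j _ => by rw [hz j, zero_mul]
    simp only [hw, sub_mul, Finset.sum_sub_distrib, mul_assoc, ← Finset.mul_sum, ite_mul, one_mul,
      zero_mul, Finset.sum_ite_eq', Finset.mem_univ, if_true] at h0
    linear_combination h0
  -- all degrees on the support are equal
  obtain ⟨i0, hi0⟩ : ∃ i, a i ≠ 0 := by
    by_contra h'
    push Not at h'
    simp [h'] at ha
  have hV : ∀ i, a i ≠ 0 → 4 * (d i : ℤ) = v i * ∑ j, v j * (d j : ℤ) := fun i hi => by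
    have := hbasis i hi fun j => (d j : ℤ)
    rw [ha0, hb0, hc0] at this
    linear_combination this
  set s := v i0 with hs
  have hs2 : s = 1 ∨ s = -1 := by
    obtain ⟨x, y, z⟩ : a i0 ^ 2 = 1 ∧ b i0 ^ 2 = 1 ∧ c i0 ^ 2 = 1 :=
      (hcase i0).resolve_left fun h => hi0 h.1
    refine sq_eq_one_iff.1 ?_
    rw [hs]; simp only [hv, mul_pow, x, y, z]; norm_num
  have hsupp : ∀ i, (a i = 0 ∧ b i = 0 ∧ c i = 0 ∧ v i = 0) ∨
      (a i ^ 2 = 1 ∧ b i ^ 2 = 1 ∧ c i ^ 2 = 1 ∧ v i = s ∧ d i = d i0) := by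
    intro i
    rcases hcase i with ⟨x, y, z⟩ | ⟨x, y, z⟩
    · exact Or.inl ⟨x, y, z, by simp [hv, x]⟩
    · refine Or.inr ⟨x, y, z, ?_⟩
      have hi : a i ≠ 0 := fun e => by rw [e] at x; norm_num at x
      have h1 := hV i hi
      have h2 := hV i0 hi0
      rw [← hs] at h2
      have hvi : v i = 1 ∨ v i = -1 := by
        refine sq_eq_one_iff.1 ?_
        simp only [hv, mul_pow, x, y, z]; norm_num
      have p0 := hd i0
      have pi := hd i
      rcases hvi with e | e <;> rcases hs2 with e' | e' <;> rw [e] at h1 ⊢ <;> rw [e'] at h2 ⊢ <;>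
        refine ⟨?_, ?_⟩ <;> omega
  have hsum0 : ∀ f : ι → ℤ, (∀ i, a i = 0 → f i = 0) → ∑ i, f i = s * ∑ i, v i * f i := by
    intro f hf
    rw [Finset.mul_sum]
    refine Finset.sum_congr rfl fun i _ => ?_
    rcases hsupp i with ⟨x, -, -, w⟩ | ⟨-, -, -, w, -⟩
    · rw [hf i x, mul_zero, mul_zero]
    · rw [w]; rcases hs2 with e | e <;> rw [e] <;> ring
  set S := s * ∑ j, v j * τ j with hS
  refine ⟨d i0, s, S, hd i0, hs2, ?_, ?_⟩
  · have := Finset.sum_mul_sq_le_sq_mul_sq Finset.univ v τ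
    rw [hvv] at this
    rw [hS, mul_pow]
    rcases hs2 with e | e <;> rw [e] <;> simpa using this
  · -- the weighted square of the values
    have hτ : ∀ i, 16 * (τ i ^ 2 * a i) = (4 * h * (a i + b i + c i) + S) ^ 2 * a i := by
      intro i
      rcases hsupp i with ⟨x, -, -, -⟩ | ⟨x, -, -, w, -⟩
      · rw [x]; ring
      · have hi : a i ≠ 0 := fun e => by rw [e] at x; norm_num at x
        have e := hbasis i hi τ
        simp only [mul_comm (a _) (τ _), mul_comm (b _) (τ _), mul_comm (c _) (τ _), hta, htb, htc, w] at e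
        rw [← hS] at e
        have e4 : 4 * τ i = 4 * h * (a i + b i + c i) + S := by linear_combination e
        rw [← e4]; ring
    have za : ∑ i, a i = 0 := by rw [hsum0 a (fun i h => h), hva, mul_zero]
    have zb : ∑ i, b i = 0 := by
      rw [hsum0 b (fun i h => ?_), hvb, mul_zero]
      rcases hcase i with ⟨-, y, -⟩ | ⟨x, -, -⟩
      exacts [y, absurd h (fun e => by rw [e] at x; norm_num at x)]
    have zc : ∑ i, c i = 0 := by
      rw [hsum0 c (fun i h => ?_), hvc, mul_zero]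
      rcases hcase i with ⟨-, -, z⟩ | ⟨x, -, -⟩
      exacts [z, absurd h (fun e => by rw [e] at x; norm_num at x)]
    have zv : ∑ i, v i = 4 * s := by
      rw [hsum0 v (fun i h => by simp [hv, h]), ← hvv, mul_comm]
      exact congrArg (· * s) (Finset.sum_congr rfl fun i _ => (pow_two _).symm)
    have e1 : ∀ i, (a i + b i + c i) ^ 2 * a i = 3 * a i + 2 * b i + 2 * c i + 2 * v i := by
      intro i
      rcases hsupp i with ⟨x, y, z, w⟩ | ⟨x, y, z, -, -⟩
      · rw [x, y, z, w]; ring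
      · simp only [hv]
        linear_combination (a i + 2 * b i + 2 * c i) * x + a i * y + a i * z
    have hmain : ∑ i, 16 * (τ i ^ 2 * a i) = 32 * h * (4 * s * h + S) := by
      rw [Finset.sum_congr rfl fun i _ => hτ i]
      have e2 : ∀ i, (4 * h * (a i + b i + c i) + S) ^ 2 * a i = 16 * h ^ 2 * ((a i + b i + c i) ^ 2 * a i)
          + 8 * h * S * (a i ^ 2 + a i * b i + a i * c i) + S ^ 2 * a i := fun i => by ring
      simp only [e2, e1, Finset.sum_add_distrib, ← Finset.mul_sum, za, zb, zc, zv, ha, hab, hac]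
      ring
    have hterm : ∀ i, (τ i : ℚ) ^ 2 * (a i : ℚ) / (d i : ℚ) * (d i0 : ℚ) = ((τ i ^ 2 * a i : ℤ) : ℚ) := by
      intro i
      rcases hsupp i with ⟨x, -, -, -⟩ | ⟨-, -, -, -, w⟩
      · simp [x]
      · rw [w, div_mul_cancel₀ _ (Nat.cast_ne_zero.2 (hd i0))]; push_cast; rfl
    rw [Finset.sum_mul, Finset.sum_congr rfl fun i _ => hterm i, ← Int.cast_sum]
    rw [← Finset.mul_sum] at hmain
    have hm : ((16 * ∑ i, τ i ^ 2 * a i : ℤ) : ℚ) = ((32 * h * (4 * s * h + S) : ℤ) : ℚ) := by rw [hmain]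
    push_cast at hm ⊢
    linear_combination hm / 16

/-- composing a character with a fixed-point-free endomorphism -/
theorem hom_comp_ne {A : Type*} [CommGroup A] [Finite A] (f : A →* A) (hf : ∀ a, f a = a → a = 1)
    {l : A →* ℂˣ} (hl : l ≠ 1) : l ≠ l.comp f := by
  intro h
  refine hl (MonoidHom.ext fun a => ?_)
  have hinj : Function.Injective fun a => f a * a⁻¹ := by
    intro x y e
    have : f (x * y⁻¹) = x * y⁻¹ := by
      rw [map_mul, map_inv]
      calc f x * (f y)⁻¹ = (f x * x⁻¹) * x * (f y)⁻¹ := by group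
        _ = (f y * y⁻¹) * x * (f y)⁻¹ := by rw [show f x * x⁻¹ = f y * y⁻¹ from e]
        _ = x * y⁻¹ := by rw [mul_assoc (f y) y⁻¹ x, mul_comm (f y), mul_assoc, mul_inv_cancel, mul_one, mul_comm]
    exact mul_inv_eq_one.1 (hf _ this)
  obtain ⟨b, rfl⟩ := Finite.injective_iff_surjective.1 hinj a
  rw [map_mul, map_inv, show l (f b) = l b from (DFunLike.congr_fun h b).symm, mul_inv_cancel]
  rfl

theorem hom_mul_comp_ne {A : Type*} [CommGroup A] [Finite A] (f : A →* A) (hf : ∀ a, f a = a⁻¹ → a = 1)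
    {l : A →* ℂˣ} (hl : l ≠ 1) : l * l.comp f ≠ 1 := by
  intro h
  refine hl (MonoidHom.ext fun a => ?_)
  have hinj : Function.Injective fun a => a * f a := by
    intro x y e
    have : f (x * y⁻¹) = (x * y⁻¹)⁻¹ := by
      rw [map_mul, map_inv]
      calc f x * (f y)⁻¹ = x⁻¹ * (x * f x) * (f y)⁻¹ := by group
        _ = x⁻¹ * (y * f y) * (f y)⁻¹ := by rw [show x * f x = y * f y from e]
        _ = x⁻¹ * y := by group
        _ = (x * y⁻¹)⁻¹ := by rw [mul_inv_rev, inv_inv, mul_comm]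
    exact mul_inv_eq_one.1 (hf _ this)
  obtain ⟨b, rfl⟩ := Finite.injective_iff_surjective.1 hinj a
  rw [map_mul]
  exact DFunLike.congr_fun h b

theorem hom_sq_ne {A : Type*} [Group A] [Finite A] (ho : Odd (Nat.card A)) {l : A →* ℂˣ} (hl : l ≠ 1) :
    l * l ≠ 1 := by
  intro h
  refine hl (MonoidHom.ext fun a => ?_)
  have h2 : l a ^ 2 = 1 := (pow_two _).trans (DFunLike.congr_fun h a)
  obtain ⟨j, hj⟩ := ho
  have he : l a ^ Nat.card A = 1 := by rw [← map_pow, pow_card_eq_one', map_one]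
  rw [hj, pow_succ, pow_mul, h2, one_pow, one_mul] at he
  exact he

namespace Ctx

variable {G : Type*} [Group G] {F : Type*} [Field F] [Fintype F] [CharP F 3] (c : Ctx G F)

include c in
/-- a group of Ree type has an element of order three inverted by an involution -/
theorem exists_real_three [Finite G] (hno : NoReal G) : False := by
  classical
  haveI := Fintype.ofFinite G
  haveI := Fintype.ofFinite (Cfsg.IrrCharacter G)
  haveI := Fintype.ofFinite (Rs F)
  haveI : IsMulCommutative (Rs F) := ⟨⟨fun a b => Subtype.ext (Rs_comm a.2 b.2)⟩⟩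
  letI : CommGroup (Rs F) :=
    { (inferInstance : Group (Rs F)) with mul_comm := fun a b => mul_comm' a b }
  obtain ⟨g, σ, hσ, hs, f1, f2, f3, f4, hbij⟩ := c.exists_twist hno
  obtain ⟨ψ, hψ⟩ : ∃ ψ : AddChar F ℂ, ψ ≠ 1 := by
    obtain ⟨ψ, hψ⟩ := (AddChar.exists_apply_ne_zero (α := F) (a := 1)).2 one_ne_zero
    exact ⟨ψ, fun h => hψ (by rw [h]; rfl)⟩
  have hbig := c.hbig
  have he := card_Rs (F := F) c.hq
  obtain ⟨a0, ha0⟩ : ∃ a : Rs F, a ≠ 1 := by
    by_contra h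
    push Not at h
    have : Nat.card (Rs F) = 1 := Nat.card_eq_one_iff_exists.2 ⟨1, h⟩
    omega
  obtain ⟨l0, hl0⟩ := CommGroup.exists_apply_ne_one_of_hasEnoughRootsOfUnity (Rs F) ℂ ha0
  set l : Rs F →* ℂˣ := l0 with hldef
  have hl : l ≠ 1 := fun h => hl0 (DFunLike.congr_fun h a0)
  have comp_ne : ∀ {μ : Rs F →* ℂˣ}, μ ≠ 1 → μ.comp σ ≠ 1 := by
    intro μ hμ h
    refine hμ (MonoidHom.ext fun a => ?_)
    obtain ⟨b, rfl⟩ := hbij.2 a
    exact DFunLike.congr_fun h b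
  set L1 := l.comp σ with hL1
  set L2 := L1.comp σ with hL2
  have hl1 : L1 ≠ 1 := comp_ne hl
  have hl2 : L2 ≠ 1 := comp_ne hl1
  have hL2' : L2 = l.comp (σ.comp σ) := rfl
  have n01 := hom_comp_ne σ f1 hl
  have m01 := hom_mul_comp_ne σ f2 hl
  have n12 := hom_comp_ne σ f1 hl1
  have m12 := hom_mul_comp_ne σ f2 hl1
  have n02 := hom_comp_ne (σ.comp σ) f3 hl
  have m02 := hom_mul_comp_ne (σ.comp σ) f4 hl
  rw [← hL1] at n01 m01
  rw [← hL2] at n12 m12
  rw [← hL2'] at n02 m02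
  have ho := (Rs_facts (F := F) c.hq).1
  -- integer data
  choose mz hmz using fun μ : Rs F →* ℂˣ => fun χ : Cfsg.IrrCharacter G => c.exists_int_mm ψ χ μ
  choose d hd0 hd using fun χ : Cfsg.IrrCharacter G => IsIrr.exists_degree χ.2
  have hτ : ∀ χ : Cfsg.IrrCharacter G, ∃ z : ℤ, (χ : G → ℂ) c.t = z := by
    intro χ
    obtain ⟨z, hz⟩ := exists_int_twist (1 : Multiplicative (ZMod 1) →* G) c.t_sq
      (fun _ => Commute.one_right _) χ 1
    refine ⟨z, ?_⟩
    simpa [Nat.card_eq_fintype_card] using hz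
  choose τ hτ using hτ
  have hinner : ∀ μ ν : Rs F →* ℂˣ,
      ((∑ χ : Cfsg.IrrCharacter G, mz μ χ * mz ν χ : ℤ) : ℂ) =
        4 * ((if μ = ν then 1 else 0) + if μ * ν = 1 then 1 else 0) := by
    intro μ ν
    rw [← c.sum_mm_mm ψ hψ μ ν]
    push_cast
    exact Finset.sum_congr rfl fun χ _ => by rw [hmz, hmz, map_intCast]
  have hnorm : ∀ μ : Rs F →* ℂˣ, μ ≠ 1 → ∑ χ, mz μ χ ^ 2 = 4 := by
    intro μ hμ
    have h := hinner μ μ
    rw [if_pos rfl, if_neg (hom_sq_ne ho hμ)] at h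
    simp only [add_zero, mul_one] at h
    simp only [pow_two]
    exact_mod_cast h
  have horth : ∀ μ ν : Rs F →* ℂˣ, μ ≠ ν → μ * ν ≠ 1 → ∑ χ, mz μ χ * mz ν χ = 0 := by
    intro μ ν h1 h2
    have h := hinner μ ν
    rw [if_neg h1, if_neg h2] at h
    simp only [add_zero, mul_zero] at h
    exact_mod_cast h
  have hdeg : ∀ μ : Rs F →* ℂˣ, ∑ χ, mz μ χ * (d χ : ℤ) = 0 := by
    intro μ
    have h : ((∑ χ, mz μ χ * (d χ : ℤ) : ℤ) : ℂ) = 0 := by
      rw [← c.sum_mm_degree ψ μ]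
      push_cast
      exact Finset.sum_congr rfl fun χ _ => by rw [hmz, hd]
    exact_mod_cast h
  have htau : ∀ μ : Rs F →* ℂˣ, ∑ χ, τ χ * mz μ χ = 4 * ((Fintype.card F : ℤ) - 1) := by
    intro μ
    have h : ((∑ χ, τ χ * mz μ χ : ℤ) : ℂ) = ((4 * ((Fintype.card F : ℤ) - 1) : ℤ) : ℂ) := by
      push_cast
      rw [← c.sum_mm_t ψ μ]
      exact Finset.sum_congr rfl fun χ _ => by rw [hmz, hτ, map_intCast, mul_comm]
    exact_mod_cast h
  have hpar : ∀ μ : Rs F →* ℂˣ, ∀ χ, 2 ∣ mz μ χ - mz (μ.comp σ) χ := by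
    intro μ χ
    obtain ⟨z, hz⟩ := c.parity_mm ψ χ hσ hs hbij μ
    refine ⟨z, ?_⟩
    rw [hmz, hmz] at hz
    exact_mod_cast hz
  obtain ⟨d0, s, S, hd00, hs1, hS, hT⟩ := four_constituents (d := d) (fun χ => (hd0 χ).ne')
    (a := mz l) (b := mz L1) (c := mz L2) (τ := τ) (h := (Fintype.card F : ℤ) - 1)
    (hnorm l hl) (hnorm L1 hl1) (hnorm L2 hl2) (horth _ _ n01 m01) (horth _ _ n02 m02)
    (horth _ _ n12 m12) (hdeg _) (hdeg _) (hdeg _) (hpar l) (hpar L1) (htau _) (htau _) (htau _)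
  -- the order of the centraliser
  set q : ℕ := Fintype.card F with hq
  set C : ℕ := Nat.card c.Ct with hC
  have hCq : (C : ℤ) = (q : ℤ) * ((q : ℤ) ^ 2 - 1) := by
    have h := c.two_mul_card_P2
    have h1 : 1 ≤ q ^ 2 := Nat.one_le_pow _ _ (by omega)
    rw [hC, c.card_Ct, h, ← hq]
    push_cast [Nat.cast_sub h1]
    ring
  have hτ2 : ∑ χ, τ χ ^ 2 = (C : ℤ) := by
    have h := Char.column_orthogonality (G := G) c.t c.t
    rw [if_pos (IsConj.refl _)] at h
    have h' : ((∑ χ, τ χ ^ 2 : ℤ) : ℂ) = ((C : ℤ) : ℂ) := by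
      push_cast
      refine Eq.trans ?_ h
      exact Finset.sum_congr rfl fun χ _ => by rw [hτ, map_intCast, pow_two]
    exact_mod_cast h'
  set N : ℕ := Nat.card G with hN
  have hstruct : (N : ℚ) * ((q : ℚ) + 1) * (∑ χ, (τ χ : ℚ) ^ 2 * (mz l χ : ℚ) / (d χ : ℚ)) =
      8 * (q : ℚ) * (C : ℚ) ^ 2 := by
    have h := c.sum_mm_sq ψ hψ hl
    have h' : (((N : ℚ) * ((q : ℚ) + 1) * (∑ χ, (τ χ : ℚ) ^ 2 * (mz l χ : ℚ) / (d χ : ℚ)) : ℚ) : ℂ) =
        ((8 * (q : ℚ) * (C : ℚ) ^ 2 : ℚ) : ℂ) := by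
      push_cast
      rw [← h]
      congr 1
      exact Finset.sum_congr rfl fun χ _ => by rw [hmz, hτ, hd]; push_cast; ring
    exact_mod_cast h'
  set K : ℤ := 4 * s * ((q : ℤ) - 1) + S with hK
  have hmain : 4 * (q : ℤ) ^ 3 * ((q : ℤ) ^ 2 - 1) * d0 = (N : ℤ) * K := by
    have hq1 : (27 : ℚ) ≤ q := by exact_mod_cast hbig
    have hne : 2 * ((q : ℚ) ^ 2 - 1) ≠ 0 := by nlinarith
    have hCq' : (C : ℚ) = (q : ℚ) * ((q : ℚ) ^ 2 - 1) := by exact_mod_cast hCq
    have h : ((4 * (q : ℤ) ^ 3 * ((q : ℤ) ^ 2 - 1) * d0 : ℤ) : ℚ) = (((N : ℤ) * K : ℤ) : ℚ) := by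
      push_cast [hK] at hT ⊢
      refine mul_left_cancel₀ hne ?_
      linear_combination (-(d0 : ℚ)) * hstruct + ((N : ℚ) * ((q : ℚ) + 1)) * hT +
        (-8 * (q : ℚ) * (d0 : ℚ) * ((C : ℚ) + (q : ℚ) * ((q : ℚ) ^ 2 - 1))) * hCq'
    exact_mod_cast h
  -- the three-part
  have hqN : q ∣ N := by rw [hq, hN, ← c.card_U]; exact Subgroup.card_subgroup_dvd_card _
  obtain ⟨M, hM⟩ := hqN
  have h3M : ¬ 3 ∣ M := by
    rintro ⟨j, hj⟩
    exact c.not_sq_dvd_card hno ⟨j, by rw [← hN, hM, hj]; ring⟩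
  obtain ⟨n, -, hn⟩ := FiniteField.card F 3
  have hdvd : (q : ℤ) ^ 2 ∣ K := by
    have h1 : 4 * (q : ℤ) ^ 2 * ((q : ℤ) ^ 2 - 1) * d0 = (M : ℤ) * K := by
      have hq0 : (q : ℤ) ≠ 0 := by omega
      refine mul_left_cancel₀ hq0 ?_
      rw [hM] at hmain
      push_cast at hmain
      linear_combination hmain
    have hcop : IsCoprime ((q : ℤ) ^ 2) (M : ℤ) := by
      rw [← Nat.cast_pow, Nat.isCoprime_iff_coprime, hq, hn]
      exact ((Nat.Prime.coprime_iff_not_dvd Nat.prime_three).2 h3M).pow_left _ |>.pow_left _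
    exact hcop.dvd_of_dvd_mul_left ⟨4 * ((q : ℤ) ^ 2 - 1) * d0, by linear_combination -h1⟩
  have hq27 : (27 : ℤ) ≤ q := by exact_mod_cast hbig
  have hK0 : K = 0 := by
    refine Int.eq_zero_of_abs_lt_dvd hdvd ?_
    have hS2 : S ^ 2 < ((q : ℤ) ^ 2 - 4 * q) ^ 2 := by
      rw [hτ2, hCq] at hS
      nlinarith [mul_le_mul_of_nonneg_left hq27 (pow_nonneg (show (0 : ℤ) ≤ q by omega) 3)]
    have hSabs : |S| < (q : ℤ) ^ 2 - 4 * q :=
      abs_lt_of_sq_lt_sq hS2 (by nlinarith)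
    obtain ⟨l1, l2⟩ := abs_lt.1 hSabs
    rw [abs_lt, hK]
    rcases hs1 with e | e <;> rw [e] <;> constructor <;> nlinarith
  rw [hK0, mul_zero] at hmain
  rcases mul_eq_zero.1 hmain with h | h
  · rcases mul_eq_zero.1 h with h | h
    · have : (q : ℤ) ^ 3 ≠ 0 := pow_ne_zero _ (by omega)
      exact this (by linarith)
    · nlinarith
  · exact hd00 (by exact_mod_cast h)

end Ctx

end CfsgLib.LocalEven.GoldS
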