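import Cfsg.Agent.Lib.LocalEven.GoldS.PSLCent
import Cfsg.Agent.Lib.Classical.AbelianSylowTwo

/-!
Owner: helper24. Groups of Ree type: the centralizer of an involution, Sylow 2-subgroups, one class of
involutions.
-/

set_option autoImplicit false
set_option linter.all false

namespace CfsgLib.LocalEven.GoldS

open Subgroup PSLF

/-- a simple group with an involution centralizer `⟨t⟩ × PSL(2, q)` of odd index, `q = 3 ^ (2n+1) ≥ 27` -/
structure Ctx (G : Type*) [Group G] (F : Type*) [Field F] [Fintype F] where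
  t : G
  ι : P2 F →* G
  simp : IsSimpleGroup G
  ncomm : ¬ IsMulCommutative G
  hq : Fintype.card F % 8 = 3
  hbig : 27 ≤ Fintype.card F
  ht : orderOf t = 2
  inj : Function.Injective ι
  hC : ∀ x : G, x * t = t * x ↔ x ∈ ι.range ∨ t * x ∈ ι.range
  hidx : Odd (centralizer ({t} : Set G)).index
  tnot : t ∉ ι.range

namespace Ctx

variable {G : Type*} [Group G] {F : Type*} [Field F] [Fintype F] (c : Ctx G F)

theorem t_ne : c.t ≠ 1 := fun h => by have := c.ht; rw [h, orderOf_one] at this; omega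

theorem t_sq : c.t * c.t = 1 := by
  rw [← pow_two]; exact orderOf_dvd_iff_pow_eq_one.1 (dvd_of_eq c.ht)

theorem t_inv : c.t⁻¹ = c.t := inv_eq_of_mul_eq_one_right c.t_sq

/-- `K ≅ PSL(2, q)` -/
def K : Subgroup G := c.ι.range

/-- the centralizer of `t` -/
def Ct : Subgroup G := centralizer ({c.t} : Set G)

theorem mem_Ct {x : G} : x ∈ c.Ct ↔ x * c.t = c.t * x := mem_centralizer_singleton_iff

theorem ι_comm (k : P2 F) : c.ι k * c.t = c.t * c.ι k := (c.hC _).2 (Or.inl ⟨k, rfl⟩)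

theorem ι_mem_Ct (k : P2 F) : c.ι k ∈ c.Ct := c.mem_Ct.2 (c.ι_comm k)

theorem t_mem_Ct : c.t ∈ c.Ct := c.mem_Ct.2 rfl

theorem K_le_Ct : c.K ≤ c.Ct := by
  rintro _ ⟨k, rfl⟩
  exact c.ι_mem_Ct k

theorem decomp {x : G} (hx : x ∈ c.Ct) : ∃ k : P2 F, x = c.ι k ∨ x = c.t * c.ι k := by
  rcases (c.hC x).1 (c.mem_Ct.1 hx) with ⟨k, hk⟩ | ⟨k, hk⟩
  · exact ⟨k, Or.inl hk.symm⟩
  · exact ⟨k, Or.inr (by rw [hk, ← mul_assoc, c.t_sq, one_mul])⟩

theorem ι_ne (k l : P2 F) : c.ι k ≠ c.t * c.ι l := fun h =>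
  c.tnot ⟨k * l⁻¹, by rw [map_mul, map_inv, h, mul_inv_cancel_right]⟩

/-- the projection `C(t) → PSL(2, q)` -/
noncomputable def π : c.Ct →* P2 F where
  toFun x := (c.decomp x.2).choose
  map_one' := by
    rcases (c.decomp (one_mem c.Ct)).choose_spec with h | h
    · exact c.inj (h.symm.trans (map_one c.ι).symm)
    · exact absurd ((map_one c.ι).trans h) (c.ι_ne _ _)
  map_mul' x y := by
    have hx := (c.decomp x.2).choose_spec
    have hy := (c.decomp y.2).choose_spec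
    have hxy := (c.decomp (x * y).2).choose_spec
    set a := (c.decomp x.2).choose
    set b := (c.decomp y.2).choose
    set d := (c.decomp (x * y).2).choose
    have key : ((x * y : c.Ct) : G) = c.ι (a * b) ∨ ((x * y : c.Ct) : G) = c.t * c.ι (a * b) := by
      rw [Subgroup.coe_mul, map_mul]
      rcases hx with h1 | h1 <;> rcases hy with h2 | h2 <;> rw [h1, h2]
      · exact Or.inl rfl
      · right; rw [← mul_assoc, c.ι_comm, mul_assoc]
      · right; rw [mul_assoc]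
      · left
        rw [show c.t * c.ι a * (c.t * c.ι b) = c.t * (c.ι a * c.t) * c.ι b by group, c.ι_comm,
          ← mul_assoc, c.t_sq, one_mul]
    rcases hxy with h | h <;> rcases key with h' | h'
    · exact c.inj (h.symm.trans h')
    · exact absurd (h.symm.trans h') (c.ι_ne _ _)
    · exact absurd (h'.symm.trans h) (c.ι_ne _ _)
    · exact c.inj (mul_left_cancel (h.symm.trans h'))

theorem π_spec (x : c.Ct) : (x : G) = c.ι (c.π x) ∨ (x : G) = c.t * c.ι (c.π x) :=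
  (c.decomp x.2).choose_spec

theorem π_ι (k : P2 F) : c.π ⟨c.ι k, c.ι_mem_Ct k⟩ = k := by
  rcases c.π_spec ⟨c.ι k, c.ι_mem_Ct k⟩ with h | h
  · exact (c.inj h).symm
  · exact absurd h (c.ι_ne _ _)

theorem π_ker {x : c.Ct} (h : c.π x = 1) : (x : G) = 1 ∨ (x : G) = c.t := by
  rcases c.π_spec x with e | e <;> rw [h, map_one] at e
  · exact Or.inl e
  · exact Or.inr (by simpa using e)

theorem π_injOn {L : Subgroup G} (hL : L ≤ c.Ct) (ht : c.t ∉ L) :
    Function.Injective (c.π.comp (Subgroup.inclusion hL)) := by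
  rw [injective_iff_map_eq_one]
  intro x hx
  rcases c.π_ker hx with h | h
  · exact Subtype.ext h
  · exact absurd (show c.t ∈ L from (show (x : G) = c.t from h) ▸ x.2) ht

/-- elements of odd order in `C(t)` lie in `K` -/
theorem mem_K_of_odd [Finite G] {x : G} (hx : x ∈ c.Ct) (ho : Odd (orderOf x)) : x ∈ c.K := by
  obtain ⟨k, h | h⟩ := c.decomp hx
  · exact ⟨k, h.symm⟩
  · exfalso
    have hc : Commute c.t (c.ι k) := (c.ι_comm k).symm
    have e := pow_orderOf_eq_one x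
    obtain ⟨j, hj⟩ := ho
    have htp : c.t ^ orderOf x = c.t := by
      rw [hj, pow_succ, pow_mul, pow_two, c.t_sq, one_pow, one_mul]
    nth_rewrite 1 [h] at e
    rw [hc.mul_pow, htp, ← map_pow] at e
    refine c.tnot ⟨(k ^ orderOf x)⁻¹, ?_⟩
    rw [map_inv]
    exact inv_eq_of_mul_eq_one_left e

theorem le_K_of_odd [Finite G] {L : Subgroup G} (hL : L ≤ c.Ct) (ho : Odd (Nat.card L)) :
    L ≤ c.K := fun x hx =>
  c.mem_K_of_odd (hL hx) (ho.of_dvd_nat (Subgroup.orderOf_dvd_natCard L hx))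

/-- `⟨t⟩ × PSL(2, q) → G` -/
def prodHom : (zpowers c.t) × P2 F →* G :=
  MonoidHom.noncommCoprod (zpowers c.t).subtype c.ι fun a k => by
    obtain ⟨a, j, rfl⟩ := a
    exact (Commute.zpow_left (c.ι_comm k).symm j)

theorem prodHom_injective : Function.Injective c.prodHom := by
  rw [injective_iff_map_eq_one]
  rintro ⟨⟨a, ha⟩, k⟩ h
  have h' : a * c.ι k = 1 := h
  have hk : a = c.ι k⁻¹ := by rw [map_inv]; exact eq_inv_of_mul_eq_one_left h'
  obtain ⟨j, hj⟩ := ha
  have hj' : a = 1 ∨ a = c.t := by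
    rw [← hj]
    show c.t ^ j = 1 ∨ c.t ^ j = c.t
    rw [← zpow_mod_orderOf, c.ht]
    have := Int.emod_two_eq j
    rcases this with e | e <;> simp [e]
  rcases hj' with e | e
  · subst e
    rw [one_mul] at h'
    exact Prod.ext rfl (c.inj (h'.trans (map_one c.ι).symm))
  · exact absurd ⟨k⁻¹, (hk.symm.trans e)⟩ c.tnot

theorem range_prodHom : c.prodHom.range = c.Ct := by
  refine le_antisymm ?_ fun x hx => ?_
  · rintro _ ⟨⟨⟨a, ha⟩, k⟩, rfl⟩
    exact c.Ct.mul_mem ((zpowers_le.2 c.t_mem_Ct) ha) (c.ι_mem_Ct k)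
  · obtain ⟨k, h | h⟩ := c.decomp hx
    · exact ⟨(1, k), by rw [h]; show (1 : G) * c.ι k = _; rw [one_mul]⟩
    · exact ⟨(⟨c.t, mem_zpowers _⟩, k), h.symm⟩

theorem card_Ct : Nat.card c.Ct = 2 * Nat.card (P2 F) := by
  rw [← range_prodHom, ← Nat.card_congr (MonoidHom.ofInjective c.prodHom_injective).toEquiv,
    Nat.card_prod, Nat.card_zpowers, c.ht]

theorem exists_sylow_eight [Finite G] : ∃ S : Sylow 2 G, Nat.card (S : Subgroup G) = 8 ∧
    IsMulCommutative (S : Subgroup G) ∧ c.t ∈ (S : Subgroup G) ∧ (S : Subgroup G) ≤ c.Ct := by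
  haveI : Fact (Nat.Prime 2) := ⟨Nat.prime_two⟩
  obtain ⟨S0⟩ : Nonempty (Sylow 2 (P2 F)) := inferInstance
  have hK := CfsgLib.Classical.Two.isKleinFour_sylow_PSL (q := Fintype.card F) rfl (Or.inl c.hq) S0
  let E : Subgroup G := ((⊤ : Subgroup (zpowers c.t)).prod (S0 : Subgroup (P2 F))).map c.prodHom
  have hcard : Nat.card E = 8 := by
    rw [Nat.card_congr (Subgroup.equivMapOfInjective _ _ c.prodHom_injective).symm.toEquiv,
      Nat.card_congr (Subgroup.prodEquiv _ _).toEquiv, Nat.card_prod, Subgroup.card_top,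
      Nat.card_zpowers, c.ht, hK.card_four]
  have hidx : ¬ 2 ∣ E.index := by
    have h1 : Nat.card E * E.index = Nat.card c.Ct * c.Ct.index := by
      rw [E.card_mul_index, c.Ct.card_mul_index]
    have h4 : Nat.card (P2 F) = 4 * (S0 : Subgroup (P2 F)).index := by
      rw [← hK.card_four]; exact ((S0 : Subgroup (P2 F)).card_mul_index).symm
    rw [hcard, c.card_Ct, h4] at h1
    have h2 : E.index = (S0 : Subgroup (P2 F)).index * c.Ct.index := by
      refine Nat.eq_of_mul_eq_mul_left (show 0 < 8 by norm_num) ?_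
      rw [h1]; ring
    rw [h2, Nat.prime_two.dvd_mul]
    rintro (h | h)
    · exact S0.not_dvd_index h
    · exact Nat.not_even_iff_odd.2 c.hidx (even_iff_two_dvd.2 h)
  have hp : IsPGroup 2 E := IsPGroup.of_card (n := 3) (by rw [hcard]; norm_num)
  refine ⟨hp.toSylow hidx, hcard, ⟨⟨?_⟩⟩, ?_, ?_⟩
  · rintro ⟨_, ⟨a, k⟩, ⟨-, hk⟩, rfl⟩ ⟨_, ⟨b, l⟩, ⟨-, hl⟩, rfl⟩
    refine Subtype.ext ?_
    show c.prodHom (a, k) * c.prodHom (b, l) = c.prodHom (b, l) * c.prodHom (a, k)
    rw [← map_mul, ← map_mul]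
    congr 1
    refine Prod.ext (mul_comm' a b) ?_
    haveI := hK
    exact congrArg Subtype.val
      (mul_comm_of_exponent_two hK.exponent_two (⟨k, hk⟩ : (S0 : Subgroup (P2 F))) ⟨l, hl⟩)
  · exact ⟨(⟨c.t, mem_zpowers _⟩, 1), ⟨Subgroup.mem_top _, one_mem _⟩,
      by show c.t * c.ι 1 = c.t; rw [map_one, mul_one]⟩
  · rw [← range_prodHom]
    exact Subgroup.map_le_range _ _

include c in
theorem sylow_comm [Finite G] (S : Sylow 2 G) : IsMulCommutative (S : Subgroup G) := by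
  obtain ⟨T, -, hT, -, -⟩ := c.exists_sylow_eight
  obtain ⟨g, rfl⟩ := MulAction.exists_smul_eq G T S
  exact ⟨⟨fun a b => (T.equivSMul g).symm.injective (by
    rw [map_mul, map_mul]; exact hT.is_comm.comm _ _)⟩⟩

/-- all involutions are conjugate -/
theorem exists_conj_t [Finite G] {s : G} (hs : orderOf s = 2) : ∃ g : G, g * c.t * g⁻¹ = s := by
  haveI : Fact (Nat.Prime 2) := ⟨Nat.prime_two⟩
  haveI := c.simp
  obtain ⟨S, h8, hcomm, htS, -⟩ := c.exists_sylow_eight
  obtain ⟨n, -, s0, -, -, -, hall⟩ :=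
    CfsgLib.Classical.AbSylow.exists_seven_cycle c.ncomm S hcomm h8
  obtain ⟨T, hT⟩ :=
    (IsPGroup.of_card (p := 2) (n := 1) (by rw [Nat.card_zpowers, hs, pow_one]) :
      IsPGroup 2 (zpowers s)).exists_le_sylow
  obtain ⟨g, hg⟩ := MulAction.exists_smul_eq G T S
  have hsS : g * s * g⁻¹ ∈ (S : Subgroup G) := by
    rw [← hg, Sylow.coe_subgroup_smul]
    exact Subgroup.smul_mem_pointwise_smul _ _ _ (hT (mem_zpowers s))
  have hne : g * s * g⁻¹ ≠ 1 := fun h => by
    have : orderOf (g * s * g⁻¹) = 2 := ((MulAut.conj g).orderOf_eq s).trans hs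
    rw [h, orderOf_one] at this; omega
  obtain ⟨i, -, hi⟩ := hall _ hsS hne
  obtain ⟨j, -, hj⟩ := hall _ htS c.t_ne
  refine ⟨g⁻¹ * n ^ i * (n ^ j)⁻¹, ?_⟩
  have e1 : s = g⁻¹ * (g * s * g⁻¹) * g := by group
  rw [e1, hi, hj]
  group

end Ctx

end CfsgLib.LocalEven.GoldS
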