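import Cfsg.Agent.Lib.LocalEven.GoldS.PSLFacts

/-!
Owner: helper24. Centralisers in `PSL(2, q)`, `q = 3 ^ m ≡ 3 (mod 8)`, for groups of Ree type.
-/

set_option autoImplicit false
set_option linter.all false

namespace CfsgLib.LocalEven.GoldS.PSLF

open Matrix CfsgLib.PLocal.SLTwo

variable {F : Type*} [Field F]

theorem lift_commute {x y : S2 F} (h : mk x * mk y = mk y * mk x) (ht : tr y ≠ 0)
    (h2 : (2 : F) ≠ 0) : y * x = x * y := by
  rw [← map_mul, ← map_mul] at h
  rcases mk_eq_mk.1 h with e | e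
  · exact e
  · exfalso
    have e1 : x * y * x⁻¹ = -y := by
      rw [mul_inv_eq_iff_eq_mul, neg_mul, e, neg_neg]
    have := congrArg tr e1
    rw [tr_conj] at this
    simp [tr] at this ht
    exact ht ((mul_eq_zero.1 (show (2 : F) * (y.1 0 0 + y.1 1 1) = 0 by linear_combination this)).resolve_left h2)

theorem sq_eq_neg_one {y : S2 F} (ht : tr y = 0) : y * y = -1 := by
  simp only [tr] at ht
  have hd := det2 y
  have h11 : y.1 1 1 = -y.1 0 0 := by linear_combination ht
  rw [h11] at hd
  refine ext2 ?_ ?_ ?_ ?_ <;> simp [m00, m01, m10, m11, h11]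
  · linear_combination -hd
  · ring
  · ring
  · linear_combination -hd

theorem lift_data {x : P2 F} (hx : x * x ≠ 1) :
    ∃ y : S2 F, mk y = x ∧ NonScalar y ∧ tr y ≠ 0 := by
  obtain ⟨y, rfl⟩ := mk_surjective x
  refine ⟨y, rfl, ?_, ?_⟩
  · intro hc
    have : y * y = 1 := by
      refine ext2 ?_ ?_ ?_ ?_ <;> simp [m00, m01, m10, m11, hc.1, hc.2.1]
      · have := det2 y
        rw [hc.1, hc.2.1, ← hc.2.2] at this
        linear_combination this
      · have := det2 y
        rw [hc.1, hc.2.1, hc.2.2] at this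
        linear_combination this
    exact hx (by rw [← map_mul, this, map_one])
  · intro ht
    exact hx (by rw [← map_mul, sq_eq_neg_one ht, mk_neg, map_one])

/-- centralisers of elements of order `> 2` are abelian -/
theorem comm_of_centralize [CharP F 3] {x a b : P2 F} (hx : x * x ≠ 1) (ha : a * x = x * a)
    (hb : b * x = x * b) : a * b = b * a := by
  obtain ⟨y, rfl, hn, ht⟩ := lift_data hx
  obtain ⟨a', rfl⟩ := mk_surjective a
  obtain ⟨b', rfl⟩ := mk_surjective b
  rw [← map_mul, ← map_mul, commute_of_commute hn (lift_commute ha ht two_ne_zero')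
    (lift_commute hb ht two_ne_zero')]

/-- centralisers of elements of order `> 2` have order at most `q` -/
theorem card_centralizer_le [Fintype F] [CharP F 3] {x : P2 F} (hx : x * x ≠ 1) :
    Nat.card (Subgroup.centralizer ({x} : Set (P2 F))) ≤ Fintype.card F := by
  classical
  obtain ⟨y, rfl, hn, ht⟩ := lift_data hx
  have : Fintype (S2 F) := Fintype.ofFinite _
  set S : Finset (S2 F) := Finset.univ.filter (fun z => y * z = z * y) with hS
  set C : Finset (P2 F) := S.image (fun z => mk z) with hC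
  have h1 : ((Subgroup.centralizer ({mk y} : Set (P2 F))) : Set (P2 F)) ⊆ (C : Set (P2 F)) := by
    intro a ha
    obtain ⟨a', rfl⟩ := mk_surjective a
    simp only [hC, hS, Finset.coe_image, Finset.coe_filter, Finset.mem_univ, true_and]
    exact ⟨a', lift_commute (Subgroup.mem_centralizer_singleton_iff.1 ha) ht two_ne_zero', rfl⟩
  have h2 : Nat.card (Subgroup.centralizer ({mk y} : Set (P2 F))) ≤ C.card := by
    rw [← SetLike.coe_sort_coe, Nat.card_coe_set_eq, ← Set.ncard_coe_finset]
    exact Set.ncard_le_ncard h1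
  -- two preimages for each image
  have h3 : 2 * C.card ≤ S.card := by
    refine Finset.mul_card_image_le_card_of_maps_to (f := fun z => mk z) (t := C)
      (fun z hz => Finset.mem_image_of_mem _ hz) 2 ?_
    intro c hc
    obtain ⟨z, hz, rfl⟩ := Finset.mem_image.1 hc
    have hne : z ≠ -z := by
      intro h
      have h00 := congrArg (fun w : S2 F => w.1 0 0) h
      have h10 := congrArg (fun w : S2 F => w.1 1 0) h
      simp at h00 h10
      have hd := det2 z
      have e0 : z.1 0 0 = 0 := (mul_eq_zero.1 (show (2 : F) * z.1 0 0 = 0 by linear_combination h00)).resolve_left two_ne_zero'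
      have e1 : z.1 1 0 = 0 := (mul_eq_zero.1 (show (2 : F) * z.1 1 0 = 0 by linear_combination h10)).resolve_left two_ne_zero'
      rw [e0, e1] at hd
      simp at hd
    have hz' : y * z = z * y := (Finset.mem_filter.1 hz).2
    refine (Finset.card_pair hne).ge.trans (Finset.card_le_card ?_)
    intro w hw
    simp only [Finset.mem_insert, Finset.mem_singleton] at hw
    rcases hw with rfl | rfl
    · exact Finset.mem_filter.2 ⟨hz, rfl⟩
    · refine Finset.mem_filter.2 ⟨Finset.mem_filter.2 ⟨Finset.mem_univ _, ?_⟩, mk_neg z⟩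
      rw [mul_neg, neg_mul, hz']
  -- the commutant is two-dimensional
  have hex : ∀ z ∈ S, ∃ p : F × F, z.1 0 0 = p.1 * y.1 0 0 + p.2 ∧ z.1 0 1 = p.1 * y.1 0 1 ∧
      z.1 1 0 = p.1 * y.1 1 0 ∧ z.1 1 1 = p.1 * y.1 1 1 + p.2 := fun z hz => by
    obtain ⟨α, β, h⟩ := exists_affine hn (Finset.mem_filter.1 hz).2
    exact ⟨(α, β), h⟩
  choose! φ hφ using hex
  set τ := tr y with hτ
  let P : Finset (F × F) :=
    Finset.univ.filter (fun p => p.2 ^ 2 + τ * p.1 * p.2 + p.1 ^ 2 - 1 = 0)
  have h4 : S.card ≤ P.card := by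
    refine Finset.card_le_card_of_injOn φ (fun z hz => Finset.mem_filter.2 ⟨Finset.mem_univ _, ?_⟩) ?_
    · obtain ⟨a1, a2, a3, a4⟩ := hφ z hz
      have hd := det2 z
      rw [a1, a2, a3, a4] at hd
      have hdy := det2 y
      simp only [hτ, tr]
      linear_combination hd - (φ z).1 ^ 2 * hdy
    · intro z hz z' hz' e
      obtain ⟨a1, a2, a3, a4⟩ := hφ z hz
      obtain ⟨b1, b2, b3, b4⟩ := hφ z' hz'
      rw [← e] at b1 b2 b3 b4
      exact ext2 (a1.trans b1.symm) (a2.trans b2.symm) (a3.trans b3.symm) (a4.trans b4.symm)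
  have h5 : P.card ≤ 2 * Fintype.card F := by
    refine Finset.card_le_mul_card_image (f := fun p : F × F => p.1) P 2 ?_ |>.trans ?_
    · intro α _
      by_contra hlt
      push Not at hlt
      obtain ⟨r, r', r'', hr, hr', hr'', h12, h13, h23⟩ := Finset.two_lt_card_iff.1 hlt
      simp only [P, Finset.mem_filter, Finset.mem_univ, true_and] at hr hr' hr''
      obtain ⟨e, rfl⟩ := hr
      obtain ⟨e', ha'⟩ := hr'
      obtain ⟨e'', ha''⟩ := hr''
      rw [ha'] at e'
      rw [ha''] at e''
      have k1 : (r.2 - r'.2) * (r.2 + r'.2 + τ * r.1) = 0 := by linear_combination e - e'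
      have k2 : (r.2 - r''.2) * (r.2 + r''.2 + τ * r.1) = 0 := by linear_combination e - e''
      have n1 : r.2 - r'.2 ≠ 0 :=
        sub_ne_zero.2 fun h => h12 (Prod.ext ha'.symm h)
      have n2 : r.2 - r''.2 ≠ 0 :=
        sub_ne_zero.2 fun h => h13 (Prod.ext ha''.symm h)
      exact h23 (Prod.ext (ha'.trans ha''.symm) (by
        linear_combination (mul_eq_zero.1 k1).resolve_left n1 - (mul_eq_zero.1 k2).resolve_left n2))
    · exact Nat.mul_le_mul_left 2 (Finset.card_le_univ _)
  omega

/-- there are at most `q (q - 1) / 2` involutions -/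
theorem card_involutions_le [Fintype F] [CharP F 3] (hq : Fintype.card F % 8 = 3) :
    2 * Nat.card {x : P2 F // orderOf x = 2} ≤ Fintype.card F * (Fintype.card F - 1) := by
  classical
  have : Fintype (S2 F) := Fintype.ofFinite _
  set T : Finset (S2 F) := Finset.univ.filter (fun z => tr z = 0) with hT
  have h1 : T.card ≤ Fintype.card F * (Fintype.card F - 1) := by
    have : T.card ≤ ((Finset.univ : Finset F) ×ˢ ((Finset.univ : Finset F).erase 0)).card := by
      have hb : ∀ z ∈ T, z.1 0 1 ≠ 0 := by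
        intro z hz hb
        have ht : tr z = 0 := (Finset.mem_filter.1 hz).2
        simp only [tr] at ht
        have hd := det2 z
        rw [hb, zero_mul, sub_zero] at hd
        have : IsSquare (-1 : F) := ⟨z.1 0 0, by linear_combination hd - z.1 0 0 * ht⟩
        rw [FiniteField.isSquare_neg_one_iff] at this
        omega
      refine Finset.card_le_card_of_injOn (fun z => (z.1 0 0, z.1 0 1)) (fun z hz => ?_) ?_
      · simp only [Finset.coe_product, Set.mem_prod]
        exact ⟨Finset.mem_coe.2 (Finset.mem_univ _),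
          Finset.mem_coe.2 (Finset.mem_erase.2 ⟨hb z hz, Finset.mem_univ _⟩)⟩
      · intro z hz z' hz' e
        simp only [Prod.mk.injEq] at e
        have t1 : tr z = 0 := (Finset.mem_filter.1 hz).2
        have t2 : tr z' = 0 := (Finset.mem_filter.1 hz').2
        simp only [tr] at t1 t2
        have h11 : z.1 1 1 = z'.1 1 1 := by linear_combination t1 - t2 - e.1
        have d1 := det2 z
        have d2 := det2 z'
        rw [e.1, e.2, h11] at d1
        exact ext2 e.1 e.2 (mul_left_cancel₀ (e.2 ▸ hb z hz) (by linear_combination d2 - d1)) h11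
    simpa [Finset.card_product] using this
  have h2 : 2 * (T.image (fun z => mk z)).card ≤ T.card := by
    refine Finset.mul_card_image_le_card_of_maps_to (f := fun z => mk z) (s := T)
      (t := T.image (fun z => mk z)) (fun z hz => Finset.mem_image_of_mem _ hz) 2 ?_
    intro c hc
    obtain ⟨z, hz, rfl⟩ := Finset.mem_image.1 hc
    have ht : tr z = 0 := (Finset.mem_filter.1 hz).2
    have hne : z ≠ -z := by
      intro h
      have hz2 : z * z = -1 := sq_eq_neg_one ht
      have h00 := congrArg (fun w : S2 F => w.1 0 0) h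
      have h01 := congrArg (fun w : S2 F => w.1 0 1) h
      simp at h00 h01
      have e0 : z.1 0 0 = 0 := (mul_eq_zero.1 (show (2 : F) * z.1 0 0 = 0 by linear_combination h00)).resolve_left two_ne_zero'
      have e1 : z.1 0 1 = 0 := (mul_eq_zero.1 (show (2 : F) * z.1 0 1 = 0 by linear_combination h01)).resolve_left two_ne_zero'
      have hd := det2 z
      rw [e0, e1] at hd
      simp at hd
    refine (Finset.card_pair hne).ge.trans (Finset.card_le_card ?_)
    intro w hw
    simp only [Finset.mem_insert, Finset.mem_singleton] at hw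
    rcases hw with rfl | rfl
    · exact Finset.mem_filter.2 ⟨hz, rfl⟩
    · refine Finset.mem_filter.2 ⟨Finset.mem_filter.2 ⟨Finset.mem_univ _, ?_⟩, mk_neg z⟩
      simp only [tr, neg_entry] at ht ⊢
      linear_combination -ht
  have h3 : Nat.card {x : P2 F // orderOf x = 2} ≤ (T.image (fun z => mk z)).card := by
    show Nat.card ↥{x : P2 F | orderOf x = 2} ≤ _
    rw [Nat.card_coe_set_eq, ← Set.ncard_coe_finset]
    refine Set.ncard_le_ncard ?_
    intro x hx
    obtain ⟨z, rfl⟩ := mk_surjective x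
    refine Finset.mem_image.2 ⟨z, Finset.mem_filter.2 ⟨Finset.mem_univ _, ?_⟩, rfl⟩
    have hx2 : orderOf (mk z) = 2 := hx
    have hsq : mk (z * z) = 1 :=
      (map_mul _ _ _).trans ((pow_two _).symm.trans (orderOf_dvd_iff_pow_eq_one.1 (dvd_of_eq hx2)))
    by_contra ht
    rcases mk_eq_one.1 hsq with e | e
    · rcases CfsgLib.Classical.Two.eq_one_or_neg_one_of_sq two_ne_zero' z e with e' | e'
      · have : z = 1 := Subtype.ext e'
        rw [this, map_one, orderOf_one] at hx2
        simp at hx2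
      · have : z = -1 := Subtype.ext (by rw [e']; simp)
        rw [this, mk_neg, map_one, orderOf_one] at hx2
        simp at hx2
    · have h00 := congrArg tr e
      have hd := det2 z
      simp [tr, m00, m11] at h00
      have : tr z ^ 2 = 0 := by simp only [tr]; linear_combination h00 + 2 * hd
      exact ht (pow_eq_zero_iff two_ne_zero |>.1 this)
  omega

/-- an odd subgroup containing the root group lies in the Borel subgroup -/
theorem le_Bs_of_odd [Fintype F] [CharP F 3] {L : Subgroup (P2 F)} (hU : Us F ≤ L)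
    (hodd : Odd (Nat.card L)) : L ≤ Bs F := by
  intro g hg
  by_contra hgB
  have htop := closure_Us hU hg hgB
  have h2 : 2 ∣ Nat.card L := by
    exact dvd_trans (dvd_of_eq (orderOf_ww (F := F)).symm)
      (Subgroup.orderOf_dvd_natCard L (htop ▸ Subgroup.mem_top (ww F)))
  exact (Nat.not_even_iff_odd.2 hodd) (even_iff_two_dvd.2 h2)

/-- `r`-subgroups, `r` odd and different from `3`, are cyclic -/
theorem isCyclic_of_isPGroup [Fintype F] [CharP F 3] (r : ℕ) [Fact r.Prime] (hr : r ≠ 2)
    (hr3 : r ≠ 3) {Q : Subgroup (P2 F)} (hQ : IsPGroup r Q) : IsCyclic Q := by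
  have : Fact (Nat.Prime 3) := ⟨Nat.prime_three⟩
  obtain ⟨P, hP⟩ := hQ.exists_le_sylow
  obtain ⟨R, hR⟩ := Sylow.mapSurjective_surjective (mk_surjective (F := F)) r P
  have := CfsgLib.Classical.Two.isCyclic_sylow_odd 3 r hr hr3 R
  have hc : IsCyclic (P : Subgroup (P2 F)) := by
    rw [← hR]
    exact isCyclic_of_surjective ((mk : S2 F →* P2 F).subgroupMap (R : Subgroup (S2 F)))
      ((mk : S2 F →* P2 F).subgroupMap_surjective _)
  exact isCyclic_of_injective (Subgroup.inclusion hP) (Subgroup.inclusion_injective hP)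

/-- the centraliser of the Weyl involution is non-abelian modulo the involution -/
theorem exists_noncomm_centralizer_ww [Fintype F] [CharP F 3] (hq : Fintype.card F % 8 = 3)
    (hbig : 27 ≤ Fintype.card F) :
    ∃ z s : P2 F, z * ww F = ww F * z ∧ s * ww F = ww F * s ∧
      z * s * z⁻¹ * s⁻¹ ≠ 1 ∧ z * s * z⁻¹ * s⁻¹ ≠ ww F := by
  classical
  obtain ⟨c, d, hcd⟩ : ∃ c d : F, c ^ 2 + d ^ 2 = -1 := by
    obtain ⟨c, d, h⟩ := FiniteField.exists_root_sum_quadratic
      (f := (Polynomial.X ^ 2 : Polynomial F)) (g := Polynomial.X ^ 2 + 1)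
      (Polynomial.degree_X_pow 2) (by compute_degree!) (by omega)
    exact ⟨c, d, by simp at h; linear_combination h⟩
  -- a parameter of the rotation group
  obtain ⟨l, hl⟩ : ∃ l : F,
      l * (1 - l ^ 2) * ((1 - l ^ 2) ^ 2 - (2 * l) ^ 2) ≠ 0 := by
    by_contra hall
    push Not at hall
    let P : Polynomial F :=
      Polynomial.X * (1 - Polynomial.X ^ 2) * ((1 - Polynomial.X ^ 2) ^ 2 - (2 * Polynomial.X) ^ 2)
    have hdeg : P.natDegree ≤ 8 := by
      simp only [P]
      compute_degree
      all_goals omega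
    have hz : P = 0 := Polynomial.eq_zero_of_natDegree_lt_card_of_eval_eq_zero P
      Function.injective_id (fun l => by simp [P, hall l]) (by omega)
    have h2 := congrArg (fun p : Polynomial F => p.derivative.eval 0) hz
    simp [P] at h2
  have hl2 : (1 : F) + l ^ 2 ≠ 0 := fun h => by
    have : IsSquare (-1 : F) := ⟨l, by linear_combination -h⟩
    rw [FiniteField.isSquare_neg_one_iff] at this
    omega
  set a : F := (1 - l ^ 2) / (1 + l ^ 2) with ha
  set b : F := 2 * l / (1 + l ^ 2) with hb
  have hab : a * a - b * (-b) = 1 := by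
    rw [ha, hb]
    field_simp
    ring
  let z : S2 F := ⟨!![a, b; -b, a], by simpa [Matrix.det_fin_two_of] using hab⟩
  let s : S2 F := ⟨!![c, d; d, -c], by simp [Matrix.det_fin_two_of]; linear_combination -hcd⟩
  have z00 : z.1 0 0 = a := rfl
  have z01 : z.1 0 1 = b := rfl
  have z10 : z.1 1 0 = -b := rfl
  have z11 : z.1 1 1 = a := rfl
  have s00 : s.1 0 0 = c := rfl
  have s01 : s.1 0 1 = d := rfl
  have s10 : s.1 1 0 = d := rfl
  have s11 : s.1 1 1 = -c := rfl
  have hK : z * s * z⁻¹ * s⁻¹ = z * z := by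
    refine ext2 ?_ ?_ ?_ ?_ <;>
      simp [m00, m01, m10, m11, i00, i01, i10, i11, z00, z01, z10, z11, s00, s01, s10, s11]
    · linear_combination (-(a ^ 2) + b ^ 2) * hcd
    · linear_combination (-(2 * a * b)) * hcd
    · linear_combination (2 * a * b) * hcd
    · linear_combination (-(a ^ 2) + b ^ 2) * hcd
  have hn : (2 * a * b) ≠ 0 ∧ a ^ 2 - b ^ 2 ≠ 0 := by
    obtain ⟨⟨hl0, hl1⟩, hl3⟩ : (l ≠ 0 ∧ 1 - l ^ 2 ≠ 0) ∧ ((1 - l ^ 2) ^ 2 - (2 * l) ^ 2) ≠ 0 :=
      ⟨⟨left_ne_zero_of_mul (left_ne_zero_of_mul hl), right_ne_zero_of_mul (left_ne_zero_of_mul hl)⟩,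
        right_ne_zero_of_mul hl⟩
    refine ⟨mul_ne_zero (mul_ne_zero two_ne_zero' (div_ne_zero hl1 hl2))
      (div_ne_zero (mul_ne_zero two_ne_zero' hl0) hl2), ?_⟩
    rw [ha, hb, div_pow, div_pow, ← sub_div]
    exact div_ne_zero hl3 (pow_ne_zero _ hl2)
  refine ⟨mk z, mk s, ?_, ?_, ?_, ?_⟩
  · rw [ww, ← map_mul, ← map_mul]
    congr 1
    refine ext2 ?_ ?_ ?_ ?_ <;> simp [m00, m01, m10, m11, z00, z01, z10, z11]
  · rw [ww, ← map_mul, ← map_mul, mk_eq_mk]
    right
    refine ext2 ?_ ?_ ?_ ?_ <;> simp [m00, m01, m10, m11, s00, s01, s10, s11]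
  · rw [← map_inv, ← map_inv, ← map_mul, ← map_mul, ← map_mul, hK, Ne, mk_eq_one]
    rintro (e | e) <;>
    · have := congrArg (fun w : S2 F => w.1 0 1) e
      simp [m01, z00, z01, z11] at this
      exact hn.1 (by linear_combination this)
  · rw [← map_inv, ← map_inv, ← map_mul, ← map_mul, ← map_mul, hK, ww, Ne, mk_eq_mk]
    rintro (e | e) <;>
    · have := congrArg (fun w : S2 F => w.1 0 0) e
      simp [m00, z00, z01, z10] at this
      exact hn.2 (by first | linear_combination this | linear_combination -this)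

end CfsgLib.LocalEven.GoldS.PSLF
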