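import Cfsg.Agent.Lib.LocalEven.GoldS.FamSections
import Cfsg.Agent.Lib.Classical.PSUThreeQd
import Cfsg.Agent.Lib.Classical.Unitary.Transvection

/-!
# Sections of the three-dimensional unitary groups in characteristic two
-/

set_option autoImplicit false
set_option maxHeartbeats 1000000

namespace CfsgLib.LocalEven.GoldS

open CfsgLib.Classical CfsgLib.Classical.Herm
open scoped MatrixGroups

universe u

section form

variable {F : Type*} [Field F] [Finite F] [CharP F 2] {V : Type*} [AddCommGroup V] [Module F V]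
  [FiniteDimensional F V] {σ : F →+* F} {B : V →ₛₗ[σ] V →ₗ[F] F}

variable (h : IsHerm B) (hd : Module.finrank F V = 3)
include h hd

local notation3 "act" g => (((g : HSU B) : HU B) : V ≃ₗ[F] V)

/-- An isometry of odd order fixing an isotropic vector is trivial. -/
theorem eq_one_of_odd_fix (g : HSU B) {m : ℕ} (hm : Odd m) (hgm : g ^ m = 1) {u : V} (hu : u ≠ 0)
    (huu : B u u = 0) (hgu : (act g) u = u) : g = 1 := by
  classical
  obtain ⟨f, hf⟩ := h.exists_apply_eq_one hu
  have hpow : ∀ i : ℕ, (act (g ^ i)) u = u := by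
    intro i
    induction i with
    | zero => rfl
    | succ i ih =>
      have e : (act (g ^ (i + 1))) u = (act g) ((act (g ^ i)) u) := by rw [pow_succ']; rfl
      rw [e, ih, hgu]
  set f₁ : V := ∑ i ∈ Finset.range m, (act (g ^ i)) f with hf₁
  have hm1 : (m : F) = 1 := by
    obtain ⟨j, rfl⟩ := hm
    push_cast
    rw [CharTwo.two_eq_zero, zero_mul, zero_add]
  have hBf : B u f₁ = 1 := by
    rw [hf₁, map_sum, Finset.sum_congr rfl (fun i _ => show B u ((act (g ^ i)) f) = 1 by
      conv_lhs => rw [← hpow i]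
      rw [HU.map_eq (g ^ i).1 u f, hf]), Finset.sum_const, Finset.card_range, nsmul_eq_mul, mul_one, hm1]
  have hgf : (act g) f₁ = f₁ := by
    have e1 : (act g) f₁ = ∑ i ∈ Finset.range m, (act (g ^ (i + 1))) f := by
      rw [hf₁, map_sum]
      exact Finset.sum_congr rfl fun i _ => by rw [pow_succ']; rfl
    have e2 := Finset.sum_range_succ (fun i => (act (g ^ i)) f) m
    rw [Finset.sum_range_succ' (fun i => (act (g ^ i)) f) m, hgm, pow_zero] at e2
    rw [e1, hf₁]
    exact add_right_cancel e2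
  obtain ⟨t, ht⟩ := h.invol.exists_trace_eq (μ := -B f₁ f₁) (by rw [map_neg, h.self_fixed])
  have hfu : B f₁ u = 1 := by rw [← h.symm, hBf, map_one]
  have hvv : B (f₁ + t • u) (f₁ + t • u) = 0 := by
    simp only [map_add, LinearMap.add_apply, Herm.smul_left, Herm.smul_right, huu, hfu, hBf]
    linear_combination ht
  have huv : B u (f₁ + t • u) = 1 := by rw [map_add, Herm.smul_right, huu, hBf, mul_zero, add_zero]
  exact PSUThreeQd.eq_one_of_fix_two h hd g hu (h.linearIndependent_hyperbolic huu hvv huv) huu hvv hgu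
    (by rw [map_add, map_smul, hgf, hgu])

/-- Every 2-local subgroup is 2-by-abelian. -/
theorem exists_char_two (T : Subgroup (HSU B)) (hT : IsPGroup 2 T) (hT1 : T ≠ ⊥) :
    ∃ χ : ↥(Subgroup.normalizer (T : Set (HSU B))) →* Fˣ, IsPGroup 2 χ.ker := by
  classical
  haveI : Fact (Nat.Prime 2) := ⟨Nat.prime_two⟩
  haveI : Finite V := Module.finite_of_finite F
  obtain ⟨u, hu, huu, hfix⟩ := PSUThreeQd.exists_isotropic_fixed h hd T hT
  have hline : ∀ n ∈ Subgroup.normalizer (T : Set (HSU B)), ∃ a : Fˣ, (act n) u = (a : F) • u := by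
    intro n hn
    by_contra hcon
    push Not at hcon
    set v := (act n) u
    have hli : LinearIndependent F ![u, v] := by
      rw [LinearIndependent.pair_iff' hu]
      intro a ha
      have ha0 : a ≠ 0 := fun e => hu ((act n).map_eq_zero_iff.1 (by
        show v = 0
        rw [← ha, e, zero_smul]))
      exact hcon (Units.mk0 a ha0) ha.symm
    refine hT1 ((Subgroup.eq_bot_iff_forall _).2 fun t ht => ?_)
    refine PSUThreeQd.eq_one_of_fix_two h hd t hu hli huu ((HU.map_eq n.1 u u).trans huu) (hfix t ht) ?_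
    have ht' : n⁻¹ * t * n ∈ T := by
      have := (Subgroup.mem_normalizer_iff.1 (inv_mem hn) t).1 ht
      rwa [inv_inv] at this
    have e := hfix _ ht'
    have e2 : (act n) ((act (n⁻¹ * t * n)) u) = (act t) ((act n) u) := by
      show (act (n * (n⁻¹ * t * n))) u = (act (t * n)) u
      rw [← mul_assoc, ← mul_assoc, mul_inv_cancel, one_mul]
    rw [e] at e2
    exact e2.symm
  choose a ha using hline
  let χ : ↥(Subgroup.normalizer (T : Set (HSU B))) →* Fˣ :=
    MonoidHom.mk' (fun n => a n.1 n.2) fun m n => by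
      refine Units.ext (smul_left_injective F hu ?_)
      show ((a (m * n : _).1 (m * n : _).2 : Fˣ) : F) • u = ((a m.1 m.2 * a n.1 n.2 : Fˣ) : F) • u
      rw [← ha, Units.val_mul, mul_comm, mul_smul, ← ha m.1 m.2, ← map_smul, ← ha n.1 n.2]
      rfl
  refine ⟨χ, fun x => ?_⟩
  haveI : Finite (V ≃ₗ[F] V) := Finite.of_injective (fun e : V ≃ₗ[F] V => (e : V → V)) DFunLike.coe_injective
  have ho : orderOf x ≠ 0 := (orderOf_pos x).ne'
  refine ⟨(orderOf x).factorization 2, ?_⟩
  set y := x ^ 2 ^ (orderOf x).factorization 2 with hy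
  set m := orderOf x / 2 ^ (orderOf x).factorization 2 with hm
  have hodd : Odd m := Nat.not_even_iff_odd.mp fun he =>
    Nat.not_dvd_ordCompl Nat.prime_two ho (even_iff_two_dvd.mp he)
  have hym : y ^ m = 1 := by
    rw [hy, ← pow_mul, hm, Nat.ordProj_mul_ordCompl_eq_self, pow_orderOf_eq_one]
  refine Subtype.ext (Subtype.ext ?_)
  refine eq_one_of_odd_fix h hd y.1.1 hodd ?_ hu huu ?_
  · exact congrArg (fun z : χ.ker => (z.1 : HSU B)) hym
  · rw [ha y.1.1 y.1.2, show a y.1.1 y.1.2 = 1 from y.2, Units.val_one, one_smul]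

end form

section psu

variable {K : Type*} [Field K] [Fintype K] [CharP K 2] {q : ℕ}

/-- The unitary group in dimension three over a field of characteristic two does not involve the symmetric group of
degree four. -/
theorem not_involves_four_psu (hK : Fintype.card K = q ^ 2) :
    ¬ Cfsg.Involves (Equiv.Perm (Fin 4)) (Cfsg.PSU 3 K q) := by
  rintro ⟨M, R, hR, ⟨e⟩⟩
  haveI := hR
  let π : ↥(Cfsg.SU 3 K q) →* Cfsg.PSU 3 K q := QuotientGroup.mk' _
  let eU := suEquiv 3 hK
  let H := (M.comap π).map eU.toMonoidHom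
  let r : H →* M := (π.comp (eU.symm.toMonoidHom.comp H.subtype)).codRestrict M fun x => by
    obtain ⟨y, hy, hyx⟩ := x.2
    show π (eU.symm x.1) ∈ M
    rw [← hyx]
    simpa using hy
  have hr : Function.Surjective r := fun m => by
    obtain ⟨y, hy⟩ := QuotientGroup.mk'_surjective _ (m : Cfsg.PSU 3 K q)
    refine ⟨⟨eU y, y, show π y ∈ M from hy ▸ m.2, rfl⟩, Subtype.ext ?_⟩
    show π (eU.symm (eU y)) = _
    rw [MulEquiv.symm_apply_apply]
    exact hy
  haveI : Finite ↥(HSU (hermStd 3 hK)) := Finite.of_equiv _ eU.toEquiv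
  refine not_surjective_four (A := Kˣ)
    (fun T hT hT1 => exists_char_two (hermStd_isHerm hK) (Module.finrank_fin_fun K) T hT hT1)
    H ((e.toMonoidHom.comp (QuotientGroup.mk' (R.subgroupOf M))).comp r) ?_
  exact (e.surjective.comp (QuotientGroup.mk'_surjective _)).comp hr

/-- Permutation matrices give the symmetric group of degree three. -/
theorem involves_three_psu (hK : Fintype.card K = q ^ 2) :
    Cfsg.Involves (Equiv.Perm (Fin 3)) (Cfsg.PSU 3 K q) := by
  have two : (2 : K) = 0 := CharTwo.two_eq_zero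
  let Y₀ : SL(3, K) := ⟨!![0, 1, 0; 0, 0, 1; 1, 0, 0], by simp [Matrix.det_fin_three]⟩
  let S₀ : SL(3, K) := ⟨!![0, 1, 0; 1, 0, 0; 0, 0, 1], by
    simp [Matrix.det_fin_three]; linear_combination -two⟩
  have hY : Y₀ ∈ Cfsg.SU 3 K q := by
    intro u v
    show Cfsg.hermForm 3 K q ((Y₀ : Matrix (Fin 3) (Fin 3) K).mulVec u) ((Y₀ : Matrix (Fin 3) (Fin 3) K).mulVec v) = _
    simp [Y₀, Cfsg.hermForm, Matrix.mulVec, dotProduct, Fin.sum_univ_three]
    ring
  have hS : S₀ ∈ Cfsg.SU 3 K q := by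
    intro u v
    show Cfsg.hermForm 3 K q ((S₀ : Matrix (Fin 3) (Fin 3) K).mulVec u) ((S₀ : Matrix (Fin 3) (Fin 3) K).mulVec v) = _
    simp [S₀, Cfsg.hermForm, Matrix.mulVec, dotProduct, Fin.sum_univ_three]
    ring
  let Y : Cfsg.SU 3 K q := ⟨Y₀, hY⟩
  let S : Cfsg.SU 3 K q := ⟨S₀, hS⟩
  have h1 : (QuotientGroup.mk Y : Cfsg.PSU 3 K q) ≠ 1 := fun e => by
    rw [QuotientGroup.eq_one_iff, Subgroup.mem_center_iff] at e
    have := congrArg (fun Z : Cfsg.SU 3 K q => ((Z : SL(3, K)) : Matrix (Fin 3) (Fin 3) K) 0 0) (e S)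
    simp only [Subgroup.coe_mul, Matrix.SpecialLinearGroup.coe_mul] at this
    simp [Y, S, Y₀, S₀, Matrix.mul_apply, Fin.sum_univ_three] at this
  have hSS : S * S = 1 := Subtype.ext (Subtype.ext (by
    simp only [Subgroup.coe_mul, Subgroup.coe_one, Matrix.SpecialLinearGroup.coe_mul, Matrix.SpecialLinearGroup.coe_one]
    ext i j; fin_cases i <;> fin_cases j <;> simp [S, S₀, Matrix.mul_apply, Fin.sum_univ_three]))
  have hYY : Y * (Y * Y) = 1 := Subtype.ext (Subtype.ext (by
    simp only [Subgroup.coe_mul, Subgroup.coe_one, Matrix.SpecialLinearGroup.coe_mul, Matrix.SpecialLinearGroup.coe_one]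
    ext i j; fin_cases i <;> fin_cases j <;> simp [Y, Y₀, Matrix.mul_apply, Fin.sum_univ_three]))
  have hSY : S * Y = Y * Y * S := Subtype.ext (Subtype.ext (by
    simp only [Subgroup.coe_mul, Matrix.SpecialLinearGroup.coe_mul]
    ext i j; fin_cases i <;> fin_cases j <;> simp [S, Y, S₀, Y₀, Matrix.mul_apply, Fin.sum_univ_three]))
  refine CfsgLib.LocalEven.SFreeOffender.involves_three_of_inverted (a := (QuotientGroup.mk S : Cfsg.PSU 3 K q))
    (y := (QuotientGroup.mk Y : Cfsg.PSU 3 K q)) ?_ ?_ ?_ h1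
  · rw [← QuotientGroup.mk_mul, hSS, QuotientGroup.mk_one]
  · rw [mul_inv_eq_iff_eq_mul, ← QuotientGroup.mk_inv, ← QuotientGroup.mk_mul, ← QuotientGroup.mk_mul,
      inv_eq_of_mul_eq_one_right hYY, hSY]
  · rw [pow_three, ← QuotientGroup.mk_mul, ← QuotientGroup.mk_mul, hYY, QuotientGroup.mk_one]

end psu

end CfsgLib.LocalEven.GoldS
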