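import Cfsg.Agent.Lib.LocalEven.GoldS.FamLinear
import Cfsg.Agent.Lib.LocalEven.GoldS.FamUnitary
import Cfsg.Agent.Lib.Lie.Suzuki.Tori
import Cfsg.Agent.Lib.Recog.JankoOneCentralizer
import Cfsg.Agent.Lib.Recog.JankoOneOrders
import Cfsg.Prelude.Def_LocalEven

/-!
# The Goldschmidt groups other than the groups of Ree type
-/

set_option autoImplicit false

namespace CfsgLib.LocalEven.GoldS

open Subgroup

universe u

variable {G : Type u} [Group G] [Finite G]

theorem comm_sylow_of_sq (h : ∀ x : G, (∃ k, x ^ 2 ^ k = 1) → x * x = 1) (S : Sylow 2 G) :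
    IsMulCommutative (S : Subgroup G) := by
  haveI : Fact (Nat.Prime 2) := ⟨Nat.prime_two⟩
  have hsq : ∀ z : (S : Subgroup G), z⁻¹ = z := fun z => inv_eq_of_mul_eq_one_right (Subtype.ext (by
    obtain ⟨k, hk⟩ := S.isPGroup' z
    exact h z ⟨k, congrArg Subtype.val hk⟩))
  refine ⟨⟨fun a b => ?_⟩⟩
  calc a * b = (a * b)⁻¹ := (hsq _).symm
    _ = b * a := by rw [mul_inv_rev, hsq, hsq]

theorem card_three_of_suzuki (h : Cfsg.Lie.IsoSuzuki G) : ¬ 3 ∣ Nat.card G := by
  obtain ⟨F, iF, iT, m, hm, hF, ⟨e⟩⟩ := h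
  haveI := CfsgLib.Lie.Suzuki.charTwo_of_card hF
  classical
  rw [Nat.card_congr (e.trans (CfsgLib.Lie.Suzuki.equivLie hm hF).symm).toEquiv]
  exact CfsgLib.Lie.Suzuki.not_three_dvd hF hm

/-- The two exceptions do not involve the symmetric group of degree three. -/
theorem not_involves_three (h : Cfsg.IsSuzukiOrPSL2OddPowerThree G) :
    ¬ Cfsg.Involves (Equiv.Perm (Fin 3)) G := by
  intro hi
  rcases h with h | ⟨F, iF, iT, n, hF, ⟨e⟩⟩
  · have hd := card_dvd_of_involves hi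
    rw [show Nat.card (Equiv.Perm (Fin 3)) = 6 by rw [Nat.card_eq_fintype_card, Fintype.card_perm]; rfl] at hd
    exact card_three_of_suzuki h ((show 3 ∣ 6 by norm_num).trans hd)
  · exact not_involves_three_psl hF (involves_congr e hi)

theorem j1_two_elt (h : Cfsg.Spor.IsoJ1 G) {x : G} (hx : ∃ k, x ^ 2 ^ k = 1) : x * x = 1 := by
  obtain ⟨e⟩ := h
  obtain ⟨k, hk⟩ := hx
  refine e.injective ?_
  rw [map_mul, map_one, ← pow_two, ← orderOf_dvd_iff_pow_eq_one]
  obtain ⟨i, -, hi⟩ := (Nat.dvd_prime_pow Nat.prime_two).1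
    (orderOf_dvd_of_pow_eq_one (show e x ^ 2 ^ k = 1 by rw [← map_pow, hk, map_one]))
  have hm := CfsgLib.Recog.JankoOne.orderOf_mem (e x)
  rw [hi] at hm ⊢
  rcases i with _ | _ | i
  · norm_num
  · norm_num
  · exfalso
    have h4 : 4 ∣ 2 ^ (i + 1 + 1) := (show (4 : ℕ) = 2 ^ 2 by norm_num) ▸ pow_dvd_pow 2 (by omega)
    generalize 2 ^ (i + 1 + 1) = M at hm h4
    simp only [List.mem_cons, List.not_mem_nil, or_false] at hm
    omega

theorem j1_involves_three (h : Cfsg.Spor.IsoJ1 G) : Cfsg.Involves (Equiv.Perm (Fin 3)) G := by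
  obtain ⟨e⟩ := h
  obtain ⟨t, -, ⟨c⟩⟩ := CfsgLib.Recog.JankoOne.centralizer_iso
  let ρ : Multiplicative (ZMod 2) × ↥(alternatingGroup (Fin 5)) →* G :=
    e.symm.toMonoidHom.comp ((Subgroup.centralizer ({t} : Set Cfsg.Spor.J1)).subtype.comp c.symm.toMonoidHom)
  have hρ : Function.Injective ρ := e.symm.injective.comp (Subtype.val_injective.comp c.symm.injective)
  let a : ↥(alternatingGroup (Fin 5)) := ⟨Equiv.swap 0 1 * Equiv.swap 3 4, Equiv.Perm.mem_alternatingGroup.2 (by decide)⟩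
  let y : ↥(alternatingGroup (Fin 5)) := ⟨Equiv.swap 0 1 * Equiv.swap 1 2, Equiv.Perm.mem_alternatingGroup.2 (by decide)⟩
  refine CfsgLib.LocalEven.SFreeOffender.involves_three_of_inverted (a := ρ (1, a)) (y := ρ (1, y)) ?_ ?_ ?_ ?_
  · rw [← map_mul, Prod.mk_mul_mk, show a * a = 1 by decide, one_mul]
    exact map_one ρ
  · rw [← map_inv, ← map_inv, ← map_mul, ← map_mul, Prod.inv_mk, Prod.inv_mk, Prod.mk_mul_mk, Prod.mk_mul_mk,
      show a * y * a⁻¹ = y⁻¹ by decide]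
    simp
  · rw [← map_pow, Prod.pow_mk, one_pow, show y ^ 3 = 1 by decide]
    exact map_one ρ
  · intro hy
    have := hρ (hy.trans (map_one ρ).symm)
    exact absurd (congrArg Prod.snd this) (show y ≠ 1 by decide)

/-- The criterion for every Goldschmidt group which is not of Ree type. -/
theorem criterion_of_not_ree
    (h : (∃ (F : Type) (_ : Field F) (_ : Fintype F) (n : ℕ), 3 ≤ n ∧ Fintype.card F = 2 ^ n ∧
        Nonempty (G ≃* Matrix.ProjectiveSpecialLinearGroup (Fin 2) F)) ∨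
      Cfsg.Lie.IsoSuzuki G ∨
      (∃ (F : Type) (_ : Field F) (_ : Fintype F) (n : ℕ), 2 ≤ n ∧ Fintype.card F = 4 ^ n ∧
        Nonempty (G ≃* Cfsg.PSU 3 F (2 ^ n))) ∨
      (∃ (F : Type) (_ : Field F) (_ : Fintype F) (q : ℕ), Fintype.card F = q ∧ 5 ≤ q ∧ (q % 8 = 3 ∨ q % 8 = 5) ∧
        Nonempty (G ≃* Matrix.ProjectiveSpecialLinearGroup (Fin 2) F)) ∨
      Cfsg.Spor.IsoJ1 G) :
    ¬ Cfsg.Involves (Equiv.Perm (Fin 4)) G ∧
      (¬ Cfsg.Involves (Equiv.Perm (Fin 3)) G ↔ Cfsg.IsSuzukiOrPSL2OddPowerThree G) := by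
  classical
  suffices key : ¬ Cfsg.Involves (Equiv.Perm (Fin 4)) G ∧
      (Cfsg.IsSuzukiOrPSL2OddPowerThree G ∨ Cfsg.Involves (Equiv.Perm (Fin 3)) G) from
    ⟨key.1, fun hn => key.2.resolve_right hn, not_involves_three⟩
  rcases h with ⟨F, iF, iT, n, hn, hF, ⟨e⟩⟩ | h | ⟨F, iF, iT, n, hn, hF, ⟨e⟩⟩ | ⟨F, iF, iT, q, hF, hq5, hq, ⟨e⟩⟩ | h
  · haveI : CharP F 2 := charP_of_card_eq_prime_pow hF
    refine ⟨fun hi => not_involves_four_of_comm_sylow (comm_sylow_of_sq fun x ⟨k, hk⟩ => sq_one_psl hk)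
      (involves_congr e hi), Or.inr (involves_congr e.symm (involves_three_psl (a := 1) (b := 0) ?_))⟩
    linear_combination (CharTwo.two_eq_zero : (2 : F) = 0)
  · refine ⟨fun hi => card_three_of_suzuki h ((?_ : 3 ∣ Nat.card (Equiv.Perm (Fin 4))).trans
      (card_dvd_of_involves hi)), Or.inl (Or.inl h)⟩
    rw [Nat.card_eq_fintype_card, Fintype.card_perm]; decide
  · haveI : CharP F 2 := charP_of_card_eq_prime_pow (f := 2 * n) (by rw [hF, pow_mul]; norm_num)
    have hK : Fintype.card F = (2 ^ n) ^ 2 := by rw [hF, ← pow_mul, mul_comm, pow_mul]; norm_num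
    exact ⟨fun hi => not_involves_four_psu hK (involves_congr e hi),
      Or.inr (involves_congr e.symm (involves_three_psu hK))⟩
  · refine ⟨fun hi => not_involves_four_of_comm_sylow (fun P => ?_) (involves_congr e hi), ?_⟩
    · haveI := CfsgLib.Classical.Two.isKleinFour_sylow_PSL hF hq P
      exact comm_of_klein _
    by_cases h3 : (3 : F) = 0
    · obtain ⟨p, hp⟩ := CharP.exists F
      obtain ⟨k, hpp, hk⟩ := FiniteField.card F p
      have hp3 : p = 3 := ((Nat.prime_dvd_prime_iff_eq hpp Nat.prime_three).1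
        ((CharP.cast_eq_zero_iff F p 3).1 (by exact_mod_cast h3)))
      subst hp3
      rw [hF] at hk
      rcases Nat.even_or_odd' (k : ℕ) with ⟨j, hj | hj⟩
      · exfalso
        have : q % 8 = 1 := by rw [hk, hj, pow_mul, Nat.pow_mod]; norm_num
        omega
      · exact Or.inl (Or.inr ⟨F, iF, iT, j, by rw [hF, hk, hj], ⟨e⟩⟩)
    · obtain ⟨a, b, hab⟩ := exists_norm_neg_one h3
      exact Or.inr (involves_congr e.symm (involves_three_psl hab))
  · exact ⟨not_involves_four_of_comm_sylow (comm_sylow_of_sq fun x hx => j1_two_elt h hx),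
      Or.inr (j1_involves_three h)⟩
where
  comm_of_klein {K : Type} [Group K] (H : Subgroup K) [IsKleinFour H] : IsMulCommutative H :=
    ⟨⟨fun a b => mul_comm_of_exponent_two IsKleinFour.exponent_two a b⟩⟩

end CfsgLib.LocalEven.GoldS
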