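import Mathlib

/-!
Owner: helper24. An involution acting by conjugation on subgroups of odd order: fixed and inverted elements.
-/

set_option autoImplicit false
set_option linter.all false

namespace CfsgLib.LocalEven.GoldS

open Subgroup

variable {G : Type*} [Group G]

/-- `x` is inverted by `t` -/
def Inverted (t x : G) : Prop := t * x * t⁻¹ = x⁻¹

namespace Inverted

variable {t x y : G}

theorem pow (h : Inverted t x) (n : ℕ) : Inverted t (x ^ n) := by
  unfold Inverted at *
  rw [← conj_pow, h, inv_pow]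

theorem zpow (h : Inverted t x) (n : ℤ) : Inverted t (x ^ n) := by
  unfold Inverted at *
  rw [← conj_zpow, h, inv_zpow]

theorem inv (h : Inverted t x) : Inverted t x⁻¹ := by
  simpa using h.zpow (-1)

theorem one (t : G) : Inverted t (1 : G) := by simp [Inverted]

theorem mem_of_zpowers (h : Inverted t x) (hy : y ∈ zpowers x) : Inverted t y := by
  obtain ⟨n, rfl⟩ := hy
  exact h.zpow n

end Inverted

theorem commute_iff_conj {t x : G} : t * x = x * t ↔ t * x * t⁻¹ = x := mul_inv_eq_iff_eq_mul.symm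

/-- square roots of elements of odd order -/
theorem exists_sq [Finite G] {x : G} (ho : Odd (orderOf x)) : ∃ y ∈ zpowers x, y * y = x := by
  obtain ⟨j, hj⟩ := ho
  refine ⟨x ^ (j + 1), pow_mem (mem_zpowers x) _, ?_⟩
  rw [← pow_add, show j + 1 + (j + 1) = orderOf x + 1 by omega, pow_succ, pow_orderOf_eq_one, one_mul]

/-- an element of odd order commuting with the square root data -/
theorem commute_of_commute_sq [Finite G] {x z : G} (ho : Odd (orderOf x)) (h : z * (x * x) = x * x * z) :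
    z * x = x * z := by
  obtain ⟨j, hj⟩ := ho
  have hx : x = (x * x) ^ (j + 1) := by
    rw [← pow_two, ← pow_mul, show 2 * (j + 1) = orderOf x + 1 by omega, pow_succ,
      pow_orderOf_eq_one, one_mul]
  rw [hx]
  exact Commute.pow_right h (j + 1)

theorem eq_one_of_fixed_inverted [Finite G] {t x : G} (ho : Odd (orderOf x)) (h1 : t * x = x * t)
    (h2 : Inverted t x) : x = 1 := by
  have e : x⁻¹ = x := h2.symm.trans (commute_iff_conj.1 h1)
  have h3 : orderOf x ∣ 2 := orderOf_dvd_of_pow_eq_one (by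
    rw [pow_two]; nth_rewrite 1 [← e]; exact inv_mul_cancel x)
  rcases (Nat.dvd_prime Nat.prime_two).1 h3 with h | h
  · exact orderOf_eq_one_iff.1 h
  · rw [h] at ho; exact absurd ho (by decide)

/-- fixed times inverted -/
theorem exists_fixed_mul_inverted [Finite G] {t : G} (ht : t * t = 1) {Y : Subgroup G}
    (hodd : Odd (Nat.card Y)) (hn : ∀ y ∈ Y, t * y * t⁻¹ ∈ Y) {x : G} (hx : x ∈ Y) :
    ∃ f i, f ∈ Y ∧ i ∈ Y ∧ t * f = f * t ∧ Inverted t i ∧ x = f * i := by
  have ht' : t⁻¹ = t := inv_eq_of_mul_eq_one_right ht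
  set d := (t * x * t⁻¹)⁻¹ * x with hd
  have hdY : d ∈ Y := Y.mul_mem (Y.inv_mem (hn x hx)) hx
  have hdo : Odd (orderOf d) := hodd.of_dvd_nat (Y.orderOf_dvd_natCard hdY)
  obtain ⟨i, hi, hii⟩ := exists_sq hdo
  have hdinv : Inverted t d := by
    show t * ((t * x * t⁻¹)⁻¹ * x) * t⁻¹ = ((t * x * t⁻¹)⁻¹ * x)⁻¹
    simp only [mul_inv_rev, ht', inv_inv]
    calc t * (t * (x⁻¹ * t) * x) * t = (t * t) * x⁻¹ * (t * x * t) := by group
      _ = x⁻¹ * (t * x * t) := by rw [ht, one_mul]
      _ = _ := by group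
  have hiY : i ∈ Y := (zpowers_le.2 hdY) hi
  have hinv : t * i * t⁻¹ = i⁻¹ := hdinv.mem_of_zpowers hi
  refine ⟨x * i⁻¹, i, Y.mul_mem hx (Y.inv_mem hiY), hiY, ?_, hinv, by group⟩
  rw [commute_iff_conj, show t * (x * i⁻¹) * t⁻¹ = (t * x * t⁻¹) * (t * i * t⁻¹)⁻¹ by group, hinv,
    inv_inv, show t * x * t⁻¹ = x * d⁻¹ by rw [hd]; group, ← hii]
  group

/-- without fixed points everything is inverted -/
theorem inverted_of_no_fixed [Finite G] {t : G} (ht : t * t = 1) {Y : Subgroup G}
    (hodd : Odd (Nat.card Y)) (hn : ∀ y ∈ Y, t * y * t⁻¹ ∈ Y)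
    (hfix : ∀ y ∈ Y, t * y = y * t → y = 1) {x : G} (hx : x ∈ Y) : Inverted t x := by
  obtain ⟨f, i, hf, -, hft, hinv, rfl⟩ := exists_fixed_mul_inverted ht hodd hn hx
  rw [hfix f hf hft, one_mul]
  exact hinv

/-- a subgroup all of whose elements are inverted is abelian -/
theorem comm_of_inverted {t : G} {Y : Subgroup G} (h : ∀ y ∈ Y, Inverted t y) {a b : G}
    (ha : a ∈ Y) (hb : b ∈ Y) : a * b = b * a := by
  have e := h _ (Y.mul_mem ha hb)
  unfold Inverted at e
  rw [show t * (a * b) * t⁻¹ = (t * a * t⁻¹) * (t * b * t⁻¹) by group, h a ha, h b hb,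
    ← mul_inv_rev] at e
  exact (inv_injective e).symm

/-- an inverted element normalising a set of inverted elements centralises it -/
theorem commute_of_inverted_normalize [Finite G] {t i x : G} (ho : Odd (orderOf i))
    (hi : Inverted t i) (hx : Inverted t x) (hix : Inverted t (i * x * i⁻¹)) : i * x = x * i := by
  have e : i * x⁻¹ * i⁻¹ = i⁻¹ * x⁻¹ * i := by
    rw [Inverted, show t * (i * x * i⁻¹) * t⁻¹
      = (t * i * t⁻¹) * (t * x * t⁻¹) * (t * i * t⁻¹)⁻¹ by group, hi, hx, inv_inv] at hix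
    rw [hix]; group
  have h2 : x⁻¹ * (i * i) = i * i * x⁻¹ := by
    calc x⁻¹ * (i * i) = i * (i⁻¹ * x⁻¹ * i) * i := by group
      _ = i * (i * x⁻¹ * i⁻¹) * i := by rw [e]
      _ = _ := by group
  have h3 : x⁻¹ * i = i * x⁻¹ := commute_of_commute_sq ho h2
  calc i * x = x * (x⁻¹ * i) * x := by group
    _ = x * (i * x⁻¹) * x := by rw [h3]
    _ = x * i := by group

end CfsgLib.LocalEven.GoldS
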