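import Cfsg.Agent.Lib.LocalEven.GoldS.Ctx
import Cfsg.Agent.Lib.LocalEven.GoldS.Inverted
import Cfsg.Agent.Lib.InvCentTwoNilp.SylP
import Cfsg.Agent.Lib.Char.Exceptional.Quaternion

/-!
Owner: helper24. Groups of Ree type without real elements of order 3: first tools.
-/

set_option autoImplicit false
set_option linter.all false

namespace CfsgLib.LocalEven.GoldS

open Subgroup PSLF

/-- no involution inverts an element of order three -/
def NoReal (G : Type*) [Group G] : Prop :=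
  ∀ s y : G, orderOf s = 2 → orderOf y = 3 → s * y * s⁻¹ ≠ y⁻¹

variable {G : Type*} [Group G]

/-- inverted elements centralise fixed elements which they normalise into fixed ones -/
theorem commute_of_inverted_fixed [Finite G] {t i x : G} (ho : Odd (orderOf i))
    (hi : Inverted t i) (hx : t * x * t⁻¹ = x) (hix : t * (i * x * i⁻¹) * t⁻¹ = i * x * i⁻¹) :
    i * x = x * i := by
  rw [show t * (i * x * i⁻¹) * t⁻¹
    = (t * i * t⁻¹) * (t * x * t⁻¹) * (t * i * t⁻¹)⁻¹ by group, hi, hx, inv_inv] at hix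
  have h2 : x * (i * i) = i * i * x := by
    calc x * (i * i) = i * (i⁻¹ * x * i) * i := by group
      _ = i * (i * x * i⁻¹) * i := by rw [hix]
      _ = _ := by group
  exact (commute_of_commute_sq ho h2).symm

/-- the square root conjugates `t` to `o t` -/
theorem conj_of_sq {t r o : G} (hr : Inverted t r) (h : r * r = o) : r * t * r⁻¹ = o * t := by
  have e : t * r⁻¹ = r * t := by
    have := hr.inv
    rw [Inverted, inv_inv] at this
    exact mul_inv_eq_iff_eq_mul.1 this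
  rw [mul_assoc, e, ← mul_assoc, h]

namespace Ctx

variable {F : Type*} [Field F] [Fintype F] (c : Ctx G F)

/-- transport to a conjugate involution -/
def move (g : G) : Ctx G F where
  t := g * c.t * g⁻¹
  ι := (MulAut.conj g).toMonoidHom.comp c.ι
  simp := c.simp
  ncomm := c.ncomm
  hq := c.hq
  hbig := c.hbig
  ht := ((MulAut.conj g).orderOf_eq c.t).trans c.ht
  inj := (MulAut.conj g).injective.comp c.inj
  tnot := by
    rintro ⟨k, hk⟩
    exact c.tnot ⟨k, (MulAut.conj g).injective hk⟩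
  hidx := by
    have : centralizer ({g * c.t * g⁻¹} : Set G)
        = (centralizer ({c.t} : Set G)).map (MulAut.conj g : G ≃* G).toMonoidHom := by
      ext x
      rw [mem_map_equiv, MulAut.conj_symm_apply, mem_centralizer_singleton_iff,
        mem_centralizer_singleton_iff]
      constructor
      · intro h
        calc g⁻¹ * x * g * c.t = g⁻¹ * (x * (g * c.t * g⁻¹)) * g := by group
          _ = g⁻¹ * (g * c.t * g⁻¹ * x) * g := by rw [h]
          _ = _ := by group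
      · intro h
        calc x * (g * c.t * g⁻¹) = g * (g⁻¹ * x * g * c.t) * g⁻¹ := by group
          _ = g * (c.t * (g⁻¹ * x * g)) * g⁻¹ := by rw [h]
          _ = _ := by group
    rw [this]
    rw [Subgroup.index_map_of_bijective (f := (MulAut.conj g : G ≃* G).toMonoidHom) (MulAut.conj g).bijective]
    exact c.hidx
  hC x := by
    have h1 : x * (g * c.t * g⁻¹) = g * c.t * g⁻¹ * x ↔
        g⁻¹ * x * g * c.t = c.t * (g⁻¹ * x * g) := by
      constructor <;> intro h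
      · calc g⁻¹ * x * g * c.t = g⁻¹ * (x * (g * c.t * g⁻¹)) * g := by group
          _ = g⁻¹ * (g * c.t * g⁻¹ * x) * g := by rw [h]
          _ = _ := by group
      · calc x * (g * c.t * g⁻¹) = g * (g⁻¹ * x * g * c.t) * g⁻¹ := by group
          _ = g * (c.t * (g⁻¹ * x * g)) * g⁻¹ := by rw [h]
          _ = _ := by group
    rw [h1, c.hC]
    refine or_congr ⟨?_, ?_⟩ ⟨?_, ?_⟩
    · rintro ⟨k, hk⟩
      exact ⟨k, by show g * c.ι k * g⁻¹ = x; rw [hk]; group⟩
    · rintro ⟨k, hk⟩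
      exact ⟨k, by rw [← hk]; show _ = g⁻¹ * (g * c.ι k * g⁻¹) * g; group⟩
    · rintro ⟨k, hk⟩
      exact ⟨k, by show g * c.ι k * g⁻¹ = _; rw [hk]; group⟩
    · rintro ⟨k, hk⟩
      refine ⟨k, ?_⟩
      have hk' : g * c.ι k * g⁻¹ = g * c.t * g⁻¹ * x := hk
      calc c.ι k = g⁻¹ * (g * c.ι k * g⁻¹) * g := by group
        _ = g⁻¹ * (g * c.t * g⁻¹ * x) * g := by rw [hk']
        _ = _ := by group

/-- the root group of `K` -/
def U : Subgroup G := (Us F).map c.ι

/-- the torus of `K` -/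
def H : Subgroup G := (Hs F).map c.ι

/-- the Weyl involution of `K` -/
def w : G := c.ι (ww F)

theorem U_le_Ct : c.U ≤ c.Ct := (map_le_range _ _).trans c.K_le_Ct

theorem H_le_Ct : c.H ≤ c.Ct := (map_le_range _ _).trans c.K_le_Ct

theorem w_mem_Ct : c.w ∈ c.Ct := c.ι_mem_Ct _

theorem U_comm {x y : G} (hx : x ∈ c.U) (hy : y ∈ c.U) : x * y = y * x := by
  obtain ⟨a, ha, rfl⟩ := hx
  obtain ⟨b, hb, rfl⟩ := hy
  rw [← map_mul, ← map_mul, Us_comm ha hb]

theorem H_comm {x y : G} (hx : x ∈ c.H) (hy : y ∈ c.H) : x * y = y * x := by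
  obtain ⟨a, ha, rfl⟩ := hx
  obtain ⟨b, hb, rfl⟩ := hy
  rw [← map_mul, ← map_mul, Hs_comm ha hb]

theorem card_U : Nat.card c.U = Fintype.card F :=
  (Nat.card_congr (Subgroup.equivMapOfInjective _ _ c.inj).symm.toEquiv).trans card_Us

theorem card_H_eq : Nat.card c.H = Nat.card (Hs F) :=
  Nat.card_congr (Subgroup.equivMapOfInjective _ _ c.inj).symm.toEquiv

theorem t_conj_U {x : G} (hx : x ∈ c.U) : c.t * x * c.t⁻¹ = x :=
  commute_iff_conj.1 (c.mem_Ct.1 (c.U_le_Ct hx)).symm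

theorem U_cube [CharP F 3] {x : G} (hx : x ∈ c.U) : x ^ 3 = 1 := by
  obtain ⟨a, ha, rfl⟩ := hx
  rw [← map_pow, Us_cube ha, map_one]

theorem U_isPGroup [CharP F 3] : IsPGroup 3 c.U := fun x =>
  ⟨1, Subtype.ext (by rw [pow_one]; exact c.U_cube x.2)⟩

theorem U_odd [CharP F 3] [Finite G] : Odd (Nat.card c.U) := by
  haveI : Fact (Nat.Prime 3) := ⟨Nat.prime_three⟩
  obtain ⟨n, hn⟩ := IsPGroup.iff_card.1 (c.U_isPGroup (G := G))
  rw [hn]
  exact Odd.pow (by decide)

theorem t_not_U [CharP F 3] : c.t ∉ c.U := fun h => c.tnot (map_le_range _ _ h)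

theorem centralizer_U_Ct [CharP F 3] {x v : G} (hx : x ∈ c.Ct) (hv : v ∈ c.U) (hv1 : v ≠ 1)
    (hc : x * v = v * x) : x ∈ c.U ∨ c.t * x ∈ c.U := by
  obtain ⟨_, ⟨s, rfl⟩, rfl⟩ := hv
  have hs : s ≠ 0 := fun h => hv1 (by rw [h, u_zero, map_one])
  obtain ⟨k, h | h⟩ := c.decomp hx
  · subst h
    rw [← map_mul, ← map_mul] at hc
    exact Or.inl ⟨k, centralizer_u hs (c.inj hc), rfl⟩
  · subst h
    refine Or.inr ?_
    rw [← mul_assoc, c.t_sq, one_mul]
    have h1 : c.ι k * c.ι (u s) = c.ι (u s) * c.ι k := by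
      refine mul_left_cancel (a := c.t) ?_
      rw [← mul_assoc, hc, ← mul_assoc, ← mul_assoc, c.ι_comm]
    rw [← map_mul, ← map_mul] at h1
    exact ⟨k, centralizer_u hs (c.inj h1), rfl⟩

/-- an involution generates a Sylow 2-subgroup when nothing else of order two commutes with it -/
theorem exists_odd_part [Finite G] {t : G} (ht : orderOf t = 2)
    (hab : ∀ S : Sylow 2 G, IsMulCommutative (S : Subgroup G)) {X : Subgroup G} (htX : t ∈ X)
    (h : ∀ x ∈ X, x * t = t * x → (∃ k, orderOf x = 2 ^ k) → x = 1 ∨ x = t) :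
    ∃ O : Subgroup G, O ≤ X ∧ Odd (Nat.card O) ∧ (∀ x, x ∈ O ↔ x ∈ X ∧ Odd (orderOf x)) ∧
      (∀ x ∈ X, x ∈ O ∨ x * t ∈ O) ∧ ∀ x ∈ O, t * x * t⁻¹ ∈ O := by
  classical
  haveI : Fact (Nat.Prime 2) := ⟨Nat.prime_two⟩
  have htp : IsPGroup 2 (zpowers (⟨t, htX⟩ : X)) :=
    IsPGroup.of_card (n := 1) (by rw [Nat.card_zpowers, Subgroup.orderOf_mk, ht, pow_one])
  obtain ⟨P, hP⟩ := htp.exists_le_sylow
  obtain ⟨S, hS⟩ := (P.isPGroup'.map X.subtype).exists_le_sylow
  haveI := hab S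
  have hcyc : ∀ x : X, x ∈ (P : Subgroup X) → x ∈ zpowers (⟨t, htX⟩ : X) := by
    intro x hx
    obtain ⟨k, hk⟩ := IsPGroup.iff_orderOf.1 P.isPGroup' ⟨x, hx⟩
    have hcm : (x : G) * t = t * x := congrArg Subtype.val (mul_comm'
      (⟨x, hS ⟨x, hx, rfl⟩⟩ : (S : Subgroup G)) ⟨t, hS ⟨⟨t, htX⟩, hP (mem_zpowers _), rfl⟩⟩)
    rcases h x x.2 hcm ⟨k, by rw [Subgroup.orderOf_coe]; rw [Subgroup.orderOf_mk] at hk; exact hk⟩
      with e | e
    · rw [show x = 1 from Subtype.ext e]; exact one_mem _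
    · rw [show x = ⟨t, htX⟩ from Subtype.ext e]; exact mem_zpowers _
  have hPeq : (P : Subgroup X) = zpowers (⟨t, htX⟩ : X) := le_antisymm hcyc hP
  haveI : IsCyclic (P : Subgroup X) := by rw [hPeq]; infer_instance
  obtain ⟨K, hKodd, hKsup, hK⟩ :=
    CfsgLib.Char.Exceptional.exists_odd_complement_of_cyclic P inferInstance
  have hmem : ∀ x, x ∈ K.map X.subtype ↔ x ∈ X ∧ Odd (orderOf x) := by
    intro x
    constructor
    · rintro ⟨y, hy, rfl⟩
      exact ⟨y.2, by rw [Subgroup.coe_subtype, Subgroup.orderOf_coe]; exact (hK y).1 hy⟩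
    · rintro ⟨hx, ho⟩
      exact ⟨⟨x, hx⟩, (hK _).2 (by rwa [Subgroup.orderOf_mk]), rfl⟩
  have hKn : K.Normal := ⟨fun n hn g => (hK _).2 (by
    rw [show orderOf (g * n * g⁻¹) = orderOf n from (MulAut.conj g).orderOf_eq n]
    exact (hK n).1 hn)⟩
  refine ⟨K.map X.subtype, map_subtype_le _, ?_, hmem, fun x hx => ?_, fun x hx => ?_⟩
  · rw [card_map_of_injective X.subtype_injective]; exact hKodd
  · have hx' : (⟨x, hx⟩ : X) ∈ K ⊔ (P : Subgroup X) := hKsup ▸ mem_top _
    obtain ⟨k, hk, p, hp, e⟩ := Subgroup.mem_sup_of_normal_left.1 hx'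
    have ex : x = (k : G) * (p : G) := congrArg Subtype.val e.symm
    rw [hPeq] at hp
    obtain ⟨j, hj⟩ := hp
    have hp' : (p : G) = 1 ∨ (p : G) = t := by
      rw [← hj]
      show t ^ j = 1 ∨ t ^ j = t
      rw [← zpow_mod_orderOf, ht]
      rcases Int.emod_two_eq j with e | e <;> simp [e]
    rcases hp' with e' | e'
    · exact Or.inl ⟨k, hk, by rw [ex, e', mul_one]; rfl⟩
    · refine Or.inr ⟨k, hk, ?_⟩
      have htt : t * t = 1 := by rw [← pow_two, ← ht, pow_orderOf_eq_one]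
      rw [ex, e', mul_assoc, htt, mul_one]
      rfl
  · obtain ⟨h1, h2⟩ := (hmem x).1 hx
    exact (hmem _).2 ⟨X.mul_mem (X.mul_mem htX h1) (X.inv_mem htX),
      by rwa [show orderOf (t * x * t⁻¹) = orderOf x from (MulAut.conj t).orderOf_eq x]⟩

end Ctx

end CfsgLib.LocalEven.GoldS
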