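import Cfsg.Agent.Lib.LocalEven.GoldS.Ctx
import Cfsg.Agent.Lib.LocalEven.GoldS.Tools
import Cfsg.Agent.Lib.LocalEven.GoldS.Families
import Cfsg.Agent.Lib.LocalEven.OffenderStep
import Cfsg.Prelude.Def_LocalEven

/-!
Owner: helper24. Groups of Ree type: the context of the character argument, and the reduction of the two
criteria to the existence of a real element of order three.
-/

set_option autoImplicit false

namespace CfsgLib.LocalEven.GoldS

open Subgroup PSLF

universe u

variable {G : Type u} [Group G]

theorem pow_three_mod_eight (n : ℕ) : 3 ^ (2 * n + 1) % 8 = 3 := by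
  rw [pow_succ, pow_mul, Nat.mul_mod, Nat.pow_mod]
  norm_num

/-- A group of Ree type gives a context over a field of characteristic three. -/
theorem exists_ctx (h : Cfsg.IsReeType G) :
    ∃ (F : Type) (_ : Field F) (_ : Fintype F), CharP F 3 ∧ Nonempty (Ctx G F) := by
  obtain ⟨hs, hn, t, K, n, hn1, ht, hidx, ⟨-, hK, hcomm, hinf, hsup⟩, F, iF, iT, hcard, ⟨e⟩⟩ := h
  have : Fact (Nat.Prime 3) := ⟨Nat.prime_three⟩
  refine ⟨F, iF, iT, charP_of_card_eq_prime_pow (f := 2 * n + 1) hcard, ?_⟩
  have htt : t * t = 1 := by
    rw [← pow_two]; exact orderOf_dvd_iff_pow_eq_one.1 (dvd_of_eq ht)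
  have hrange : (K.subtype.comp e.symm.toMonoidHom).range = K := by
    refine le_antisymm ?_ fun x hx => ⟨e ⟨x, hx⟩, by simp⟩
    rintro _ ⟨y, rfl⟩
    exact (e.symm y).2
  refine ⟨{
    t := t
    ι := K.subtype.comp e.symm.toMonoidHom
    simp := hs
    ncomm := hn
    hq := ?_
    hbig := ?_
    ht := ht
    inj := K.subtype_injective.comp e.symm.injective
    hC := ?_
    hidx := hidx
    tnot := ?_ }⟩
  · rw [hcard]; exact pow_three_mod_eight n
  · rw [hcard]
    calc (27 : ℕ) = 3 ^ 3 := by norm_num
      _ ≤ 3 ^ (2 * n + 1) := Nat.pow_le_pow_right (by norm_num) (by omega)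
  · intro x
    rw [hrange, ← mem_centralizer_singleton_iff, ← hsup]
    constructor
    · intro hx
      have hkt : ∀ k ∈ K, k * t = t * k := fun k hk => (hcomm t (mem_zpowers t) k hk).symm
      let M : Subgroup G :=
        { carrier := {y | y ∈ K ∨ t * y ∈ K}
          one_mem' := Or.inl K.one_mem
          mul_mem' := by
            rintro a b (ha | ha) (hb | hb)
            · exact Or.inl (K.mul_mem ha hb)
            · exact Or.inr (by rw [← mul_assoc, ← hkt a ha, mul_assoc]; exact K.mul_mem ha hb)
            · exact Or.inr (by rw [← mul_assoc]; exact K.mul_mem ha hb)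
            · left
              have h2 := K.mul_mem ha hb
              have e1 : t * a * t = a := by rw [hkt _ ha, ← mul_assoc, htt, one_mul]
              rwa [← mul_assoc, e1] at h2
          inv_mem' := by
            rintro a (ha | ha)
            · exact Or.inl (K.inv_mem ha)
            · right
              have e1 : t * a * t = a := by rw [hkt _ ha, ← mul_assoc, htt, one_mul]
              have e2 : t * a = a * t := by
                conv_rhs => rw [← e1]
                rw [mul_assoc (t * a), htt, mul_one]
              have h2 := K.inv_mem ha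
              rwa [e2, mul_inv_rev, inv_eq_of_mul_eq_one_right htt] at h2 }
      exact (sup_le (zpowers_le.2 (Or.inr (by rw [htt]; exact K.one_mem))) (fun k hk => Or.inl hk) :
        zpowers t ⊔ K ≤ M) hx
    · rintro (hx | hx)
      · exact mem_sup_right hx
      · have h2 := mul_mem (mem_sup_left (T := K) (mem_zpowers t)) (mem_sup_right (S := zpowers t) hx)
        rwa [← mul_assoc, htt, one_mul] at h2
  · rw [hrange]
    intro htK
    have h1 : t ∈ zpowers t ⊓ K := ⟨mem_zpowers t, htK⟩
    rw [hinf, mem_bot] at h1
    rw [h1, orderOf_one] at ht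
    omega

/-- An element of order three inverted by an involution gives both parts of the criterion for the groups of
Ree type. -/
theorem criterion_of_real [Finite G] {F : Type} [Field F] [Fintype F] (c : Ctx G F) (hr : ¬ NoReal G) :
    ¬ Cfsg.Involves (Equiv.Perm (Fin 4)) G ∧
      (¬ Cfsg.Involves (Equiv.Perm (Fin 3)) G ↔ Cfsg.IsSuzukiOrPSL2OddPowerThree G) := by
  refine ⟨not_involves_four_of_comm_sylow c.sylow_comm, fun hn => absurd ?_ hn, not_involves_three⟩
  obtain ⟨s, y, hs, hy, hsy⟩ : ∃ s y : G, orderOf s = 2 ∧ orderOf y = 3 ∧ s * y * s⁻¹ = y⁻¹ := by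
    by_contra h
    exact hr fun s y hs hy e => h ⟨s, y, hs, hy, e⟩
  refine CfsgLib.LocalEven.SFreeOffender.involves_three_of_inverted (a := s) ?_ hsy ?_ ?_
  · rw [← pow_two]; exact orderOf_dvd_iff_pow_eq_one.1 (dvd_of_eq hs)
  · exact orderOf_dvd_iff_pow_eq_one.1 (dvd_of_eq hy)
  · intro h
    rw [h, orderOf_one] at hy
    omega

end CfsgLib.LocalEven.GoldS
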