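import Cfsg.Agent.Lib.Char.Complete
import Cfsg.Agent.Lib.Char.AbelianInertia
import Mathlib.GroupTheory.FiniteAbelian.Duality
import Mathlib.Analysis.Complex.Polynomial.Basic
import Mathlib.RingTheory.RootsOfUnity.AlgebraicallyClosed

/-!
Owner: helper24. Linear characters of finite abelian groups, as used for groups of Ree type.
-/

set_option autoImplicit false
set_option linter.all false

open scoped ComplexConjugate

namespace CfsgLib.LocalEven.GoldS.AbChar

open CfsgLib.Char

variable {A : Type*} [Group A]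

/-- a linear character as an irreducible character -/
def linIrr (l : A →* ℂˣ) : Cfsg.IrrCharacter A :=
  ⟨fun a => (l a : ℂ), isIrrCharacter_linear l⟩

theorem linIrr_apply (l : A →* ℂˣ) (a : A) : (linIrr l : A → ℂ) a = (l a : ℂ) := rfl

theorem linIrr_injective : Function.Injective (linIrr (A := A)) := fun l l' h =>
  MonoidHom.ext fun a => Units.ext (congrFun (congrArg Subtype.val h) a)

variable [Finite A]

instance finite_lin : Finite (A →* ℂˣ) := Finite.of_injective _ linIrr_injective

theorem linIrr_surjective (hA : ∀ a b : A, a * b = b * a) :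
    Function.Surjective (linIrr (A := A)) := by
  intro ψ
  obtain ⟨l, hl⟩ := exists_linear_of_degree_one (IsIrr.isCharacter ψ.2)
    (Clifford.apply_one_eq_one_of_commute hA ψ)
  exact ⟨l, Subtype.ext hl.symm⟩

variable [Fintype A]

theorem inner_lin (l l' : A →* ℂˣ) [Decidable (l = l')] :
    Cfsg.classInner (fun a => (l a : ℂ)) (fun a => (l' a : ℂ)) = if l = l' then 1 else 0 := by
  classical
  rw [show (fun a => (l a : ℂ)) = (linIrr l : A → ℂ) from rfl,
    show (fun a => (l' a : ℂ)) = (linIrr l' : A → ℂ) from rfl, classInner_irr]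
  exact if_congr linIrr_injective.eq_iff rfl rfl

theorem fourier [Fintype (A →* ℂˣ)] (hA : ∀ a b : A, a * b = b * a) (f : A → ℂ) (a : A) :
    f a = ∑ l : A →* ℂˣ, Cfsg.classInner f (fun b => (l b : ℂ)) * (l a : ℂ) := by
  classical
  haveI := Fintype.ofFinite (Cfsg.IrrCharacter A)
  have hf : Cfsg.IsClassFunction A f := fun g h => by rw [hA h g, mul_inv_cancel_right]
  rw [classFunction_apply_eq_sum hf a]
  symm
  exact Fintype.sum_bijective linIrr ⟨linIrr_injective, linIrr_surjective hA⟩ _ _ fun l => rfl

theorem card_lin_comm {B : Type*} [CommGroup B] [Finite B] :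
    Nat.card (B →* ℂˣ) = Nat.card B := by
  haveI : NeZero (Monoid.exponent B) := ⟨Monoid.exponent_ne_zero_of_finite⟩
  exact CommGroup.card_monoidHom_of_hasEnoughRootsOfUnity B ℂ

theorem exists_apply_ne_one {B : Type*} [CommGroup B] [Finite B] {b : B} (hb : b ≠ 1) :
    ∃ φ : B →* ℂˣ, φ b ≠ 1 := by
  haveI : NeZero (Monoid.exponent B) := ⟨Monoid.exponent_ne_zero_of_finite⟩
  exact CommGroup.exists_apply_ne_one_of_hasEnoughRootsOfUnity B ℂ hb

end CfsgLib.LocalEven.GoldS.AbChar
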