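import Cfsg.Agent.Lib.LocalEven.GoldS.Tools
import Cfsg.Agent.Lib.LocalEven.Generation
import Cfsg.Agent.Lib.Transfer.Hall

/-!
Owner: helper24. Groups of Ree type without real elements of order three: centralisers of root elements.
-/

set_option autoImplicit false
set_option linter.all false

namespace CfsgLib.LocalEven.GoldS

open Subgroup PSLF

namespace Ctx

variable {G : Type*} [Group G] {F : Type*} [Field F] [Fintype F] (c : Ctx G F)

theorem conj_t_mem_Ct {x : G} (h : c.t * x * c.t⁻¹ = x) : x ∈ c.Ct :=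
  c.mem_Ct.2 (commute_iff_conj.2 h).symm

theorem t_mem_centralizer {u : G} (hu : u ∈ c.U) : c.t ∈ centralizer ({u} : Set G) :=
  mem_centralizer_singleton_iff.2 (commute_iff_conj.2 (c.t_conj_U hu))

variable [Finite G]

/-- inverted elements have order prime to three -/
theorem inverted_not_three (hno : NoReal G) {x : G} (h : Inverted c.t x) : ¬ 3 ∣ orderOf x := by
  intro hd
  exact hno c.t (x ^ (orderOf x / 3)) c.ht
    (by rw [orderOf_pow_orderOf_div (orderOf_pos x).ne' hd]) (h.pow _)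

theorem inverted_three_eq_one (hno : NoReal G) {x : G} (h : Inverted c.t x) {k : ℕ}
    (hx : orderOf x = 3 ^ k) : x = 1 := by
  rcases k with - | k
  · exact orderOf_eq_one_iff.1 (by simpa using hx)
  · exact absurd (by rw [hx]; exact dvd_pow_self 3 (by omega)) (c.inverted_not_three hno h)

variable [CharP F 3]

/-- a `t`-invariant `3`-subgroup containing `U` is `U` -/
theorem threeGroup_eq_U (hno : NoReal G) {Q : Subgroup G} (hQ : IsPGroup 3 Q)
    (hn : ∀ x ∈ Q, c.t * x * c.t⁻¹ ∈ Q) (hU : c.U ≤ Q) : Q = c.U := by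
  haveI : Fact (Nat.Prime 3) := ⟨Nat.prime_three⟩
  have hodd : Odd (Nat.card Q) := by
    obtain ⟨n, hn⟩ := IsPGroup.iff_card.1 hQ
    rw [hn]; exact Odd.pow (by decide)
  refine le_antisymm (fun x hx => ?_) hU
  have hK : ∀ x ∈ Q, x ∈ c.K := by
    intro x hx
    obtain ⟨f, i, hf, hi, hft, hinv, rfl⟩ := exists_fixed_mul_inverted c.t_sq hodd hn hx
    obtain ⟨k, hk⟩ := IsPGroup.iff_orderOf.1 hQ ⟨i, hi⟩
    rw [Subgroup.orderOf_mk] at hk
    rw [c.inverted_three_eq_one hno hinv hk, mul_one]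
    exact c.mem_K_of_odd (c.mem_Ct.2 hft.symm) (hodd.of_dvd_nat (Q.orderOf_dvd_natCard hf))
  obtain ⟨k, rfl⟩ := hK x hx
  let L : Subgroup (P2 F) := Q.comap c.ι
  have hL : IsPGroup 3 L := hQ.comap_of_injective _ c.inj
  have hLU : Us F ≤ L := fun a ha => hU (mem_map_of_mem _ ha)
  have hLo : Odd (Nat.card L) := by
    obtain ⟨n, hn⟩ := IsPGroup.iff_card.1 hL
    rw [hn]; exact Odd.pow (by decide)
  obtain ⟨a, ha, h, hh, rfl⟩ := Bs_decomp (le_Bs_of_odd hLU hLo (show k ∈ L from hx))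
  have hhL : h ∈ L := by
    have := L.mul_mem (L.inv_mem (hLU ha)) (show a * h ∈ L from hx)
    rwa [inv_mul_cancel_left] at this
  obtain ⟨n, hn'⟩ := IsPGroup.iff_orderOf.1 hL ⟨h, hhL⟩
  rw [Subgroup.orderOf_mk] at hn'
  have h3 : ¬ 3 ∣ Nat.card (Hs F) := fun hd => by
    have hc := card_Hs (F := F)
    have h3q : 3 ∣ Fintype.card F := by
      obtain ⟨j, hj⟩ := IsPGroup.iff_card.1 (c.U_isPGroup (G := G))
      rw [c.card_U] at hj
      rw [hj]
      refine dvd_pow_self 3 fun h0 => ?_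
      have := c.hbig
      rw [hj, h0] at this
      norm_num at this
    have := c.hbig
    omega
  have h1 : h = 1 := by
    rcases n with - | n
    · exact orderOf_eq_one_iff.1 (by simpa using hn')
    · exact absurd ((dvd_pow_self 3 n.succ_ne_zero).trans
        ((dvd_of_eq hn'.symm).trans ((Hs F).orderOf_dvd_natCard hh))) h3
  rw [h1, mul_one]
  exact mem_map_of_mem _ ha

/-- the centraliser of a root element: inverted part times `U`, times `⟨t⟩` -/
theorem exists_R (hno : NoReal G) {u : G} (hu : u ∈ c.U) (hu1 : u ≠ 1) :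
    ∃ R : Subgroup G, (∀ x, x ∈ R ↔ x * u = u * x ∧ Odd (orderOf x) ∧ ¬ 3 ∣ orderOf x) ∧
      (∀ x ∈ R, Inverted c.t x) ∧
      (∀ x, x * u = u * x → Odd (orderOf x) → ∃ r ∈ R, ∃ v ∈ c.U, x = r * v) ∧
      ∀ x, x * u = u * x → Odd (orderOf x) ∨ Odd (orderOf (x * c.t)) := by
  classical
  haveI : Fact (Nat.Prime 3) := ⟨Nat.prime_three⟩
  haveI : Fact (Nat.Prime 2) := ⟨Nat.prime_two⟩
  set X : Subgroup G := centralizer ({u} : Set G) with hX
  have hmemX : ∀ x, x ∈ X ↔ x * u = u * x := fun x => mem_centralizer_singleton_iff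
  have h2 : ∀ x ∈ X, x * c.t = c.t * x → (∃ k, orderOf x = 2 ^ k) → x = 1 ∨ x = c.t := by
    intro x hx hxt hk
    obtain ⟨k, hk⟩ := hk
    have key : ∀ v ∈ c.U, (∃ j, orderOf v = 2 ^ j) → v = 1 := by
      intro v hv ⟨j, hj⟩
      refine orderOf_eq_one_iff.1 ?_
      have h3 : orderOf v ∣ 3 := orderOf_dvd_of_pow_eq_one (c.U_cube hv)
      rcases (Nat.dvd_prime Nat.prime_three).1 h3 with e | e
      · exact e
      · exfalso
        rw [e] at hj
        rcases j with - | j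
        · simp at hj
        · have : 2 ∣ 3 := hj ▸ dvd_pow_self 2 j.succ_ne_zero
          norm_num at this
    rcases c.centralizer_U_Ct (c.mem_Ct.2 hxt) hu hu1 ((hmemX x).1 hx) with h | h
    · exact Or.inl (key x h ⟨k, hk⟩)
    · refine Or.inr ?_
      have h2' : (c.t * x) ^ (2 ^ (k + 1)) = 1 := by
        have e1 : x ^ (2 ^ (k + 1)) = 1 := by
          rw [pow_succ, pow_mul, ← hk, pow_orderOf_eq_one, one_pow]
        have e2 : c.t ^ (2 ^ (k + 1)) = 1 := by
          rw [pow_succ', pow_mul, pow_two, c.t_sq, one_pow]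
        rw [(show Commute c.t x from hxt.symm).mul_pow, e1, e2, one_mul]
      obtain ⟨j, -, hj⟩ := (Nat.dvd_prime_pow Nat.prime_two).1 (orderOf_dvd_of_pow_eq_one h2')
      have := key _ h ⟨j, hj⟩
      rw [← inv_eq_of_mul_eq_one_right this, c.t_inv]
  obtain ⟨O, hOX, hOodd, hmemO, hOcov, hOt⟩ :=
    Ctx.exists_odd_part c.ht c.sylow_comm (c.t_mem_centralizer hu) h2
  have hUO : c.U ≤ O := fun v hv => (hmemO v).2
    ⟨(hmemX v).2 (c.U_comm hv hu), c.U_odd.of_dvd_nat (c.U.orderOf_dvd_natCard hv)⟩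
  set A : Subgroup G := zpowers c.t with hA
  have hAO : A ≤ normalizer (O : Set G) := by
    rw [hA, zpowers_le, mem_normalizer_iff]
    refine fun x => ⟨hOt x, fun h => ?_⟩
    have := hOt _ h
    rwa [show c.t * (c.t * x * c.t⁻¹) * c.t⁻¹ = (c.t * c.t) * x * (c.t * c.t)⁻¹ by group, c.t_sq,
      one_mul, inv_one, mul_one] at this
  have hcop : (Nat.card A).Coprime (Nat.card O) := by
    rw [Nat.card_zpowers, c.ht]; exact Nat.coprime_two_left.2 hOodd
  have hAU : A ≤ normalizer (c.U : Set G) := by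
    rw [hA, zpowers_le]
    refine Subgroup.centralizer_le_normalizer _ ?_
    exact mem_centralizer_iff.2 fun v hv => ((commute_iff_conj.2 (c.t_conj_U hv))).symm
  obtain ⟨P, hP, hUP, hAP⟩ :=
    InvCent.exists_invariant_sylP_ge (p := 3) hAO hcop hOodd hUO c.U_isPGroup hAU
  have hPU : P = c.U := c.threeGroup_eq_U hno hP.isPGroup
    (fun x hx => (mem_normalizer_iff.1 (hAP (mem_zpowers c.t)) x).1 hx) hUP
  subst hPU
  obtain ⟨S, hS⟩ := hP.exists_sylow
  have hSU : (S : Subgroup O) = c.U.subgroupOf O := by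
    rw [← hS]; exact (comap_map_eq_self_of_injective O.subtype_injective _).symm
  -- the fixed points in `O` lie in `U`
  have hfix : ∀ f ∈ O, c.t * f = f * c.t → f ∈ c.U := by
    intro f hf hft
    obtain ⟨hfX, hfo⟩ := (hmemO f).1 hf
    rcases c.centralizer_U_Ct (c.mem_Ct.2 hft.symm) hu hu1 ((hmemX f).1 hfX) with h | h
    · exact h
    · exfalso
      obtain ⟨k, hk⟩ := c.mem_K_of_odd (c.mem_Ct.2 hft.symm) hfo
      obtain ⟨a, -, ha⟩ := h
      rw [← hk] at ha
      exact c.ι_ne _ _ ha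
  have hN : normalizer ((c.U.subgroupOf O : Subgroup O) : Set O) ≤
      centralizer ((c.U.subgroupOf O : Subgroup O) : Set O) := by
    intro n hn
    let Y : Subgroup G := (normalizer ((c.U.subgroupOf O : Subgroup O) : Set O)).map O.subtype
    have hYO : Y ≤ O := map_subtype_le _
    have hYn : ∀ y ∈ Y, ∀ v ∈ c.U, y * v * y⁻¹ ∈ c.U := by
      rintro _ ⟨y, hy, rfl⟩ v hv
      exact mem_subgroupOf.1 ((mem_normalizer_iff.1 hy ⟨v, hUO hv⟩).1 (mem_subgroupOf.2 hv))
    have hYt : ∀ y ∈ Y, c.t * y * c.t⁻¹ ∈ Y := by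
      rintro _ ⟨y, hy, rfl⟩
      refine ⟨⟨_, hOt _ y.2⟩, mem_normalizer_iff.2 fun v => ?_, rfl⟩
      simp only [mem_subgroupOf, Subgroup.coe_mul, InvMemClass.coe_inv, Subgroup.coe_subtype]
      have h1 := mem_normalizer_iff.1 (hAU (mem_zpowers c.t))
      rw [show c.t * (y : G) * c.t⁻¹ * v * (c.t * (y : G) * c.t⁻¹)⁻¹
        = c.t * ((y : G) * (c.t⁻¹ * v * c.t) * (y : G)⁻¹) * c.t⁻¹ by group, ← h1]
      have h2 : (v : G) ∈ c.U ↔ c.t⁻¹ * v * c.t ∈ c.U := by
        rw [h1 (c.t⁻¹ * (v : G) * c.t), show c.t * (c.t⁻¹ * (v : G) * c.t) * c.t⁻¹ = v by group]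
      rw [h2]
      constructor
      · intro hv
        exact hYn _ ⟨y, hy, rfl⟩ _ hv
      · intro hv
        have := hYn _ (Y.inv_mem ⟨y, hy, rfl⟩) _ hv
        simpa [mul_assoc] using this
    obtain ⟨f, i, hf, hi, hft, hinv, e⟩ := exists_fixed_mul_inverted c.t_sq
      (hOodd.of_dvd_nat (card_dvd_of_le hYO)) hYt (x := (n : G)) ⟨n, hn, rfl⟩
    refine mem_centralizer_iff.2 fun v hv => Subtype.ext ?_
    have hv' : (v : G) ∈ c.U := mem_subgroupOf.1 hv
    show (v : G) * n = n * v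
    rw [e]
    have h1 := c.U_comm hv' (hfix f (hYO hf) hft)
    have h2 : i * v = v * i := commute_of_inverted_fixed
      (hOodd.of_dvd_nat (O.orderOf_dvd_natCard (hYO hi))) hinv (c.t_conj_U hv')
      (c.t_conj_U (hYn i hi v hv'))
    rw [← mul_assoc, h1, mul_assoc, ← h2, mul_assoc]
  have hHall : Nat.Coprime (Nat.card (c.U.subgroupOf O)) (c.U.subgroupOf O).index := by
    rw [← hSU]; exact S.card_coprime_index
  obtain ⟨N, hNn, hNc⟩ := Transfer.exists_normal_complement_of_abelian_hall _ hHall hN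
  have hN3 : ¬ 3 ∣ Nat.card N := by
    rw [← hNc.index_eq_card, ← hSU]
    exact S.not_dvd_index
  have hNmem : ∀ x : O, x ∈ N ↔ ¬ 3 ∣ orderOf x := by
    refine fun x => ⟨fun hx hd => hN3 (hd.trans (N.orderOf_dvd_natCard hx)), fun hd => ?_⟩
    have h1 : orderOf (QuotientGroup.mk' N x) ∣ orderOf x := orderOf_map_dvd _ x
    have h2 : orderOf (QuotientGroup.mk' N x) ∣ Nat.card (c.U.subgroupOf O) := by
      rw [← hNc.symm.index_eq_card]
      exact orderOf_dvd_natCard (G := O ⧸ N) _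
    obtain ⟨k, hk⟩ := IsPGroup.iff_card.1 (c.U_isPGroup (G := G))
    rw [Fusion.card_subgroupOf_eq hUO, hk] at h2
    have : orderOf (QuotientGroup.mk' N x) = 1 :=
      Nat.eq_one_of_dvd_coprimes
        (Nat.Coprime.pow_right k ((Nat.prime_three.coprime_iff_not_dvd).2 hd).symm) h1 h2
    exact (QuotientGroup.eq_one_iff x).1 (orderOf_eq_one_iff.1 this)
  have hR : ∀ x, x ∈ N.map O.subtype ↔ x * u = u * x ∧ Odd (orderOf x) ∧ ¬ 3 ∣ orderOf x := by
    intro x
    constructor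
    · rintro ⟨y, hy, rfl⟩
      obtain ⟨h1, h2⟩ := (hmemO _).1 y.2
      exact ⟨(hmemX _).1 h1, h2,
        by rw [Subgroup.coe_subtype, Subgroup.orderOf_coe]; exact (hNmem y).1 hy⟩
    · rintro ⟨h1, h2, h3⟩
      exact ⟨⟨x, (hmemO x).2 ⟨(hmemX x).2 h1, h2⟩⟩, (hNmem _).2 (by rwa [Subgroup.orderOf_mk]), rfl⟩
  refine ⟨N.map O.subtype, hR, fun x hx => ?_, fun x hx ho => ?_, fun x hx => ?_⟩
  · have hodd : Odd (Nat.card (N.map O.subtype)) := hOodd.of_dvd_nat (card_dvd_of_le (map_subtype_le _))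
    refine inverted_of_no_fixed c.t_sq hodd ?_ ?_ hx
    · intro y hy
      obtain ⟨h1, h2, h3⟩ := (hR y).1 hy
      refine (hR _).2 ⟨?_, ?_, ?_⟩
      · have e := c.t_conj_U hu
        calc c.t * y * c.t⁻¹ * u = c.t * y * c.t⁻¹ * (c.t * u * c.t⁻¹) := by rw [e]
          _ = c.t * (y * u) * c.t⁻¹ := by group
          _ = c.t * (u * y) * c.t⁻¹ := by rw [h1]
          _ = (c.t * u * c.t⁻¹) * (c.t * y * c.t⁻¹) := by group
          _ = _ := by rw [e]
      all_goals rwa [show orderOf (c.t * y * c.t⁻¹) = orderOf y from (MulAut.conj c.t).orderOf_eq y]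
    · rintro _ ⟨y, hy, rfl⟩ hyt
      by_contra hne
      have hyU := hfix _ y.2 hyt
      exact (hNmem y).1 hy (by
        rw [← Subgroup.orderOf_coe]
        have h3 : orderOf (y : G) ∣ 3 := orderOf_dvd_of_pow_eq_one (c.U_cube hyU)
        rcases (Nat.dvd_prime Nat.prime_three).1 h3 with e | e
        · exact absurd (orderOf_eq_one_iff.1 e) hne
        · rw [e])
  · obtain ⟨⟨n, v⟩, e⟩ := hNc.2 ⟨x, (hmemO x).2 ⟨(hmemX x).2 hx, ho⟩⟩
    exact ⟨_, ⟨n.1, n.2, rfl⟩, _, mem_subgroupOf.1 v.2, (congrArg Subtype.val e).symm⟩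
  · rcases hOcov x ((hmemX x).2 hx) with h | h
    · exact Or.inl ((hmemO _).1 h).2
    · exact Or.inr ((hmemO _).1 h).2

/-- fusion from `U` is realised in `C(t)` up to an inverted centralising element -/
theorem exists_fusion (hno : NoReal G) {g u u' : G} (hu : u ∈ c.U) (hu' : u' ∈ c.U) (hu1 : u' ≠ 1)
    (h : g * u * g⁻¹ = u') :
    ∃ r, Inverted c.t r ∧ Odd (orderOf r) ∧ r * u' = u' * r ∧
      r⁻¹ * g ∈ c.Ct ∧ (r⁻¹ * g) * u * (r⁻¹ * g)⁻¹ = u' := by
  set s := g * c.t * g⁻¹ with hs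
  have hso : orderOf s = 2 := ((MulAut.conj g).orderOf_eq c.t).trans c.ht
  have hs2 : s * s = 1 := by
    rw [← pow_two]; exact orderOf_dvd_iff_pow_eq_one.1 (dvd_of_eq hso)
  have hsu : s * u' = u' * s := by
    rw [hs, ← h]
    calc g * c.t * g⁻¹ * (g * u * g⁻¹) = g * (c.t * u) * g⁻¹ := by group
      _ = g * (u * c.t) * g⁻¹ := by rw [commute_iff_conj.2 (c.t_conj_U hu)]
      _ = _ := by group
  obtain ⟨R, -, -, -, hcov⟩ := c.exists_R hno hu' hu1
  rcases hcov s hsu with ho | ho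
  · rw [hso] at ho; exact absurd ho (by decide)
  · have hinv : Inverted c.t (s * c.t) := by
      show c.t * (s * c.t) * c.t⁻¹ = (s * c.t)⁻¹
      rw [mul_inv_rev, c.t_inv, inv_eq_of_mul_eq_one_right hs2, mul_assoc, mul_assoc, c.t_sq,
        mul_one]
    obtain ⟨r, hr, hrr⟩ := exists_sq ho
    have hst : (s * c.t) * u' = u' * (s * c.t) := by
      rw [mul_assoc, commute_iff_conj.2 (c.t_conj_U hu'), ← mul_assoc, hsu, mul_assoc]
    have hru : r * u' = u' * r := by
      obtain ⟨j, rfl⟩ := hr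
      exact (Commute.zpow_left (show Commute (s * c.t) u' from hst) j)
    have hrinv := hinv.mem_of_zpowers hr
    have hrt := conj_of_sq hrinv hrr
    rw [mul_assoc s c.t c.t, c.t_sq, mul_one, hs] at hrt
    refine ⟨r, hrinv, ?_, hru, ?_, ?_⟩
    · obtain ⟨j, rfl⟩ := hr
      exact ho.of_dvd_nat (orderOf_dvd_of_mem_zpowers ⟨j, rfl⟩)
    · refine c.mem_Ct.2 ?_
      calc r⁻¹ * g * c.t = r⁻¹ * (g * c.t * g⁻¹) * g := by group
        _ = r⁻¹ * (r * c.t * r⁻¹) * g := by rw [hrt]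
        _ = _ := by group
    · rw [show r⁻¹ * g * u * (r⁻¹ * g)⁻¹ = r⁻¹ * (g * u * g⁻¹) * r by group, h, mul_assoc, ← hru,
        inv_mul_cancel_left]

/-- a root element is not conjugate to its inverse -/
theorem root_not_conj_inv (hno : NoReal G) {g u : G} (hu : u ∈ c.U) (hu1 : u ≠ 1) :
    g * u * g⁻¹ ≠ u⁻¹ := by
  intro h
  obtain ⟨r, -, -, -, hk, hku⟩ :=
    c.exists_fusion hno hu (c.U.inv_mem hu) (by simpa using hu1) h
  obtain ⟨a, ⟨s, rfl⟩, rfl⟩ := hu
  have hs : s ≠ 0 := fun h0 => hu1 (by rw [h0, u_zero, map_one])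
  obtain ⟨k, hk' | hk'⟩ := c.decomp hk
  · rw [hk', ← map_inv, ← map_mul, ← map_mul, ← map_inv] at hku
    exact u_not_conj_inv c.hq hs (c.inj hku)
  · rw [hk'] at hku
    have e : c.ι k * c.ι (u s) * (c.ι k)⁻¹ = (c.ι (u s))⁻¹ := by
      calc c.ι k * c.ι (u s) * (c.ι k)⁻¹
          = c.t⁻¹ * (c.t * c.ι k * c.ι (u s) * (c.t * c.ι k)⁻¹) * c.t := by group
        _ = c.t⁻¹ * (c.ι (u s))⁻¹ * c.t := by rw [hku]
        _ = _ := by
          rw [← map_inv, mul_assoc, c.ι_comm, inv_mul_cancel_left]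
    rw [← map_inv, ← map_mul, ← map_mul, ← map_inv] at e
    exact u_not_conj_inv c.hq hs (c.inj e)

end Ctx

end CfsgLib.LocalEven.GoldS
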