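import Cfsg.Agent.Lib.LocalEven.GoldS.CharTools

/-!
Owner: helper26. Groups of Ree type, character part: the norm four lifts `mm` attached to the characters of the
odd part of the nonsplit torus.
-/

set_option autoImplicit false
set_option linter.all false

namespace CfsgLib.LocalEven.GoldS

open Subgroup PSLF CfsgLib.Char
open scoped ComplexConjugate

namespace PSLF

open CfsgLib.PLocal.SLTwo

variable {F : Type*} [Field F] [Fintype F] [CharP F 3]

theorem isSquare_neg_of_not (hq : Fintype.card F % 8 = 3) {v : F} (hv : v ≠ 0) (hns : ¬ IsSquare v) :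
    IsSquare (-v) := by
  have h2 : ringChar F ≠ 2 := by rw [ringChar.eq F 3]; decide
  have h1 : v ^ (Fintype.card F / 2) = -1 := (FiniteField.pow_dichotomy h2 hv).resolve_left
    fun e => hns ((FiniteField.isSquare_iff h2 hv).2 e)
  refine (FiniteField.isSquare_iff h2 (neg_ne_zero.2 hv)).2 ?_
  have ho : Odd (Fintype.card F / 2) := by rw [Nat.odd_iff]; omega
  rw [ho.neg_pow, h1, neg_neg]

open scoped _root_.Classical in
/-- the sum over a square class of a character and its conjugate -/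
theorem sum_squares (hq : Fintype.card F % 8 = 3) {ψ : AddChar F ℂ} (hψ : ψ ≠ 1) {s : F} (hs : s ≠ 0) :
    (∑ v, if v ≠ 0 ∧ IsSquare (v / s) then ψ v + ψ (-v) else 0) = -1 := by
  have key : ∀ v : F, ((if v ≠ 0 ∧ IsSquare (v / s) then ψ v else 0) +
      if -v ≠ 0 ∧ IsSquare (-v / s) then ψ v else 0) = ψ v - if v = 0 then 1 else 0 := by
    intro v
    by_cases hv : v = 0
    · subst hv; simp
    · have hvs : v / s ≠ 0 := div_ne_zero hv hs
      by_cases h : IsSquare (v / s)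
      · have h' : ¬ IsSquare (-v / s) := fun h' => not_isSquare_neg_one (F := F) hq (by
          have h3 := h'.div h
          have e : (-v / s) / (v / s) = -1 := by field_simp
          rwa [e] at h3)
        rw [if_pos ⟨hv, h⟩, if_neg (fun x => h' x.2), if_neg hv]; ring
      · have h' : IsSquare (-v / s) := by rw [neg_div]; exact isSquare_neg_of_not hq hvs h
        rw [if_neg (fun x => h x.2), if_pos ⟨neg_ne_zero.2 hv, h'⟩, if_neg hv]; ring
  have hB : (∑ v, if v ≠ 0 ∧ IsSquare (v / s) then ψ (-v) else 0) =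
      ∑ v, if -v ≠ 0 ∧ IsSquare (-v / s) then ψ v else 0 := by
    refine Fintype.sum_equiv (Equiv.neg F) _ _ fun v => ?_
    simp only [Equiv.neg_apply, neg_neg]
  have hsplit : (∑ v, if v ≠ 0 ∧ IsSquare (v / s) then ψ v + ψ (-v) else 0) =
      (∑ v, if v ≠ 0 ∧ IsSquare (v / s) then ψ v else 0) +
        ∑ v, if v ≠ 0 ∧ IsSquare (v / s) then ψ (-v) else 0 := by
    rw [← Finset.sum_add_distrib]
    exact Finset.sum_congr rfl fun v _ => by split_ifs <;> simp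
  rw [hsplit, hB, ← Finset.sum_add_distrib, Finset.sum_congr rfl fun v _ => key v, Finset.sum_sub_distrib,
    AddChar.sum_eq_zero_of_ne_one hψ, Finset.sum_ite_eq']
  simp

theorem odd_orderOf_u (x : F) : Odd (orderOf (u x : P2 F)) :=
  (show Odd 3 by decide).of_dvd_nat (orderOf_dvd_of_pow_eq_one (Us_cube (u_mem x)))

theorem odd_orderOf_Rs (hq : Fintype.card F % 8 = 3) (r : Rs F) : Odd (orderOf (r : P2 F)) :=
  (Rs_facts hq).1.of_dvd_nat ((Rs F).orderOf_dvd_natCard r.2)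

theorem card_conj_of {a b k₀ : P2 F} (h : k₀ * a * k₀⁻¹ = b) :
    Nat.card {k : P2 F // k * a * k⁻¹ = b} = Nat.card (Subgroup.centralizer ({a} : Set (P2 F))) := by
  refine Nat.card_congr
    { toFun := fun k => ⟨k₀⁻¹ * k.1, ?_⟩
      invFun := fun z => ⟨k₀ * z, ?_⟩
      left_inv := fun k => Subtype.ext (mul_inv_cancel_left _ _)
      right_inv := fun z => Subtype.ext (inv_mul_cancel_left _ _) }
  · refine mem_centralizer_singleton_iff.2 ?_
    calc k₀⁻¹ * k.1 * a = k₀⁻¹ * (k.1 * a * k.1⁻¹) * k.1 := by group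
      _ = k₀⁻¹ * (k₀ * a * k₀⁻¹) * k.1 := by rw [k.2, h]
      _ = _ := by group
  · have hz := mem_centralizer_singleton_iff.1 z.2
    calc k₀ * (z : P2 F) * a * (k₀ * z)⁻¹ = k₀ * ((z : P2 F) * a * (z : P2 F)⁻¹) * k₀⁻¹ := by group
      _ = _ := by rw [hz, mul_inv_cancel_right, h]

open scoped _root_.Classical in
theorem card_conj_u {s v : F} (hs : s ≠ 0) :
    Nat.card {k : P2 F // k * u s * k⁻¹ = u v} =
      if v ≠ 0 ∧ IsSquare (v / s) then Fintype.card F else 0 := by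
  split_ifs with h
  · obtain ⟨hv, a, ha⟩ := h
    have ha0 : a ≠ 0 := fun e => div_ne_zero hv hs (by rw [ha, e, mul_zero])
    obtain ⟨k₀, hk₀⟩ : ∃ k₀ : P2 F, k₀ * u s * k₀⁻¹ = u v :=
      ⟨mk (dS (Units.mk0 a ha0)), by
        have e : v = a * a * s := by rw [← ha, div_mul_cancel₀ _ hs]
        rw [u, u, ← map_inv, ← map_mul, ← map_mul]
        congr 1
        refine ext2 ?_ ?_ ?_ ?_ <;> simp [m00, m01, m10, m11, i00, i01, i10, i11, e] <;> field_simp⟩
    rw [card_conj_of hk₀, show Subgroup.centralizer ({u s} : Set (P2 F)) = Us F from ?_, card_Us]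
    ext k
    refine ⟨fun hk => centralizer_u hs (mem_centralizer_singleton_iff.1 hk), fun hk => ?_⟩
    exact mem_centralizer_singleton_iff.2 (Us_comm hk (u_mem s))
  · refine Nat.card_eq_zero.2 (Or.inl ⟨fun ⟨k, hk⟩ => h ?_⟩)
    obtain ⟨y, rfl⟩ := mk_surjective k
    have e : mk (y * U s * y⁻¹) = mk (U v) := by
      rw [map_mul, map_mul, map_inv]; exact hk
    obtain ⟨h10, hv⟩ := upper_of_conj_U (s := v) hs (by
      rcases mk_eq_mk.1 e with e' | e'
      · exact Or.inl e'.symm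
      · exact Or.inr (neg_eq_iff_eq_neg.1 e'.symm))
    have hd := det2 y
    rw [h10, mul_zero, sub_zero] at hd
    have h0 : y.1 0 0 ≠ 0 := left_ne_zero_of_mul_eq_one hd
    exact ⟨by rw [hv]; exact mul_ne_zero (pow_ne_zero _ h0) hs, y.1 0 0, by
      rw [hv, mul_div_assoc, div_self hs, mul_one, pow_two]⟩

open scoped _root_.Classical in
theorem card_conj_one (b : P2 F) :
    Nat.card {k : P2 F // k * 1 * k⁻¹ = b} = if b = 1 then Nat.card (P2 F) else 0 := by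
  split_ifs with h
  · subst h
    exact Nat.card_congr (Equiv.subtypeUnivEquiv fun k => by group)
  · exact Nat.card_eq_zero.2 (Or.inl ⟨fun ⟨k, hk⟩ => h (by rw [← hk]; group)⟩)

open scoped _root_.Classical in
theorem card_conj_u_Rs (hq : Fintype.card F % 8 = 3) (s : F) (r : Rs F) :
    Nat.card {k : P2 F // k * u s * k⁻¹ = (r : P2 F)} =
      if s = 0 ∧ r = 1 then Nat.card (P2 F) else 0 := by
  by_cases hs : s = 0
  · subst hs
    rw [u_zero, card_conj_one]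
    simp [OneMemClass.coe_eq_one]
  · rw [if_neg (fun h => hs h.1)]
    refine Nat.card_eq_zero.2 (Or.inl ⟨fun ⟨k, hk⟩ => ?_⟩)
    have h3 : orderOf (u s : P2 F) = 3 := by
      haveI : Fact (Nat.Prime 3) := ⟨Nat.prime_three⟩
      exact orderOf_eq_prime (Us_cube (u_mem s)) fun e => hs (u_eq_one e)
    have h := (Rs F).orderOf_dvd_natCard r.2
    rw [← hk, show orderOf (k * u s * k⁻¹) = orderOf (u s) from (MulAut.conj k).orderOf_eq _, h3] at h
    exact (Rs_facts hq).2 h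

open scoped _root_.Classical in
theorem card_conj_Rs (hq : Fintype.card F % 8 = 3) {r : Rs F} (hr : r ≠ 1) (r' : Rs F) :
    (2 * Nat.card {k : P2 F // k * (r : P2 F) * k⁻¹ = (r' : P2 F)} : ℂ) =
      ((Fintype.card F : ℂ) + 1) * ((if r' = r then 1 else 0) + if r' = r⁻¹ then 1 else 0) := by
  have hr' : (r : P2 F) ≠ 1 := fun h => hr (Subtype.ext h)
  have hsq := Rs_sq_ne_one hq r.2 hr'
  have hne : r ≠ r⁻¹ := fun h => hsq (by
    have e : (r : P2 F) = (r : P2 F)⁻¹ := congrArg Subtype.val h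
    nth_rewrite 2 [e]
    exact mul_inv_cancel _)
  have hcent : ∀ (k₀ b : P2 F), k₀ * (r : P2 F) * k₀⁻¹ = b →
      (2 * Nat.card {k : P2 F // k * (r : P2 F) * k⁻¹ = b} : ℂ) = (Fintype.card F : ℂ) + 1 := by
    intro k₀ b hk
    rw [card_conj_of hk, show Subgroup.centralizer ({(r : P2 F)} : Set (P2 F)) = Ts F from ?_]
    · exact_mod_cast card_Ts (F := F) hq
    · ext k
      refine ⟨fun hk => centralizer_Ts (Rs_le_Ts r.2) hsq (mem_centralizer_singleton_iff.1 hk), fun hk => ?_⟩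
      exact mem_centralizer_singleton_iff.2 (Ts_comm hk (Rs_le_Ts r.2))
  by_cases h1 : r' = r
  · rw [h1, if_pos rfl, if_neg hne, hcent 1 _ (by group)]; ring
  · by_cases h2 : r' = r⁻¹
    · obtain ⟨j, -, -, -, -, hinv, -⟩ := exists_klein (F := F) hq
      rw [h2, if_neg hne.symm, if_pos rfl, hcent j _ (by rw [hinv _ (Rs_le_Ts r.2)]; rfl)]; ring
    · rw [if_neg h1, if_neg h2]
      have : IsEmpty {k : P2 F // k * (r : P2 F) * k⁻¹ = (r' : P2 F)} := ⟨fun k => by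
        rcases fusion_Ts (Rs_le_Ts r.2) (Rs_le_Ts r'.2) k.2 with e | e
        · exact h1 (Subtype.ext e)
        · exact h2 (Subtype.ext e)⟩
      simp

theorem card_pairs_one :
    Nat.card {k : P2 F // orderOf k = 2 ∧ orderOf (k * (1 : P2 F)⁻¹) = 2} =
      Nat.card {k : P2 F // orderOf k = 2} :=
  Nat.card_congr (Equiv.subtypeEquivRight fun k => by simp)

theorem card_pairs_u (hq : Fintype.card F % 8 = 3) {s : F} (hs : s ≠ 0) :
    Nat.card {k : P2 F // orderOf k = 2 ∧ orderOf (k * (u s)⁻¹) = 2} = 0 := by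
  refine Nat.card_eq_zero.2 (Or.inl ⟨fun ⟨k, hk1, hk2⟩ => ?_⟩)
  refine u_not_conj_inv (F := F) hq hs (x := k) ?_
  have e := inv_of_orderOf hk2
  rw [mul_inv_rev, inv_inv, inv_of_orderOf hk1] at e
  calc k * u s * k⁻¹ = k * (u s * k) * k⁻¹ * k⁻¹ := by group
    _ = k * (k * (u s)⁻¹) * k⁻¹ * k⁻¹ := by rw [e]
    _ = (k * k) * (u s)⁻¹ * (k * k)⁻¹ := by group
    _ = _ := by rw [mul_self_of_orderOf hk1]; group

theorem card_pairs_Rs (hq : Fintype.card F % 8 = 3) {r : Rs F} (hr : r ≠ 1) :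
    2 * Nat.card {k : P2 F // orderOf k = 2 ∧ orderOf (k * (r : P2 F)⁻¹) = 2} = Fintype.card F + 1 := by
  have hsq := Rs_sq_ne_one hq r.2 fun h => hr (Subtype.ext h)
  rw [← card_inverting hq (Rs_le_Ts r.2) hsq]
  congr 1
  refine Nat.card_congr (Equiv.subtypeEquivRight fun k => and_congr_right fun hk => ?_)
  have hkk := mul_self_of_orderOf hk
  constructor
  · intro h
    have e := inv_of_orderOf h
    rw [mul_inv_rev, inv_inv, inv_of_orderOf hk] at e
    calc k * (r : P2 F) * k⁻¹ = k * ((r : P2 F) * k) * k⁻¹ * k⁻¹ := by group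
      _ = k * (k * (r : P2 F)⁻¹) * k⁻¹ * k⁻¹ := by rw [e]
      _ = (k * k) * (r : P2 F)⁻¹ * (k * k)⁻¹ := by group
      _ = _ := by rw [hkk]; group
  · intro h
    refine orderOf_eq_prime ?_ ?_
    · rw [pow_two]
      have e : k * (r : P2 F)⁻¹ * k = (r : P2 F) := by
        have := congrArg (·⁻¹) h
        simp only [mul_inv_rev, inv_inv] at this
        rw [inv_of_orderOf hk] at this
        rw [mul_assoc]; exact this
      rw [← mul_assoc, e, mul_inv_cancel]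
    · intro e
      have e' : k = (r : P2 F) := mul_inv_eq_one.1 e
      have := odd_orderOf_Rs hq r
      rw [← e', hk] at this
      exact absurd this (by decide)

end PSLF

theorem conj_hom {A : Type*} [Group A] [Finite A] (l : A →* ℂˣ) (a : A) :
    conj (l a : ℂ) = (l a⁻¹ : ℂ) :=
  ((IsIrr.map_inv (isIrrCharacter_linear l) a)).symm

theorem sum_hom_eq_zero {A : Type*} [Group A] [Fintype A] {l : A →* ℂˣ} (h : l ≠ 1) :
    ∑ a, (l a : ℂ) = 0 :=
  sum_hom_units_eq_zero ((Units.coeHom ℂ).comp l) fun e => h (MonoidHom.ext fun a => Units.ext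
    (DFunLike.congr_fun e a))

namespace Ctx

variable {G : Type*} [Group G] {F : Type*} [Field F] [Fintype F] [CharP F 3] (c : Ctx G F)
  (ψ : AddChar F ℂ) [Fintype (Rs F)]

/-- the sum over the root group -/
noncomputable def SU (χ : G → ℂ) : ℂ := ∑ s : F, χ (c.t * c.ι (u s)) * (ψ s + ψ (-s))

/-- the sum over the nonsplit torus -/
noncomputable def SR (l : Rs F →* ℂˣ) (χ : G → ℂ) : ℂ :=
  ∑ r : Rs F, χ (c.t * c.ι (r : P2 F)) * conj (l r : ℂ)

/-- the multiplicity in the lift attached to `l` -/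
noncomputable def mm (l : Rs F →* ℂˣ) (χ : G → ℂ) : ℂ :=
  2 / (Fintype.card F : ℂ) * c.SU ψ χ - c.SR l χ / (Nat.card (Rs F) : ℂ)

variable [Fintype G] [Fintype (Cfsg.IrrCharacter G)]

theorem exists_int_mm (χ : Cfsg.IrrCharacter G) (l : Rs F →* ℂˣ) :
    ∃ z : ℤ, c.mm ψ l (χ : G → ℂ) = z := by
  classical
  let fU : Multiplicative F →* G :=
    { toFun := fun x => c.ι (u x.toAdd)
      map_one' := by show c.ι (u (0 : F)) = 1; rw [u_zero, map_one]
      map_mul' := fun x y => by show c.ι (u (x.toAdd + y.toAdd)) = _; rw [← u_mul, map_mul] }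
  let l1 : Multiplicative F →* ℂˣ := ψ.toMonoidHom.toHomUnits
  obtain ⟨z1, hz1⟩ := exists_int_twist fU c.t_sq (fun x => c.comm_t_ι _) χ l1
  obtain ⟨z2, hz2⟩ := exists_int_twist fU c.t_sq (fun x => c.comm_t_ι _) χ l1⁻¹
  obtain ⟨z3, hz3⟩ := exists_int_twist (c.ι.comp (Rs F).subtype) c.t_sq (fun x => c.comm_t_ι _) χ l
  refine ⟨2 * (z1 + z2) - z3, ?_⟩
  have e1 : ∀ x : Multiplicative F, conj (l1 x : ℂ) = ψ (-x.toAdd) := fun x =>
    (AddChar.map_neg_eq_conj ψ x.toAdd).symm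
  have e2 : ∀ x : Multiplicative F, conj ((l1⁻¹ : Multiplicative F →* ℂˣ) x : ℂ) = ψ x.toAdd := fun x => by
    rw [MonoidHom.inv_apply, ← map_inv, conj_hom, inv_inv]; rfl
  have hcard : (Nat.card (Multiplicative F) : ℂ) = (Fintype.card F : ℂ) := by
    rw [Nat.card_congr Multiplicative.toAdd, Nat.card_eq_fintype_card]
  rw [hcard] at hz1 hz2
  have hU : c.SU ψ (χ : G → ℂ) = (Fintype.card F : ℂ) * (z1 + z2) := by
    rw [mul_add, ← hz1, ← hz2, ← Finset.sum_add_distrib, SU]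
    refine Fintype.sum_equiv Multiplicative.ofAdd _ _ fun x => ?_
    rw [e1, e2]
    show _ = (χ : G → ℂ) (c.t * c.ι (u x)) * ψ (-x) + (χ : G → ℂ) (c.t * c.ι (u x)) * ψ x
    ring
  have hR : c.SR l (χ : G → ℂ) = (Nat.card (Rs F) : ℂ) * z3 := hz3
  have hF : (Fintype.card F : ℂ) ≠ 0 := Nat.cast_ne_zero.2 Fintype.card_ne_zero
  have he : (Nat.card (Rs F) : ℂ) ≠ 0 := Nat.cast_ne_zero.2 Nat.card_pos.ne'
  rw [mm, hU, hR]
  field_simp
  push_cast
  ring

theorem parity_mm (χ : Cfsg.IrrCharacter G) {g : G} {σ : Rs F →* Rs F}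
    (hσ : ∀ r : Rs F, g * c.ι r * g⁻¹ = c.ι (σ r))
    (hs : g⁻¹ * c.t * g = c.w ∨ g⁻¹ * c.t * g = c.t * c.w) (hbij : Function.Bijective σ)
    (l : Rs F →* ℂˣ) :
    ∃ z : ℤ, c.mm ψ l (χ : G → ℂ) - c.mm ψ (l.comp σ) (χ : G → ℂ) = 2 * z := by
  set s := g⁻¹ * c.t * g with hsdef
  have hs2 : s * s = 1 := by
    rw [hsdef, show g⁻¹ * c.t * g * (g⁻¹ * c.t * g) = g⁻¹ * (c.t * c.t) * g by group, c.t_sq]; group
  have hts : Commute c.t s := by
    rcases hs with e | e <;> rw [e]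
    exacts [c.t_w, (Commute.refl c.t).mul_right c.t_w]
  have hsr : ∀ r : Rs F, Commute s (c.ι r) := by
    intro r
    rcases hs with e | e <;> rw [e]
    exacts [c.w_comm_Rs r.2, (c.comm_t_ι _).mul_left (c.w_comm_Rs r.2)]
  obtain ⟨z, hz⟩ := exists_parity (c.ι.comp (Rs F).subtype) c.t_sq hs2 hts (fun r => c.comm_t_ι _) hsr
    χ (l.comp σ)
  have hS : ∑ r : Rs F, (χ : G → ℂ) (s * c.ι r) * conj ((l.comp σ) r : ℂ) = c.SR l (χ : G → ℂ) := by
    refine Fintype.sum_equiv (Equiv.ofBijective σ hbij) _ _ fun r => ?_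
    show _ = (χ : G → ℂ) (c.t * c.ι (σ r)) * conj (l (σ r) : ℂ)
    rw [← hσ, show c.t * (g * c.ι r * g⁻¹) = g * (s * c.ι r) * g⁻¹ by rw [hsdef]; group,
      IsIrr.isClassFunction χ.2]
    rfl
  refine ⟨z, ?_⟩
  have hz' : c.SR (l.comp σ) (χ : G → ℂ) - c.SR l (χ : G → ℂ) = (Nat.card (Rs F) : ℂ) * (2 * z) := by
    rw [← hS]; exact hz
  have he : (Nat.card (Rs F) : ℂ) ≠ 0 := Nat.cast_ne_zero.2 Nat.card_pos.ne'
  rw [mm, mm]
  field_simp
  linear_combination (Fintype.card F : ℂ) * hz'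

omit [CharP F 3] [Fintype (Rs F)] [Fintype G] [Fintype (Cfsg.IrrCharacter G)] in
theorem conj_phi (s : F) : conj (ψ s + ψ (-s)) = ψ s + ψ (-s) := by
  rw [map_add, ← AddChar.map_neg_eq_conj, ← AddChar.map_neg_eq_conj, neg_neg, add_comm]

open scoped _root_.Classical in
theorem sum_SU_SU (hψ : ψ ≠ 1) :
    ∑ χ : Cfsg.IrrCharacter G, c.SU ψ (χ : G → ℂ) * conj (c.SU ψ (χ : G → ℂ)) =
      8 * (Nat.card (P2 F) : ℂ) + 4 * (Fintype.card F : ℂ) := by
  show ∑ χ : Cfsg.IrrCharacter G, (∑ s, (χ : G → ℂ) (c.t * c.ι (u s)) * (ψ s + ψ (-s))) *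
    conj (∑ s, (χ : G → ℂ) (c.t * c.ι (u s)) * (ψ s + ψ (-s))) = _
  rw [c.sum_col u u odd_orderOf_u odd_orderOf_u]
  simp only [conj_phi ψ]
  rw [← Finset.add_sum_erase _ _ (Finset.mem_univ (0 : F))]
  have h0 : ∀ v : F, (Nat.card {k : P2 F // k * u (0 : F) * k⁻¹ = u v} : ℂ) =
      if v = 0 then (Nat.card (P2 F) : ℂ) else 0 := fun v => by
    rw [u_zero, card_conj_one]
    by_cases hv : v = 0
    · rw [if_pos hv, if_pos (by rw [hv, u_zero])]
    · rw [if_neg hv, if_neg (fun e => hv (u_eq_one e)), Nat.cast_zero]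
  have hs : ∀ s ∈ (Finset.univ : Finset F).erase 0,
      ∑ v, (ψ v + ψ (-v)) * (Nat.card {k : P2 F // k * u s * k⁻¹ = u v} : ℂ) = -(Fintype.card F : ℂ) := by
    intro s hs
    have hs0 := Finset.ne_of_mem_erase hs
    have e : ∀ v : F, (ψ v + ψ (-v)) * (Nat.card {k : P2 F // k * u s * k⁻¹ = u v} : ℂ) =
        (Fintype.card F : ℂ) * if v ≠ 0 ∧ IsSquare (v / s) then ψ v + ψ (-v) else 0 := fun v => by
      rw [card_conj_u hs0]; split_ifs <;> simp [mul_comm]
    rw [Finset.sum_congr rfl fun v _ => e v, ← Finset.mul_sum, sum_squares c.hq hψ hs0]; ring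
  rw [Finset.sum_congr rfl fun s (hs' : s ∈ (Finset.univ : Finset F).erase 0) =>
    congrArg ((ψ s + ψ (-s)) * ·) (hs s hs')]
  simp only [h0, mul_ite, mul_zero, Finset.sum_ite_eq', Finset.mem_univ, if_true, ← Finset.sum_mul]
  have hsum : ∑ s ∈ (Finset.univ : Finset F).erase 0, (ψ s + ψ (-s)) = -2 := by
    rw [Finset.sum_erase_eq_sub (Finset.mem_univ _), Finset.sum_add_distrib,
      Fintype.sum_equiv (Equiv.neg F) (fun s => ψ (-s)) ψ (fun s => rfl),
      AddChar.sum_eq_zero_of_ne_one hψ, neg_zero, AddChar.map_zero_eq_one]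
    ring
  rw [hsum, neg_zero, AddChar.map_zero_eq_one]
  ring

open scoped _root_.Classical in
theorem sum_SU_SR (l : Rs F →* ℂˣ) :
    ∑ χ : Cfsg.IrrCharacter G, c.SU ψ (χ : G → ℂ) * conj (c.SR l (χ : G → ℂ)) =
      4 * (Nat.card (P2 F) : ℂ) := by
  show ∑ χ : Cfsg.IrrCharacter G, (∑ s, (χ : G → ℂ) (c.t * c.ι (u s)) * (ψ s + ψ (-s))) *
    conj (∑ r : Rs F, (χ : G → ℂ) (c.t * c.ι (r : P2 F)) * conj (l r : ℂ)) = _
  rw [c.sum_col u (fun r : Rs F => (r : P2 F)) odd_orderOf_u (odd_orderOf_Rs c.hq)]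
  simp only [card_conj_u_Rs c.hq, Complex.conj_conj]
  simp [ite_and, mul_comm]
  ring

open scoped _root_.Classical in
theorem sum_SR_SR {l l' : Rs F →* ℂˣ} :
    ∑ χ : Cfsg.IrrCharacter G, c.SR l (χ : G → ℂ) * conj (c.SR l' (χ : G → ℂ)) =
      2 * (Nat.card (P2 F) : ℂ) + ((Fintype.card F : ℂ) + 1) *
        ((∑ r : Rs F, ((l⁻¹ * l') r : ℂ)) + (∑ r : Rs F, ((l⁻¹ * l'⁻¹) r : ℂ)) - 2) := by
  show ∑ χ : Cfsg.IrrCharacter G, (∑ r : Rs F, (χ : G → ℂ) (c.t * c.ι (r : P2 F)) * conj (l r : ℂ)) *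
    conj (∑ r : Rs F, (χ : G → ℂ) (c.t * c.ι (r : P2 F)) * conj (l' r : ℂ)) = _
  rw [c.sum_col (fun r : Rs F => (r : P2 F)) (fun r : Rs F => (r : P2 F)) (odd_orderOf_Rs c.hq)
    (odd_orderOf_Rs c.hq)]
  simp only [Complex.conj_conj]
  rw [← Finset.add_sum_erase _ _ (Finset.mem_univ (1 : Rs F)), mul_add,
    Finset.mul_sum ((Finset.univ : Finset (Rs F)).erase 1) _ (2 : ℂ)]
  have h1 : ∀ r' : Rs F, (Nat.card {k : P2 F // k * ((1 : Rs F) : P2 F) * k⁻¹ = (r' : P2 F)} : ℂ) =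
      if r' = 1 then (Nat.card (P2 F) : ℂ) else 0 := fun r' => by
    rw [Subgroup.coe_one, card_conj_one]
    by_cases h : r' = 1
    · rw [if_pos h, if_pos (by rw [h]; rfl)]
    · rw [if_neg h, if_neg (fun e : (r' : P2 F) = 1 => h (Subtype.ext e)), Nat.cast_zero]
  have hr : ∀ r ∈ (Finset.univ : Finset (Rs F)).erase 1,
      2 * (conj (l r : ℂ) * ∑ r' : Rs F, (l' r' : ℂ) *
        (Nat.card {k : P2 F // k * (r : P2 F) * k⁻¹ = (r' : P2 F)} : ℂ)) =
      ((Fintype.card F : ℂ) + 1) * (((l⁻¹ * l') r : ℂ) + ((l⁻¹ * l'⁻¹) r : ℂ)) := by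
    intro r hr
    have hr0 := Finset.ne_of_mem_erase hr
    have e : ∀ r' : Rs F, 2 * ((l' r' : ℂ) *
        (Nat.card {k : P2 F // k * (r : P2 F) * k⁻¹ = (r' : P2 F)} : ℂ)) =
        ((Fintype.card F : ℂ) + 1) * ((if r' = r then (l' r' : ℂ) else 0) +
          if r' = r⁻¹ then (l' r' : ℂ) else 0) := fun r' => by
      rw [mul_left_comm, card_conj_Rs c.hq hr0]
      split_ifs <;> ring
    rw [mul_left_comm, Finset.mul_sum, Finset.sum_congr rfl fun r' _ => e r', ← Finset.mul_sum,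
      Finset.sum_add_distrib, Finset.sum_ite_eq', Finset.sum_ite_eq']
    simp only [Finset.mem_univ, if_true, conj_hom, MonoidHom.mul_apply, MonoidHom.inv_apply, map_inv,
      Units.val_mul]
    ring
  rw [Finset.sum_congr rfl hr, ← Finset.mul_sum, Finset.sum_erase_eq_sub (Finset.mem_univ _),
    Finset.sum_add_distrib]
  simp only [h1, mul_ite, mul_zero, Finset.sum_ite_eq', Finset.mem_univ, if_true, map_one, Units.val_one,
    one_mul]
  ring

include c in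
theorem natCard_P2_cast : 2 * (Nat.card (P2 F) : ℂ) = (Fintype.card F : ℂ) * ((Fintype.card F : ℂ) ^ 2 - 1) := by
  have h := c.two_mul_card_P2
  have h1 : 1 ≤ Fintype.card F ^ 2 := Nat.one_le_pow _ _ Fintype.card_pos
  have h2 : ((2 * Nat.card (P2 F) : ℕ) : ℂ) = ((Fintype.card F * (Fintype.card F ^ 2 - 1) : ℕ) : ℂ) := by
    rw [h]
  push_cast [Nat.cast_sub h1] at h2
  exact h2

theorem four_mul_card_Rs (hq : Fintype.card F % 8 = 3) :
    4 * (Nat.card (Rs F) : ℂ) = (Fintype.card F : ℂ) + 1 := by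
  exact_mod_cast card_Rs (F := F) hq

open scoped _root_.Classical in
/-- the inner products of the lifts -/
theorem sum_mm_mm (hψ : ψ ≠ 1) (l l' : Rs F →* ℂˣ) :
    ∑ χ : Cfsg.IrrCharacter G, c.mm ψ l (χ : G → ℂ) * conj (c.mm ψ l' (χ : G → ℂ)) =
      4 * ((if l = l' then 1 else 0) + if l * l' = 1 then 1 else 0) := by
  have hUU := c.sum_SU_SU ψ hψ
  have hUR := c.sum_SU_SR ψ l'
  have hRU : ∑ χ : Cfsg.IrrCharacter G, c.SR l (χ : G → ℂ) * conj (c.SU ψ (χ : G → ℂ)) =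
      4 * (Nat.card (P2 F) : ℂ) := by
    have h := congrArg conj (c.sum_SU_SR ψ l)
    rw [map_sum, map_mul, map_ofNat, Complex.conj_natCast] at h
    rw [← h]
    exact Finset.sum_congr rfl fun χ _ => by rw [map_mul, Complex.conj_conj, mul_comm]
  have hRR := c.sum_SR_SR (l := l) (l' := l')
  have hsum : ∀ μ : Rs F →* ℂˣ, ∑ r : Rs F, (μ r : ℂ) = if μ = 1 then (Nat.card (Rs F) : ℂ) else 0 := by
    intro μ
    split_ifs with h
    · subst h; simp [Nat.card_eq_fintype_card]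
    · exact sum_hom_eq_zero h
  rw [hsum, hsum] at hRR
  have i1 : (l⁻¹ * l' = 1) ↔ l = l' :=
    ⟨fun h => MonoidHom.ext fun a => inv_mul_eq_one.1 (DFunLike.congr_fun h a),
      fun h => MonoidHom.ext fun a => by simp [h]⟩
  have i2 : (l⁻¹ * l'⁻¹ = 1) ↔ l * l' = 1 := by
    constructor <;> intro h <;> refine MonoidHom.ext fun a => ?_ <;>
      have := DFunLike.congr_fun h a <;>
      simp only [MonoidHom.mul_apply, MonoidHom.inv_apply, MonoidHom.one_apply] at this ⊢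
    · rw [← mul_inv] at this; exact inv_eq_one.1 this
    · rw [← mul_inv, this, inv_one]
  rw [if_congr i1 rfl rfl, if_congr i2 rfl rfl] at hRR
  set q : ℂ := (Fintype.card F : ℂ) with hq
  set e : ℂ := (Nat.card (Rs F) : ℂ) with he'
  have hF : q ≠ 0 := Nat.cast_ne_zero.2 Fintype.card_ne_zero
  have he : e ≠ 0 := Nat.cast_ne_zero.2 Nat.card_pos.ne'
  have hmul : ∀ χ : Cfsg.IrrCharacter G, c.mm ψ l (χ : G → ℂ) * conj (c.mm ψ l' (χ : G → ℂ)) =
      4 / (q * q) * (c.SU ψ (χ : G → ℂ) * conj (c.SU ψ (χ : G → ℂ))) -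
      2 / (q * e) * (c.SU ψ (χ : G → ℂ) * conj (c.SR l' (χ : G → ℂ))) -
      2 / (q * e) * (c.SR l (χ : G → ℂ) * conj (c.SU ψ (χ : G → ℂ))) +
      1 / (e * e) * (c.SR l (χ : G → ℂ) * conj (c.SR l' (χ : G → ℂ))) := fun χ => by
    simp only [mm, hq, he', map_sub, map_div₀, map_mul, map_ofNat, Complex.conj_natCast]
    field_simp
    ring
  rw [Finset.sum_congr rfl fun χ _ => hmul χ, Finset.sum_add_distrib, Finset.sum_sub_distrib,
    Finset.sum_sub_distrib, ← Finset.mul_sum, ← Finset.mul_sum, ← Finset.mul_sum, ← Finset.mul_sum,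
    hUU, hUR, hRU, hRR]
  have hP := c.natCard_P2_cast
  rw [← hq] at hP
  have hE : q = 4 * e - 1 := by have := four_mul_card_Rs (F := F) c.hq; rw [← hq, ← he'] at this; linear_combination -this
  have hN : (Nat.card (P2 F) : ℂ) = q * (q ^ 2 - 1) / 2 := by linear_combination hP / 2
  rw [hN]
  field_simp
  rw [hE]
  split_ifs <;> ring

/-- the values at `t` -/
theorem sum_mm_t (l : Rs F →* ℂˣ) :
    ∑ χ : Cfsg.IrrCharacter G, c.mm ψ l (χ : G → ℂ) * conj ((χ : G → ℂ) c.t) =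
      4 * ((Fintype.card F : ℂ) - 1) := by
  classical
  have hU : ∑ χ : Cfsg.IrrCharacter G, c.SU ψ (χ : G → ℂ) * conj ((χ : G → ℂ) c.t) =
      4 * (Nat.card (P2 F) : ℂ) := by
    have h := c.sum_col u (fun _ : Fin 1 => (1 : P2 F)) odd_orderOf_u (fun _ => by simp)
      (fun s => ψ s + ψ (-s)) (fun _ => 1)
    simp only [Fin.sum_univ_one, map_one, mul_one, one_mul] at h
    refine h.trans ?_
    have e : ∀ s : F, (Nat.card {k : P2 F // k * u s * k⁻¹ = 1} : ℂ) =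
        if s = 0 then (Nat.card (P2 F) : ℂ) else 0 := fun s => by
      have := card_conj_u_Rs (F := F) c.hq s 1
      rw [Subgroup.coe_one] at this
      rw [this]; split_ifs <;> simp_all
    simp only [e, mul_ite, mul_zero, Finset.sum_ite_eq', Finset.mem_univ, if_true]
    rw [neg_zero, AddChar.map_zero_eq_one]; ring
  have hR : ∑ χ : Cfsg.IrrCharacter G, c.SR l (χ : G → ℂ) * conj ((χ : G → ℂ) c.t) =
      2 * (Nat.card (P2 F) : ℂ) := by
    have h := c.sum_col (fun r : Rs F => (r : P2 F)) (fun _ : Fin 1 => (1 : P2 F)) (odd_orderOf_Rs c.hq)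
      (fun _ => by simp) (fun r => conj (l r : ℂ)) (fun _ => 1)
    simp only [Fin.sum_univ_one, map_one, mul_one, one_mul] at h
    refine h.trans ?_
    have e : ∀ r : Rs F, (Nat.card {k : P2 F // k * (r : P2 F) * k⁻¹ = 1} : ℂ) =
        if r = 1 then (Nat.card (P2 F) : ℂ) else 0 := fun r => by
      by_cases hr : r = 1
      · subst hr; rw [if_pos rfl, Subgroup.coe_one, card_conj_one, if_pos rfl]
      · rw [if_neg hr]
        rw [Nat.card_eq_zero.2 (Or.inl (⟨fun k => hr (Subtype.ext (conj_eq_one_iff.1 k.2))⟩ :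
          IsEmpty {k : P2 F // k * (r : P2 F) * k⁻¹ = 1})), Nat.cast_zero]
    simp only [e, mul_ite, mul_zero, Finset.sum_ite_eq', Finset.mem_univ, if_true, map_one, Units.val_one,
      one_mul]
  have hmul : ∀ χ : Cfsg.IrrCharacter G, c.mm ψ l (χ : G → ℂ) * conj ((χ : G → ℂ) c.t) =
      2 / (Fintype.card F : ℂ) * (c.SU ψ (χ : G → ℂ) * conj ((χ : G → ℂ) c.t)) -
      1 / (Nat.card (Rs F) : ℂ) * (c.SR l (χ : G → ℂ) * conj ((χ : G → ℂ) c.t)) := fun χ => by
    rw [mm]; ring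
  rw [Finset.sum_congr rfl fun χ _ => hmul χ, Finset.sum_sub_distrib, ← Finset.mul_sum, ← Finset.mul_sum,
    hU, hR]
  have hE : (Fintype.card F : ℂ) = 4 * (Nat.card (Rs F) : ℂ) - 1 := by
    linear_combination -four_mul_card_Rs (F := F) c.hq
  have hF : (Fintype.card F : ℂ) ≠ 0 := Nat.cast_ne_zero.2 Fintype.card_ne_zero
  have he : (Nat.card (Rs F) : ℂ) ≠ 0 := Nat.cast_ne_zero.2 Nat.card_pos.ne'
  have hP := c.natCard_P2_cast
  rw [show (Nat.card (P2 F) : ℂ) = (Fintype.card F : ℂ) * ((Fintype.card F : ℂ) ^ 2 - 1) / 2 by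
    linear_combination hP / 2]
  field_simp
  rw [hE]
  ring

/-- the lifts vanish at `1` -/
theorem sum_mm_degree (l : Rs F →* ℂˣ) :
    ∑ χ : Cfsg.IrrCharacter G, c.mm ψ l (χ : G → ℂ) * (χ : G → ℂ) 1 = 0 := by
  have key : ∀ k : P2 F, ∑ χ : Cfsg.IrrCharacter G, (χ : G → ℂ) (c.t * c.ι k) * (χ : G → ℂ) 1 = 0 := by
    intro k
    rw [← sum_degree_mul_apply_of_ne_one (g := c.t * c.ι k)
      (fun h => c.ι_ne 1 k (by rw [map_one, h]))]
    exact Finset.sum_congr rfl fun χ _ => mul_comm _ _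
  have h1 : ∑ χ : Cfsg.IrrCharacter G, c.SU ψ (χ : G → ℂ) * (χ : G → ℂ) 1 = 0 := by
    simp only [SU, Finset.sum_mul, mul_right_comm _ (ψ _ + ψ _)]
    rw [Finset.sum_comm]
    simp [← Finset.sum_mul, key]
  have h2 : ∑ χ : Cfsg.IrrCharacter G, c.SR l (χ : G → ℂ) * (χ : G → ℂ) 1 = 0 := by
    simp only [SR, Finset.sum_mul, mul_right_comm _ (conj (l _ : ℂ))]
    rw [Finset.sum_comm]
    simp [← Finset.sum_mul, key]
  simp only [mm, sub_mul, Finset.sum_sub_distrib, mul_assoc, div_mul_eq_mul_div, ← Finset.sum_div,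
    ← Finset.mul_sum, h1, h2]
  simp

/-- the structure constants -/
theorem sum_mm_sq (hψ : ψ ≠ 1) {l : Rs F →* ℂˣ} (hl : l ≠ 1) :
    (Nat.card G : ℂ) * ((Fintype.card F : ℂ) + 1) * ∑ χ : Cfsg.IrrCharacter G,
        (χ : G → ℂ) c.t * (χ : G → ℂ) c.t * c.mm ψ l (χ : G → ℂ) / (χ : G → ℂ) 1 =
      8 * (Fintype.card F : ℂ) * (Nat.card c.Ct : ℂ) ^ 2 := by
  classical
  set J : P2 F → ℂ := fun a =>
    (Nat.card {k : P2 F // orderOf k = 2 ∧ orderOf (k * a⁻¹) = 2} : ℂ) with hJ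
  set C2 : ℂ := (Nat.card c.Ct : ℂ) ^ 2
  set E : P2 F → ℂ := fun a => (Nat.card G : ℂ) * ∑ χ : Cfsg.IrrCharacter G,
    (χ : G → ℂ) c.t * (χ : G → ℂ) c.t * (χ : G → ℂ) (c.t * c.ι a) / (χ : G → ℂ) 1 with hE
  have hU : (Nat.card G : ℂ) * ∑ χ : Cfsg.IrrCharacter G,
      (χ : G → ℂ) c.t * (χ : G → ℂ) c.t * c.SU ψ (χ : G → ℂ) / (χ : G → ℂ) 1 =
      ∑ s : F, (ψ s + ψ (-s)) * (2 * C2 * J (u s)) := by
    simp only [← c.sum_sq_t_apply (odd_orderOf_u _), hJ, C2]
    simp only [SU, Finset.mul_sum, Finset.sum_div]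
    rw [Finset.sum_comm]
    exact Finset.sum_congr rfl fun s _ => Finset.sum_congr rfl fun χ _ => by ring
  have hR : (Nat.card G : ℂ) * ∑ χ : Cfsg.IrrCharacter G,
      (χ : G → ℂ) c.t * (χ : G → ℂ) c.t * c.SR l (χ : G → ℂ) / (χ : G → ℂ) 1 =
      ∑ r : Rs F, conj (l r : ℂ) * (2 * C2 * J r) := by
    simp only [← c.sum_sq_t_apply (odd_orderOf_Rs c.hq _), hJ, C2]
    simp only [SR, Finset.mul_sum, Finset.sum_div]
    rw [Finset.sum_comm]
    exact Finset.sum_congr rfl fun s _ => Finset.sum_congr rfl fun χ _ => by ring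
  have hJ1 : 2 * J 1 = (Fintype.card F : ℂ) * ((Fintype.card F : ℂ) - 1) := by
    have h := card_involutions (F := F) c.hq
    rw [← card_pairs_one (F := F)] at h
    have h2 := congrArg (Nat.cast : ℕ → ℂ) h
    push_cast [Nat.cast_sub (Fintype.card_pos : 0 < Fintype.card F)] at h2
    exact h2
  have hU' : ∑ s : F, (ψ s + ψ (-s)) * (2 * C2 * J (u s)) =
      2 * C2 * ((Fintype.card F : ℂ) * ((Fintype.card F : ℂ) - 1)) := by
    rw [Finset.sum_eq_single (0 : F) (fun s _ hs => by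
      rw [hJ]; simp only; rw [card_pairs_u c.hq hs]; simp) (by simp), neg_zero, u_zero,
      AddChar.map_zero_eq_one, ← hJ1]
    ring
  have hR' : ∑ r : Rs F, conj (l r : ℂ) * (2 * C2 * J r) =
      C2 * ((Fintype.card F : ℂ) * ((Fintype.card F : ℂ) - 1) - ((Fintype.card F : ℂ) + 1)) := by
    have hz : ∑ r : Rs F, conj (l r : ℂ) = 0 := by rw [← map_sum, sum_hom_eq_zero hl, map_zero]
    rw [← Finset.add_sum_erase _ _ (Finset.mem_univ (1 : Rs F))]
    have he : ∀ r ∈ (Finset.univ : Finset (Rs F)).erase 1, conj (l r : ℂ) * (2 * C2 * J r) =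
        conj (l r : ℂ) * (C2 * ((Fintype.card F : ℂ) + 1)) := fun r hr => by
      have h := congrArg (Nat.cast : ℕ → ℂ) (card_pairs_Rs (F := F) c.hq (Finset.ne_of_mem_erase hr))
      push_cast at h
      rw [← h]; ring
    rw [Finset.sum_congr rfl he, ← Finset.sum_mul, Finset.sum_erase_eq_sub (Finset.mem_univ _), hz,
      map_one, Units.val_one, map_one, Subgroup.coe_one, ← hJ1]
    ring
  have hsplit : ∀ χ : Cfsg.IrrCharacter G,
      (χ : G → ℂ) c.t * (χ : G → ℂ) c.t * c.mm ψ l (χ : G → ℂ) / (χ : G → ℂ) 1 =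
      2 / (Fintype.card F : ℂ) *
        ((χ : G → ℂ) c.t * (χ : G → ℂ) c.t * c.SU ψ (χ : G → ℂ) / (χ : G → ℂ) 1) -
      1 / (Nat.card (Rs F) : ℂ) *
        ((χ : G → ℂ) c.t * (χ : G → ℂ) c.t * c.SR l (χ : G → ℂ) / (χ : G → ℂ) 1) := fun χ => by
    rw [mm]; ring
  rw [Finset.sum_congr rfl fun χ _ => hsplit χ, Finset.sum_sub_distrib, ← Finset.mul_sum, ← Finset.mul_sum]
  have hE4 : (Fintype.card F : ℂ) + 1 = 4 * (Nat.card (Rs F) : ℂ) := (four_mul_card_Rs (F := F) c.hq).symm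
  have hF : (Fintype.card F : ℂ) ≠ 0 := Nat.cast_ne_zero.2 Fintype.card_ne_zero
  have he : (Nat.card (Rs F) : ℂ) ≠ 0 := Nat.cast_ne_zero.2 Nat.card_pos.ne'
  calc _ = ((Fintype.card F : ℂ) + 1) * (2 / (Fintype.card F : ℂ) *
        ((Nat.card G : ℂ) * ∑ χ : Cfsg.IrrCharacter G,
          (χ : G → ℂ) c.t * (χ : G → ℂ) c.t * c.SU ψ (χ : G → ℂ) / (χ : G → ℂ) 1) -
        1 / (Nat.card (Rs F) : ℂ) * ((Nat.card G : ℂ) * ∑ χ : Cfsg.IrrCharacter G,
          (χ : G → ℂ) c.t * (χ : G → ℂ) c.t * c.SR l (χ : G → ℂ) / (χ : G → ℂ) 1)) := by ring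
    _ = _ := by
      rw [hU, hR, hU', hR']
      field_simp
      rw [show (Fintype.card F : ℂ) = 4 * (Nat.card (Rs F) : ℂ) - 1 by linear_combination hE4]
      ring

end Ctx

end CfsgLib.LocalEven.GoldS
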