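import Cfsg.Agent.Lib.LocalEven.GoldS.PSLCent
import Cfsg.Agent.Lib.Known.SL2Char.SLSeries

/-!
Owner: helper26. Groups of Ree type, character part: the nonsplit torus of `PSL(2, q)`, `q ≡ 3 (mod 8)`,
its normaliser and the involutions.
-/

set_option autoImplicit false
set_option linter.all false

namespace CfsgLib.LocalEven.GoldS.PSLF

open Matrix CfsgLib.Char CfsgLib.PLocal.SLTwo CfsgLib.SL2Char

variable {F : Type*} [Field F]

/-- a rotation -/
def IsRot (y : S2 F) : Prop := y.1 1 1 = y.1 0 0 ∧ y.1 1 0 = -y.1 0 1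

theorem IsRot.mul {x y : S2 F} (hx : IsRot x) (hy : IsRot y) : IsRot (x * y) := by
  refine ⟨?_, ?_⟩ <;> simp [m00, m01, m10, m11, hx.1, hx.2, hy.1, hy.2] <;> ring

theorem IsRot.inv {x : S2 F} (hx : IsRot x) : IsRot x⁻¹ := by
  refine ⟨?_, ?_⟩ <;> simp [i00, i01, i10, i11, hx.1, hx.2]

theorem IsRot.det {x : S2 F} (hx : IsRot x) : x.1 0 0 ^ 2 + x.1 0 1 ^ 2 = 1 := by
  have := det2 x
  rw [hx.1, hx.2] at this
  linear_combination this

theorem IsRot.comm {x y : S2 F} (hx : IsRot x) (hy : IsRot y) : x * y = y * x := by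
  refine ext2 ?_ ?_ ?_ ?_ <;> simp [m00, m01, m10, m11, hx.1, hx.2, hy.1, hy.2] <;> ring

/-- the rotation group modulo `±1` -/
def Ts (F : Type*) [Field F] : Subgroup (P2 F) where
  carrier := {x | ∃ y : S2 F, mk y = x ∧ IsRot y}
  mul_mem' := by
    rintro _ _ ⟨x, rfl, hx⟩ ⟨y, rfl, hy⟩
    exact ⟨x * y, map_mul _ _ _, hx.mul hy⟩
  one_mem' := ⟨1, map_one _, by simp [IsRot]⟩
  inv_mem' := by
    rintro _ ⟨x, rfl, hx⟩
    exact ⟨x⁻¹, map_inv _ _, hx.inv⟩

theorem isRot_wS : IsRot (wS : S2 F) := by simp [IsRot]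

theorem ww_mem_Ts : ww F ∈ Ts F := ⟨wS, rfl, isRot_wS⟩

theorem Ts_comm {x y : P2 F} (hx : x ∈ Ts F) (hy : y ∈ Ts F) : x * y = y * x := by
  obtain ⟨a, rfl, ha⟩ := hx
  obtain ⟨b, rfl, hb⟩ := hy
  rw [← map_mul, ← map_mul, ha.comm hb]

section

variable [Fintype F] [CharP F 3]

theorem not_isSquare_neg_one (hq : Fintype.card F % 8 = 3) : ¬ IsSquare (-1 : F) := by
  rw [FiniteField.isSquare_neg_one_iff]
  omega

theorem sq_add_sq_eq_zero (hq : Fintype.card F % 8 = 3) {a b : F} (h : a ^ 2 + b ^ 2 = 0) :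
    a = 0 ∧ b = 0 := by
  by_cases hb : b = 0
  · subst hb
    exact ⟨pow_eq_zero_iff two_ne_zero |>.1 (by linear_combination h), rfl⟩
  · refine absurd ⟨a / b, ?_⟩ (not_isSquare_neg_one (F := F) hq)
    field_simp
    linear_combination -h

/-- the circle has `q + 1` points -/
theorem card_circle (hq : Fintype.card F % 8 = 3) :
    Nat.card {p : F × F // p.1 ^ 2 + p.2 ^ 2 = 1} = Fintype.card F + 1 := by
  have hl : ∀ l : F, (1 : F) + l ^ 2 ≠ 0 := fun l h =>
    one_ne_zero (sq_add_sq_eq_zero hq (a := 1) (b := l) (by linear_combination h)).1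
  have h2 : (2 : F) ≠ 0 := two_ne_zero'
  let f : Option F → {p : F × F // p.1 ^ 2 + p.2 ^ 2 = 1} := fun o => match o with
    | none => ⟨(-1, 0), by ring⟩
    | some l => ⟨((1 - l ^ 2) / (1 + l ^ 2), 2 * l / (1 + l ^ 2)), by
        have := hl l
        field_simp
        ring⟩
  have hne : ∀ l : F, (1 - l ^ 2) / (1 + l ^ 2) ≠ -1 := fun l h => by
    rw [div_eq_iff (hl l)] at h
    exact h2 (by linear_combination h)
  have hbij : Function.Bijective f := by
    refine ⟨?_, ?_⟩
    · rintro (- | l) (- | l') h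
      · rfl
      · exact absurd (congrArg (fun p => p.1.1) h).symm (hne l')
      · exact absurd (congrArg (fun p => p.1.1) h) (hne l)
      · have e1 : (1 - l ^ 2) / (1 + l ^ 2) = (1 - l' ^ 2) / (1 + l' ^ 2) :=
          congrArg (fun p => p.1.1) h
        have e2 : 2 * l / (1 + l ^ 2) = 2 * l' / (1 + l' ^ 2) := congrArg (fun p => p.1.2) h
        rw [div_eq_div_iff (hl l) (hl l')] at e1 e2
        have e3 : l ^ 2 = l' ^ 2 := mul_left_cancel₀ h2 (by linear_combination -e1)
        rw [← e3] at e2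
        exact congrArg some (mul_left_cancel₀ h2 (mul_right_cancel₀ (hl l) e2))
    · rintro ⟨⟨a, b⟩, h⟩
      simp only at h
      by_cases ha : 1 + a = 0
      · refine ⟨none, Subtype.ext ?_⟩
        have : a = -1 := by linear_combination ha
        subst this
        have : b = 0 := pow_eq_zero_iff two_ne_zero |>.1 (by linear_combination h)
        subst this
        rfl
      · refine ⟨some (b / (1 + a)), Subtype.ext ?_⟩
        have := hl (b / (1 + a))
        have key : 1 + (b / (1 + a)) ^ 2 = 2 / (1 + a) := by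
          field_simp
          linear_combination h
        refine Prod.ext ?_ ?_
        · show (1 - (b / (1 + a)) ^ 2) / (1 + (b / (1 + a)) ^ 2) = a
          rw [key]
          field_simp
          linear_combination -h
        · show 2 * (b / (1 + a)) / (1 + (b / (1 + a)) ^ 2) = b
          rw [key]
          field_simp
  rw [← Nat.card_eq_of_bijective f hbij, Finite.card_option, Nat.card_eq_fintype_card]

theorem ne_neg_self (z : S2 F) : z ≠ -z := by
  intro h
  have h00 := congrArg (fun w : S2 F => w.1 0 0) h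
  have h10 := congrArg (fun w : S2 F => w.1 1 0) h
  simp at h00 h10
  have hd := det2 z
  have e0 : z.1 0 0 = 0 :=
    (mul_eq_zero.1 (show (2 : F) * z.1 0 0 = 0 by linear_combination h00)).resolve_left two_ne_zero'
  have e1 : z.1 1 0 = 0 :=
    (mul_eq_zero.1 (show (2 : F) * z.1 1 0 = 0 by linear_combination h10)).resolve_left two_ne_zero'
  rw [e0, e1] at hd
  simp at hd

/-- a set of matrices closed under negation has twice the size of its image -/
theorem card_lifts (P : S2 F → Prop) (hP : ∀ y, P y → P (-y)) :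
    2 * Nat.card {x : P2 F // ∃ y, mk y = x ∧ P y} = Nat.card {y : S2 F // P y} := by
  classical
  have : Fintype (S2 F) := Fintype.ofFinite _
  set S : Finset (S2 F) := Finset.univ.filter P with hS
  have h1 : Nat.card {y : S2 F // P y} = S.card := by
    rw [Nat.card_eq_fintype_card, Fintype.card_subtype]
  have h2 : Nat.card {x : P2 F // ∃ y, mk y = x ∧ P y} = (S.image fun y => mk y).card := by
    show Nat.card ↥{x : P2 F | ∃ y, mk y = x ∧ P y} = _
    rw [Nat.card_coe_set_eq, ← Set.ncard_coe_finset]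
    congr 1
    ext x
    simp [S, and_comm]
  rw [h1, h2, Finset.card_eq_sum_card_image (fun y => mk y) S, Finset.sum_const_nat (m := 2)]
  · ring
  · intro x hx
    obtain ⟨z, hz, rfl⟩ := Finset.mem_image.1 hx
    have hz' : P z := (Finset.mem_filter.1 hz).2
    rw [show S.filter (fun y => mk y = mk z) = {z, -z} from ?_, Finset.card_pair (ne_neg_self z)]
    ext y
    simp only [Finset.mem_filter, Finset.mem_insert, Finset.mem_singleton, hS, Finset.mem_univ,
      true_and, mk_eq_mk]
    constructor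
    · rintro ⟨-, e | e⟩
      · exact Or.inl e.symm
      · exact Or.inr (by rw [e, neg_neg])
    · rintro (rfl | rfl)
      · exact ⟨hz', Or.inl rfl⟩
      · exact ⟨hP _ hz', Or.inr (neg_neg z).symm⟩

theorem card_Ts (hq : Fintype.card F % 8 = 3) : 2 * Nat.card (Ts F) = Fintype.card F + 1 := by
  rw [← card_circle (F := F) hq, show Nat.card (Ts F) = Nat.card {x : P2 F // ∃ y, mk y = x ∧ IsRot y}
    from rfl, card_lifts IsRot (fun y hy => by simp [IsRot, hy.1, hy.2])]
  refine Nat.card_congr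
    { toFun := fun y => ⟨(y.1.1 0 0, y.1.1 0 1), y.2.det⟩
      invFun := fun p => ⟨⟨!![p.1.1, p.1.2; -p.1.2, p.1.1], by
        rw [Matrix.det_fin_two_of]; linear_combination p.2⟩, by simp [IsRot]⟩
      left_inv := fun y => Subtype.ext (ext2 (by simp) (by simp) (by simp [y.2.2]) (by simp [y.2.1]))
      right_inv := fun p => by ext <;> simp }

theorem Ts_sq_eq_one {x : P2 F} (hx : x ∈ Ts F) (h : x * x = 1) : x = 1 ∨ x = ww F := by
  obtain ⟨y, rfl, hy⟩ := hx
  rw [← map_mul, mk_eq_one] at h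
  have h2 : (2 : F) ≠ 0 := two_ne_zero'
  have hd := hy.det
  have hab : y.1 0 0 * y.1 0 1 = 0 := by
    rcases h with e | e <;>
    · have := congrArg (fun w : S2 F => w.1 0 1) e
      simp [m01, hy.1] at this
      exact mul_left_cancel₀ h2 (by linear_combination this)
  rcases mul_eq_zero.1 hab with e | e
  · right
    rw [ww, mk_eq_mk]
    rw [e] at hd
    have hd' : (y.1 0 1 - 1) * (y.1 0 1 + 1) = 0 := by linear_combination hd
    rcases mul_eq_zero.1 hd' with e' | e'
    · left; refine ext2 ?_ ?_ ?_ ?_ <;> simp [e, hy.1, hy.2, sub_eq_zero.1 e']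
    · right; refine ext2 ?_ ?_ ?_ ?_ <;> simp [e, hy.1, hy.2, eq_neg_of_add_eq_zero_left e']
  · left
    rw [mk_eq_one]
    rw [e] at hd
    have hd' : (y.1 0 0 - 1) * (y.1 0 0 + 1) = 0 := by linear_combination hd
    rcases mul_eq_zero.1 hd' with e' | e'
    · left; refine ext2 ?_ ?_ ?_ ?_ <;> simp [e, hy.1, hy.2, sub_eq_zero.1 e']
    · right; refine ext2 ?_ ?_ ?_ ?_ <;> simp [e, hy.1, hy.2, eq_neg_of_add_eq_zero_left e']

/-- the odd part of the rotation group -/
def Rs (F : Type*) [Field F] : Subgroup (P2 F) where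
  carrier := {x | ∃ y ∈ Ts F, x = y * y}
  mul_mem' := by
    rintro _ _ ⟨a, ha, rfl⟩ ⟨b, hb, rfl⟩
    refine ⟨a * b, mul_mem ha hb, ?_⟩
    rw [mul_assoc a b (a * b), ← mul_assoc b a b, Ts_comm hb ha]
    group
  one_mem' := ⟨1, one_mem _, by simp⟩
  inv_mem' := by
    rintro _ ⟨a, ha, rfl⟩
    exact ⟨a⁻¹, inv_mem ha, by rw [_root_.mul_inv_rev]⟩

theorem Rs_le_Ts : Rs F ≤ Ts F := by
  rintro _ ⟨a, ha, rfl⟩
  exact mul_mem ha ha

theorem Rs_comm {x y : P2 F} (hx : x ∈ Rs F) (hy : y ∈ Rs F) : x * y = y * x :=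
  Ts_comm (Rs_le_Ts hx) (Rs_le_Ts hy)

theorem card_Rs (hq : Fintype.card F % 8 = 3) : 4 * Nat.card (Rs F) = Fintype.card F + 1 := by
  let f : Ts F →* P2 F :=
    { toFun := fun x => (x : P2 F) * x
      map_one' := by simp
      map_mul' := fun a b => by
        simp only [Subgroup.coe_mul]
        rw [mul_assoc (a : P2 F) b (a * b), ← mul_assoc (b : P2 F) a b, Ts_comm b.2 a.2]
        group }
  have hr : f.range = Rs F := by
    ext x
    constructor
    · rintro ⟨a, rfl⟩; exact ⟨a, a.2, rfl⟩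
    · rintro ⟨a, ha, rfl⟩; exact ⟨⟨a, ha⟩, rfl⟩
  have hk : Nat.card f.ker = 2 := by
    have : Fintype (P2 F) := Fintype.ofFinite _
    rw [← SetLike.coe_sort_coe, Nat.card_coe_set_eq]
    have e : ((f.ker : Subgroup (Ts F)) : Set (Ts F)) = {1, ⟨ww F, ww_mem_Ts⟩} := by
      ext x
      simp only [SetLike.mem_coe, MonoidHom.mem_ker, Set.mem_insert_iff, Set.mem_singleton_iff,
        Subtype.ext_iff, OneMemClass.coe_one]
      refine ⟨fun h => Ts_sq_eq_one x.2 h, ?_⟩
      rintro (h | h) <;> show (x : P2 F) * x = 1 <;> rw [h]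
      · rw [one_mul]
      · rw [← pow_two]; exact orderOf_dvd_iff_pow_eq_one.1 (dvd_of_eq orderOf_ww)
    rw [e, Set.ncard_pair]
    intro h
    have := orderOf_ww (F := F)
    have h' : (1 : P2 F) = ww F := congrArg (fun x : Ts F => (x : P2 F)) h
    rw [← h', orderOf_one] at this
    omega
  have h1 : Nat.card f.ker * f.ker.index = Nat.card (Ts F) := f.ker.card_mul_index
  rw [Subgroup.index_ker, hk, hr] at h1
  have := card_Ts (F := F) hq
  omega

theorem Rs_facts (hq : Fintype.card F % 8 = 3) :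
    Odd (Nat.card (Rs F)) ∧ ¬ 3 ∣ Nat.card (Rs F) := by
  have h := card_Rs (F := F) hq
  have h3 : 3 ∣ Fintype.card F := by
    obtain ⟨n, -, hn⟩ := FiniteField.card F 3
    rw [hn]
    exact dvd_pow_self 3 n.pos.ne'
  refine ⟨?_, fun hd => ?_⟩
  · rw [Nat.odd_iff]; omega
  · omega

theorem Rs_sq_ne_one (hq : Fintype.card F % 8 = 3) {b : P2 F} (hb : b ∈ Rs F) (h1 : b ≠ 1) :
    b * b ≠ 1 := by
  intro h
  have ho : orderOf b ∣ 2 := orderOf_dvd_of_pow_eq_one (by rw [pow_two]; exact h)
  have hd := (Rs_facts hq).1.of_dvd_nat ((Rs F).orderOf_dvd_natCard hb)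
  rcases (Nat.dvd_prime Nat.prime_two).1 ho with e | e
  · exact h1 (orderOf_eq_one_iff.1 e)
  · rw [e] at hd; exact absurd hd (by decide)

/-- centralisers in the rotation group -/
theorem centralizer_Ts {b k : P2 F} (hb : b ∈ Ts F) (h2 : b * b ≠ 1) (hk : k * b = b * k) :
    k ∈ Ts F := by
  obtain ⟨x, rfl, hx⟩ := hb
  obtain ⟨y, rfl⟩ := mk_surjective k
  have ht : tr x ≠ 0 := fun h => h2 (by rw [← map_mul, sq_eq_neg_one h, mk_neg, map_one])
  have hxy := lift_commute hk ht two_ne_zero'
  have hb0 : x.1 0 1 ≠ 0 := by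
    intro h0
    refine h2 ?_
    rw [← map_mul, mk_eq_one]
    left
    have hd := hx.det
    rw [h0] at hd
    refine ext2 ?_ ?_ ?_ ?_ <;> simp [m00, m01, m10, m11, h0, hx.1, hx.2] <;>
      linear_combination hd
  have e00 := congrArg (fun w : S2 F => w.1 0 0) hxy
  have e01 := congrArg (fun w : S2 F => w.1 0 1) hxy
  simp [m00, m01, hx.1, hx.2] at e00 e01
  refine ⟨y, rfl, mul_left_cancel₀ hb0 ?_, mul_left_cancel₀ hb0 ?_⟩
  · linear_combination e01
  · linear_combination e00

/-- fusion in the rotation group -/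
theorem fusion_Ts {b b' k : P2 F} (hb : b ∈ Ts F) (hb' : b' ∈ Ts F)
    (hk : k * b * k⁻¹ = b') : b' = b ∨ b' = b⁻¹ := by
  obtain ⟨x, rfl, hx⟩ := hb
  obtain ⟨x', rfl, hx'⟩ := hb'
  obtain ⟨y, rfl⟩ := mk_surjective k
  rw [← map_inv, ← map_mul, ← map_mul] at hk
  have hd := hx.det
  have hd' := hx'.det
  have key : x'.1 0 0 = x.1 0 0 ∨ x'.1 0 0 = -x.1 0 0 := by
    have h2 : (2 : F) ≠ 0 := two_ne_zero'
    rcases mk_eq_mk.1 hk with e | e
    · left
      have := congrArg tr e
      rw [tr_conj] at this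
      simp only [tr, hx.1, hx'.1] at this
      exact mul_left_cancel₀ h2 (by linear_combination this)
    · right
      have := congrArg tr e
      simp only [tr, neg_entry] at this
      have t2 : tr (y * x * y⁻¹) = tr x := tr_conj _ _
      simp only [tr, hx.1, hx'.1] at this t2
      exact mul_left_cancel₀ h2 (by linear_combination this - t2)
  rcases key with ea | ea
  · have : (x'.1 0 1 - x.1 0 1) * (x'.1 0 1 + x.1 0 1) = 0 := by
      rw [ea] at hd'; linear_combination hd' - hd
    rcases mul_eq_zero.1 this with e | e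
    · left; congr 1
      refine ext2 ?_ ?_ ?_ ?_ <;> simp [hx.1, hx.2, hx'.1, hx'.2, ea, sub_eq_zero.1 e]
    · right; rw [← map_inv]; congr 1
      refine ext2 ?_ ?_ ?_ ?_ <;>
        simp [i00, i01, i10, i11, hx.1, hx.2, hx'.1, hx'.2, ea, eq_neg_of_add_eq_zero_left e]
  · have : (x'.1 0 1 - x.1 0 1) * (x'.1 0 1 + x.1 0 1) = 0 := by
      rw [ea] at hd'; linear_combination hd' - hd
    rcases mul_eq_zero.1 this with e | e
    · right; rw [← map_inv, mk_eq_mk]; right
      refine ext2 ?_ ?_ ?_ ?_ <;>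
        simp [i00, i01, i10, i11, hx.1, hx.2, hx'.1, hx'.2, ea, sub_eq_zero.1 e]
    · left; rw [mk_eq_mk]; right
      refine ext2 ?_ ?_ ?_ ?_ <;>
        simp [hx.1, hx.2, hx'.1, hx'.2, ea, eq_neg_of_add_eq_zero_left e]

theorem exists_refl_entries (hq : Fintype.card F % 8 = 3) : ∃ c d : F, c ^ 2 + d ^ 2 = -1 := by
  classical
  obtain ⟨c, d, h⟩ := FiniteField.exists_root_sum_quadratic
    (f := (Polynomial.X ^ 2 : Polynomial F)) (g := Polynomial.X ^ 2 + 1)
    (Polynomial.degree_X_pow 2) (by compute_degree!) (by omega)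
  exact ⟨c, d, by simp at h; linear_combination h⟩

/-- a Klein four group and an element of order three permuting its involutions -/
theorem exists_klein (hq : Fintype.card F % 8 = 3) :
    ∃ j y : P2 F, orderOf j = 2 ∧ j * ww F = ww F * j ∧ j ∉ Ts F ∧
      (∀ b ∈ Ts F, j * b * j⁻¹ = b⁻¹) ∧
      orderOf y = 3 ∧ y * ww F * y⁻¹ = j ∧ y * j * y⁻¹ = ww F * j ∧ y * (ww F * j) * y⁻¹ = ww F ∧
      ∃ k s, s ≠ 0 ∧ k * y * k⁻¹ = u s := by
  obtain ⟨c, d, hcd⟩ := exists_refl_entries (F := F) hq
  let z : S2 F := ⟨!![c, d; d, -c], by simp [Matrix.det_fin_two_of]; linear_combination -hcd⟩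
  have h2 : (2 : F) ≠ 0 := two_ne_zero'
  have h3 : (3 : F) = 0 := by exact_mod_cast CharP.cast_eq_zero F 3
  let y : S2 F := ⟨!![1 + c + d, 1 + d - c; -1 + d - c, 1 - c - d], by
    rw [Matrix.det_fin_two_of]; linear_combination (-2) * hcd + h3⟩
  have z00 : z.1 0 0 = c := rfl
  have z01 : z.1 0 1 = d := rfl
  have z10 : z.1 1 0 = d := rfl
  have z11 : z.1 1 1 = -c := rfl
  have y00 : y.1 0 0 = 1 + c + d := rfl
  have y01 : y.1 0 1 = 1 + d - c := rfl
  have y10 : y.1 1 0 = -1 + d - c := rfl
  have y11 : y.1 1 1 = 1 - c - d := rfl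
  have hz2 : mk z * mk z = 1 := by
    rw [← map_mul, sq_eq_neg_one (by simp [tr, z00, z11]), mk_neg, map_one]
  have hznT : mk z ∉ Ts F := by
    rintro ⟨x, hx, hr⟩
    have hc : c = 0 ∧ d = 0 := by
      rcases mk_eq_mk.1 hx with e | e <;>
      · have ea := congrArg (fun w : S2 F => w.1 0 0) e
        have eb := congrArg (fun w : S2 F => w.1 0 1) e
        have ec := congrArg (fun w : S2 F => w.1 1 0) e
        have ed := congrArg (fun w : S2 F => w.1 1 1) e
        simp [z00, z01, z10, z11, hr.1, hr.2] at ea eb ec ed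
        exact ⟨mul_left_cancel₀ h2 (by first | linear_combination ea - ed | linear_combination ea + ed),
          mul_left_cancel₀ h2 (by first | linear_combination eb + ec | linear_combination eb - ec)⟩
    rw [hc.1, hc.2] at hcd
    simp at hcd
  refine ⟨mk z, mk y, orderOf_eq_prime (by rw [pow_two]; exact hz2) (fun h => hznT (h ▸ one_mem _)),
    ?_, hznT, ?_, ?_, ?_, ?_, ?_, ?_⟩
  · rw [ww, ← map_mul, ← map_mul, mk_eq_mk]
    right
    refine ext2 ?_ ?_ ?_ ?_ <;> simp [m00, m01, m10, m11, z00, z01, z10, z11]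
  · rintro _ ⟨x, rfl, hx⟩
    rw [← map_inv, ← map_inv, ← map_mul, ← map_mul]
    congr 1
    rw [mul_inv_eq_iff_eq_mul]
    refine ext2 ?_ ?_ ?_ ?_ <;>
      simp [m00, m01, m10, m11, i00, i01, i10, i11, z00, z01, z10, z11, hx.1, hx.2] <;> ring
  · refine orderOf_eq_prime ?_ ?_
    · rw [← map_pow, show y ^ 3 = 1 from ?_, map_one]
      refine ext2 ?_ ?_ ?_ ?_ <;>
        simp [pow_succ, m00, m01, m10, m11, y00, y01, y10, y11]
      all_goals grobner
    · intro h
      rcases mk_eq_one.1 h with e | e <;>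
      · have eb := congrArg (fun w : S2 F => w.1 0 1) e
        have ec := congrArg (fun w : S2 F => w.1 1 0) e
        simp [y01, y10] at eb ec
        exact h2 (by linear_combination eb - ec)
  · rw [ww, ← map_inv, ← map_mul, ← map_mul, mk_eq_mk]
    left
    rw [eq_mul_inv_iff_mul_eq]
    refine ext2 ?_ ?_ ?_ ?_ <;>
      simp [m00, m01, m10, m11, z00, z01, z10, z11, y00, y01, y10, y11]
    all_goals grobner
  · rw [ww, ← map_inv, ← map_mul, ← map_mul, ← map_mul, mk_eq_mk]
    left
    rw [eq_mul_inv_iff_mul_eq]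
    refine ext2 ?_ ?_ ?_ ?_ <;>
      simp [m00, m01, m10, m11, z00, z01, z10, z11, y00, y01, y10, y11]
    all_goals grobner
  · rw [ww, ← map_inv, ← map_mul, ← map_mul, ← map_mul, mk_eq_mk]
    left
    rw [eq_mul_inv_iff_mul_eq]
    refine ext2 ?_ ?_ ?_ ?_ <;>
      simp [m00, m01, m10, m11, z00, z01, z10, z11, y00, y01, y10, y11]
    all_goals grobner
  · have hn : NonScalar y := by
      intro hs
      obtain ⟨e1, e2, -⟩ := hs
      rw [y01] at e1
      rw [y10] at e2
      exact h2 (by linear_combination e1 - e2)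
    obtain ⟨h, a, s, ha, -, -, hM⟩ := exists_conj_signed_U hn (by
      simp [tr, y00, y11]
      ring)
    have e : mk h * mk y * (mk h)⁻¹ = u s := by
      rw [u, ← map_inv, ← map_mul, ← map_mul, mk_eq_mk]
      rcases ha with rfl | rfl
      · left
        exact (Subtype.ext (by rw [hM]; simp)).symm
      · right
        refine Subtype.ext ?_
        rw [Matrix.SpecialLinearGroup.coe_neg, hM]
        simp
    refine ⟨mk h, s, fun h0 => ?_, e⟩
    rw [h0, u_zero, conj_eq_one_iff] at e
    rcases mk_eq_one.1 e with e' | e' <;>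
    · have eb := congrArg (fun w : S2 F => w.1 0 1) e'
      have ec := congrArg (fun w : S2 F => w.1 1 0) e'
      simp [y01, y10] at eb ec
      exact h2 (by linear_combination eb - ec)

/-- odd order elements centralising the Weyl involution -/
theorem mem_Rs_of_odd (hq : Fintype.card F % 8 = 3) {x : P2 F} (hx : x * ww F = ww F * x)
    (ho : Odd (orderOf x)) : x ∈ Rs F := by
  have hT : x ∈ Ts F := by
    obtain ⟨y, rfl⟩ := mk_surjective x
    rw [ww, ← map_mul, ← map_mul] at hx
    rcases mk_eq_mk.1 hx with e | e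
    · have ea := congrArg (fun w : S2 F => w.1 0 0) e
      have eb := congrArg (fun w : S2 F => w.1 0 1) e
      simp [m00, m01] at ea eb
      exact ⟨y, rfl, by first | linear_combination eb | linear_combination -eb,
        by first | linear_combination ea | linear_combination -ea⟩
    · exfalso
      have ea := congrArg (fun w : S2 F => w.1 0 0) e
      have eb := congrArg (fun w : S2 F => w.1 0 1) e
      simp [m00, m01] at ea eb
      have ht : tr y = 0 := by
        simp only [tr]; first | linear_combination eb | linear_combination -eb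
      have h1 : mk y ^ 2 = 1 := by
        rw [pow_two, ← map_mul, sq_eq_neg_one ht, mk_neg, map_one]
      rcases (Nat.dvd_prime Nat.prime_two).1 (orderOf_dvd_of_pow_eq_one h1) with e' | e'
      · rcases mk_eq_one.1 (orderOf_eq_one_iff.1 e') with r | r <;>
          · rw [r] at ht; simp [tr] at ht
            exact two_ne_zero' (by first | linear_combination ht | linear_combination -ht)
      · rw [e'] at ho; exact absurd ho (by decide)
  obtain ⟨j, hj⟩ := ho
  refine ⟨x ^ (j + 1), pow_mem hT _, ?_⟩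
  rw [← pow_add, show j + 1 + (j + 1) = (2 * j + 1) + 1 by ring, ← hj, pow_succ, pow_orderOf_eq_one,
    one_mul]

/-- the involutions -/
theorem card_involutions (hq : Fintype.card F % 8 = 3) :
    2 * Nat.card {x : P2 F // orderOf x = 2} = Fintype.card F * (Fintype.card F - 1) := by
  have h2 : (2 : F) ≠ 0 := two_ne_zero'
  have hiff : ∀ x : P2 F, orderOf x = 2 ↔ ∃ y : S2 F, mk y = x ∧ tr y = 0 := by
    intro x
    constructor
    · intro hx
      obtain ⟨z, rfl⟩ := mk_surjective x
      refine ⟨z, rfl, ?_⟩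
      have hsq : mk (z * z) = 1 :=
        (map_mul _ _ _).trans ((pow_two _).symm.trans (orderOf_dvd_iff_pow_eq_one.1 (dvd_of_eq hx)))
      rcases mk_eq_one.1 hsq with e | e
      · exfalso
        rcases CfsgLib.Classical.Two.eq_one_or_neg_one_of_sq h2 z e with e' | e'
        · have : z = 1 := Subtype.ext e'
          rw [this, map_one, orderOf_one] at hx
          omega
        · have : z = -1 := Subtype.ext (by rw [e']; simp)
          rw [this, mk_neg, map_one, orderOf_one] at hx
          omega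
      · have h00 := congrArg tr e
        have hd := det2 z
        simp [tr, m00, m11] at h00
        have : tr z ^ 2 = 0 := by simp only [tr]; linear_combination h00 + 2 * hd
        exact pow_eq_zero_iff two_ne_zero |>.1 this
    · rintro ⟨y, rfl, hy⟩
      refine orderOf_eq_prime (by rw [pow_two, ← map_mul, sq_eq_neg_one hy, mk_neg, map_one]) ?_
      intro h
      rcases mk_eq_one.1 h with r | r <;>
      · rw [r] at hy; simp [tr] at hy
        exact h2 (by first | linear_combination hy | linear_combination -hy)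
  rw [show Nat.card {x : P2 F // orderOf x = 2} = Nat.card {x : P2 F // ∃ y, mk y = x ∧ tr y = 0} from
    Nat.card_congr (Equiv.subtypeEquivRight hiff),
    card_lifts (fun y => tr y = 0) (fun y hy => by simp [tr] at hy ⊢; linear_combination -hy)]
  have hb : ∀ y : S2 F, tr y = 0 → y.1 0 1 ≠ 0 := by
    intro y hy hb
    simp only [tr] at hy
    have hd := det2 y
    rw [hb, zero_mul, sub_zero] at hd
    exact not_isSquare_neg_one (F := F) hq ⟨y.1 0 0, by linear_combination hd - y.1 0 0 * hy⟩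
  rw [Nat.card_congr (α := {y : S2 F // tr y = 0}) (β := F × Fˣ)
    { toFun := fun y => (y.1.1 0 0, Units.mk0 (y.1.1 0 1) (hb y.1 y.2))
      invFun := fun p => ⟨⟨!![p.1, (p.2 : F); -(1 + p.1 ^ 2) * (p.2⁻¹ : Fˣ), -p.1], by
        rw [Matrix.det_fin_two_of]
        have := p.2.mul_inv
        linear_combination (1 + p.1 ^ 2) * this⟩, by simp [tr]⟩
      left_inv := fun y => by
        have hy : y.1.1 1 1 = -y.1.1 0 0 := by
          have := y.2; simp only [tr] at this; linear_combination this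
        have hd := det2 y.1
        have := hb y.1 y.2
        refine Subtype.ext (ext2 (by simp) (by simp) ?_ (by simp [hy]))
        simp
        field_simp
        rw [hy] at hd
        linear_combination hd
      right_inv := fun p => by ext <;> simp },
    Nat.card_prod, Nat.card_units, Nat.card_eq_fintype_card]

/-- involutions inverting an element of the rotation group -/
theorem card_inverting (hq : Fintype.card F % 8 = 3) {b : P2 F} (hb : b ∈ Ts F) (h2 : b * b ≠ 1) :
    2 * Nat.card {k : P2 F // orderOf k = 2 ∧ k * b * k⁻¹ = b⁻¹} = Fintype.card F + 1 := by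
  obtain ⟨j, y, hj, -, hjn, hinv, -⟩ := exists_klein (F := F) hq
  rw [← card_Ts (F := F) hq]
  congr 1
  refine Nat.card_congr
    { toFun := fun k => ⟨j⁻¹ * k.1, centralizer_Ts hb h2 ?_⟩
      invFun := fun r => ⟨j * r.1, ?_, ?_⟩
      left_inv := fun k => Subtype.ext (mul_inv_cancel_left _ _)
      right_inv := fun r => Subtype.ext (inv_mul_cancel_left _ _) }
  · have e : j⁻¹ * b⁻¹ * j = b := by
      rw [← hinv b hb]; group
    calc j⁻¹ * k.1 * b = j⁻¹ * (k.1 * b * k.1⁻¹) * k.1 := by group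
      _ = j⁻¹ * b⁻¹ * k.1 := by rw [k.2.2]
      _ = (j⁻¹ * b⁻¹ * j) * (j⁻¹ * k.1) := by group
      _ = _ := by rw [e]
  · have e : j * r.1 * j⁻¹ = r.1⁻¹ := hinv r.1 r.2
    have hjj : j * j = 1 := (pow_two j).symm.trans (orderOf_dvd_iff_pow_eq_one.1 (dvd_of_eq hj))
    refine orderOf_eq_prime ?_ ?_
    · calc (j * r.1) ^ 2 = (j * r.1 * j⁻¹) * (j * j) * r.1 := by rw [pow_two]; group
        _ = 1 := by rw [e, hjj, mul_one, inv_mul_cancel]
    · intro h
      exact hjn (by rw [eq_inv_of_mul_eq_one_left h]; exact inv_mem r.2)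
  · have e : r.1 * b * r.1⁻¹ = b := by rw [Ts_comm r.2 hb, mul_inv_cancel_right]
    calc j * r.1 * b * (j * r.1)⁻¹ = j * (r.1 * b * r.1⁻¹) * j⁻¹ := by group
      _ = _ := by rw [e, hinv b hb]

end

end CfsgLib.LocalEven.GoldS.PSLF
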