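import Cfsg.Agent.Lib.LocalEven.GoldS.Closure
import Cfsg.Agent.Lib.LocalEven.GoldS.CharLocal

/-!
Owner: helper26. Groups of Ree type without real elements of order three: an element of order three
permuting the involutions of `⟨t, w⟩` acts fixed-point-freely on the nonsplit torus, and the order of the
group is not divisible by `q ^ 2`.
-/

set_option autoImplicit false
set_option linter.all false

namespace CfsgLib.LocalEven.GoldS

open Subgroup PSLF

/-- the homomorphism of a group of order two given by an element of square one -/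
def twoHom {H : Type*} [Group H] (x : H) (hx : x * x = 1) : Multiplicative (ZMod 2) →* H where
  toFun a := if a = 1 then 1 else x
  map_one' := if_pos rfl
  map_mul' a b := by
    have key : ∀ a : Multiplicative (ZMod 2), a = 1 ∨ a = Multiplicative.ofAdd 1 := by decide
    have h : Multiplicative.ofAdd (1 : ZMod 2) ≠ 1 := by decide
    have h2 : Multiplicative.ofAdd (1 : ZMod 2) * Multiplicative.ofAdd (1 : ZMod 2) = 1 := by decide
    rcases key a with rfl | rfl <;> rcases key b with rfl | rfl <;> simp [h, h2, hx]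

theorem two_cases : ∀ a : Multiplicative (ZMod 2), a = 1 ∨ a = Multiplicative.ofAdd 1 := by decide

theorem twoHom_one {H : Type*} [Group H] (x : H) (hx : x * x = 1) :
    twoHom x hx (Multiplicative.ofAdd 1) = x := by
  show (if (Multiplicative.ofAdd (1 : ZMod 2)) = 1 then (1 : H) else x) = x
  rw [if_neg (by decide)]

theorem twoHom_range {H : Type*} [Group H] (x : H) (hx : x * x = 1) (a : Multiplicative (ZMod 2)) :
    twoHom x hx a = 1 ∨ twoHom x hx a = x := by
  rcases two_cases a with rfl | rfl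
  · exact Or.inl (map_one _)
  · exact Or.inr (twoHom_one x hx)

/-- in an elementary abelian group of order eight permuted transitively by `n`, every pair of
involutions is conjugate by a power of `n` into a given triple not containing `t` -/
theorem exists_conj_pair {G : Type*} [Group G] [Finite G] {E : Subgroup G} (hE8 : Nat.card E = 8)
    {n s0 : G} (hn : n ∈ normalizer (E : Set G)) (h7 : n ^ 7 * s0 * (n ^ 7)⁻¹ = s0)
    (hall : ∀ x ∈ E, x ≠ 1 → ∃ i < 7, x = n ^ i * s0 * (n ^ i)⁻¹)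
    {L : Finset G} (hLc : L.card = 3) (hLE : ∀ a ∈ L, a ∈ E ∧ a ≠ 1)
    (hmul : ∀ a ∈ L, ∀ b ∈ L, a ≠ b → a * b ∈ L) {t : G} (ht : t ∈ E) (ht1 : t ≠ 1) (htL : t ∉ L)
    {a b : G} (ha : a ∈ E) (ha1 : a ≠ 1) (hb : b ∈ E) (hb1 : b ≠ 1) (hab : a ≠ b) :
    ∃ i, ∃ a' ∈ L, ∃ b' ∈ L, a' ≠ b' ∧ n ^ i * a' * (n ^ i)⁻¹ = a ∧ n ^ i * b' * (n ^ i)⁻¹ = b := by
  classical
  let cj : ℕ → G → G := fun i a => n ^ i * a * (n ^ i)⁻¹
  have cj_add : ∀ i l a, cj i (cj l a) = cj (i + l) a := fun i l a => by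
    simp only [cj, pow_add]; group
  have cj_inj : ∀ i x y, cj i x = cj i y → x = y := fun i x y h =>
    mul_left_cancel (mul_right_cancel h)
  have e7 : cj 7 s0 = s0 := h7
  have h7' : ∀ a ∈ E, a ≠ 1 → ∀ i, cj (7 * i) a = a := by
    intro a ha ha1
    obtain ⟨l, -, rfl⟩ := hall a ha ha1
    intro i
    induction i with
    | zero => simp [cj]
    | succ i ih =>
      rw [show 7 * (i + 1) = 7 * i + 7 by ring]
      show cj (7 * i + 7) (cj l s0) = cj l s0
      rw [← cj_add, cj_add 7 l, add_comm 7 l, ← cj_add l 7, e7]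
      exact ih
  have hmod : ∀ a ∈ E, a ≠ 1 → ∀ i, cj i a = cj (i % 7) a := by
    intro a ha ha1 i
    conv_lhs => rw [← Nat.mod_add_div i 7]
    rw [← cj_add, h7' a ha ha1]
  have hcjE : ∀ i a, a ∈ E → cj i a ∈ E := fun i a ha =>
    (Subgroup.mem_normalizer_iff.1 ((Subgroup.normalizer _).pow_mem hn i) a).1 ha
  obtain ⟨w, hw⟩ : L.Nonempty := Finset.card_pos.1 (by omega)
  have hnostab : ∀ d, d % 7 ≠ 0 → ¬ ∀ a ∈ L, cj d a ∈ L := by
    intro d hd hst
    have hiter : ∀ k, cj (d * k) w ∈ L := by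
      intro k
      induction k with
      | zero => simpa [cj] using hw
      | succ k ih => rw [show d * (k + 1) = d + d * k by ring, ← cj_add]; exact hst _ ih
    obtain ⟨i, hi7, ei⟩ := hall w (hLE w hw).1 (hLE w hw).2
    obtain ⟨j, hj7, ej⟩ := hall t ht ht1
    have hl : cj (j + 7 - i) w = t := by
      rw [show w = cj i s0 from ei, cj_add, show j + 7 - i + i = j + 7 by omega, ← cj_add, e7]
      exact ej.symm
    set l := j + 7 - i with hl'
    have h6 : ∀ r, r < 7 → r ≠ 0 → r ^ 6 % 7 = 1 := by decide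
    have hk : d * (d ^ 5 * l) % 7 = l % 7 := by
      rw [← mul_assoc, ← pow_succ', Nat.mul_mod, Nat.pow_mod, h6 _ (Nat.mod_lt _ (by norm_num)) hd,
        one_mul, Nat.mod_mod]
    have := hiter (d ^ 5 * l)
    rw [hmod _ (hLE w hw).1 (hLE w hw).2, hk, ← hmod _ (hLE w hw).1 (hLE w hw).2, hl] at this
    exact htL this
  set A : Finset G := (Set.toFinite (E : Set G)).toFinset.erase 1 with hA
  have hmemA : ∀ x, x ∈ A ↔ x ≠ 1 ∧ x ∈ E := by simp [hA]
  have hAc : A.card = 7 := by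
    rw [hA, Finset.card_erase_of_mem (by simp), ← Set.ncard_eq_toFinset_card, ← Nat.card_coe_set_eq,
      SetLike.coe_sort_coe, hE8]
  have hsurj : ∀ p ∈ A.offDiag, ∃ q ∈ (Finset.range 7) ×ˢ L.offDiag,
      p = (cj q.1 q.2.1, cj q.1 q.2.2) := by
    intro p hp
    refine Exists.imp (fun q h => ⟨h.1, h.2⟩) (Finset.surj_on_of_inj_on_of_card_le
      (s := (Finset.range 7) ×ˢ L.offDiag) (t := A.offDiag)
      (fun q _ => (cj q.1 q.2.1, cj q.1 q.2.2)) ?_ ?_ ?_ p hp)
    · intro q hq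
      simp only [Finset.mem_product, Finset.mem_offDiag] at hq ⊢
      exact ⟨(hmemA _).2 ⟨fun h => (hLE _ hq.2.1).2 (conj_eq_one_iff.1 h), hcjE _ _ (hLE _ hq.2.1).1⟩,
        (hmemA _).2 ⟨fun h => (hLE _ hq.2.2.1).2 (conj_eq_one_iff.1 h), hcjE _ _ (hLE _ hq.2.2.1).1⟩,
        fun h => hq.2.2.2 (cj_inj _ _ _ h)⟩
    · rintro ⟨i, x, y⟩ ⟨l, x', y'⟩ hq hq' e
      simp only [Finset.mem_product, Finset.mem_offDiag, Finset.mem_range] at hq hq'
      simp only [Prod.mk.injEq] at e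
      obtain ⟨hi, hx, hy, hxy⟩ := hq
      obtain ⟨hl, hx', hy', hxy'⟩ := hq'
      have hL3 : L = {x, y, x * y} := by
        refine (Finset.eq_of_subset_of_card_le ?_ ?_).symm
        · simp [Finset.insert_subset_iff, hx, hy, hmul x hx y hy hxy]
        · rw [hLc, Finset.card_eq_three.2 ⟨x, y, x * y, hxy,
            fun h => (hLE y hy).2 (mul_left_cancel (a := x) (by rw [← h, mul_one])),
            fun h => (hLE x hx).2 (mul_right_cancel (b := y) (by rw [← h, one_mul])), rfl⟩]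
      have hset : ∀ e' ∈ L, cj i e' ∈ L.image (cj l) := by
        intro e' he'
        rw [hL3] at he'
        simp only [Finset.mem_insert, Finset.mem_singleton] at he'
        rcases he' with rfl | rfl | rfl
        · exact Finset.mem_image.2 ⟨x', hx', e.1.symm⟩
        · exact Finset.mem_image.2 ⟨y', hy', e.2.symm⟩
        · refine Finset.mem_image.2 ⟨x' * y', hmul x' hx' y' hy' hxy', ?_⟩
          have h1 : ∀ i x y, cj i (x * y) = cj i x * cj i y := fun i x y => by simp only [cj]; group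
          rw [h1, h1, e.1, e.2]
      have hil : i = l := by
        by_contra hne
        refine hnostab (i + 7 - l) (by omega) fun e' he' => ?_
        obtain ⟨d, hd, ed⟩ := Finset.mem_image.1 (hset e' he')
        have : cj (7 - l) (cj i e') = cj (7 - l) (cj l d) := by rw [ed]
        rw [cj_add, cj_add, show 7 - l + l = 7 * 1 by omega, h7' _ (hLE d hd).1 (hLE d hd).2,
          show 7 - l + i = i + 7 - l by omega] at this
        rw [this]
        exact hd
      subst hil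
      rw [cj_inj _ _ _ e.1, cj_inj _ _ _ e.2]
    · rw [Finset.card_product, Finset.card_range, Finset.offDiag_card, Finset.offDiag_card, hAc, hLc]
  obtain ⟨⟨i, a', b'⟩, hq, e⟩ := hsurj (a, b)
    (Finset.mem_offDiag.2 ⟨(hmemA a).2 ⟨ha1, ha⟩, (hmemA b).2 ⟨hb1, hb⟩, hab⟩)
  simp only [Finset.mem_product, Finset.mem_offDiag] at hq
  simp only [Prod.mk.injEq] at e
  exact ⟨i, a', hq.2.1, b', hq.2.2.1, hq.2.2.2, e.1.symm, e.2.symm⟩

namespace Ctx

variable {G : Type*} [Group G] {F : Type*} [Field F] [Fintype F] [CharP F 3] (c : Ctx G F)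

theorem comm_t_ι (k : P2 F) : Commute c.t (c.ι k) := (c.ι_comm k).symm

theorem w_comm_Rs {r : P2 F} (hr : r ∈ Rs F) : Commute c.w (c.ι r) :=
  (show Commute (ww F) r from Ts_comm ww_mem_Ts (Rs_le_Ts hr)).map c.ι

variable [Finite G]

/-- the elementary abelian subgroup `⟨t, w, ι j⟩` -/
theorem exists_eight {j : P2 F} (hj : j * j = 1) (hjw : j * ww F = ww F * j) (hjn : j ∉ Ts F) :
    ∃ E : Subgroup G, Nat.card E = 8 ∧ IsMulCommutative E ∧ c.t ∈ E ∧ c.w ∈ E ∧ c.ι j ∈ E ∧
      ∀ x ∈ E, ∃ d ∈ ({1, c.t, c.w, c.t * c.w} : Set G), x = d ∨ x = d * c.ι j := by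
  classical
  have hww : ww F * ww F = 1 :=
    (pow_two _).symm.trans (orderOf_dvd_iff_pow_eq_one.1 (dvd_of_eq orderOf_ww))
  have hw2 : c.w * c.w = 1 := by rw [w, ← map_mul, hww, map_one]
  have hJ2 : c.ι j * c.ι j = 1 := by rw [← map_mul, hj, map_one]
  have hjne : j ≠ 1 := fun h => hjn (h ▸ one_mem _)
  have hjw' : ww F * j ≠ 1 := fun h => hjn (by
    rw [← inv_eq_of_mul_eq_one_right h]; exact inv_mem ww_mem_Ts)
  have hw1 : ww F ≠ 1 := fun h => by have := orderOf_ww (F := F); rw [h, orderOf_one] at this; omega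
  let L : Multiplicative (ZMod 2) × Multiplicative (ZMod 2) →* P2 F :=
    MonoidHom.noncommCoprod (twoHom (ww F) hww) (twoHom j hj) fun a b => by
      rcases twoHom_range (ww F) hww a with e | e <;> rcases twoHom_range j hj b with e' | e' <;>
        rw [e, e'] <;> first | exact Commute.one_left _ | exact Commute.one_right _ | exact hjw.symm
  let f : Multiplicative (ZMod 2) × (Multiplicative (ZMod 2) × Multiplicative (ZMod 2)) →* G :=
    MonoidHom.noncommCoprod (twoHom c.t c.t_sq) (c.ι.comp L) fun a b => by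
      rcases twoHom_range c.t c.t_sq a with e | e <;> rw [e]
      exacts [Commute.one_left _, c.comm_t_ι _]
  have hf : ∀ a b d, f (a, b, d) =
      twoHom c.t c.t_sq a * c.ι (twoHom (ww F) hww b * twoHom j hj d) := fun a b d => rfl
  have hfinj : Function.Injective f := by
    rw [injective_iff_map_eq_one]
    rintro ⟨a, b, d⟩ h
    rw [hf] at h
    rcases two_cases a with rfl | rfl
    · rw [map_one, one_mul, ← map_one c.ι] at h
      have h' := c.inj h
      rcases two_cases b with rfl | rfl <;> rcases two_cases d with rfl | rfl <;>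
        simp only [map_one, twoHom_one, one_mul, mul_one] at h'
      exacts [rfl, absurd h' hjne, absurd h' hw1, absurd h' hjw']
    · rw [twoHom_one] at h
      exact absurd ⟨(twoHom (ww F) hww b * twoHom j hj d)⁻¹,
        by rw [map_inv]; exact (eq_inv_of_mul_eq_one_left h).symm⟩ c.tnot
  refine ⟨f.range, ?_, ⟨⟨?_⟩⟩, ⟨(Multiplicative.ofAdd 1, 1, 1), ?_⟩, ⟨(1, Multiplicative.ofAdd 1, 1), ?_⟩,
    ⟨(1, 1, Multiplicative.ofAdd 1), ?_⟩, ?_⟩
  · rw [← Nat.card_congr (MonoidHom.ofInjective hfinj).toEquiv]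
    simp [Nat.card_eq_fintype_card]
  · rintro ⟨_, a, rfl⟩ ⟨_, b, rfl⟩
    exact Subtype.ext (by show f a * f b = f b * f a; rw [← map_mul, ← map_mul, mul_comm])
  · rw [hf, twoHom_one, map_one, map_one, one_mul, map_one, mul_one]
  · rw [hf, twoHom_one, map_one, map_one, one_mul, mul_one]; rfl
  · rw [hf, twoHom_one, map_one, map_one, one_mul, one_mul]
  · rintro _ ⟨⟨a, b, d⟩, rfl⟩
    have hd : twoHom c.t c.t_sq a * c.ι (twoHom (ww F) hww b) ∈
        ({1, c.t, c.w, c.t * c.w} : Set G) := by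
      rcases twoHom_range c.t c.t_sq a with e | e <;> rcases twoHom_range (ww F) hww b with e' | e' <;>
        rw [e, e'] <;> simp [w]
    refine ⟨_, hd, ?_⟩
    rw [hf, map_mul, ← mul_assoc]
    rcases twoHom_range j hj d with e | e <;> rw [e]
    · rw [map_one, mul_one]; exact Or.inl rfl
    · exact Or.inr rfl

/-- an element of order three permuting `t`, `w`, `t * w` -/
theorem exists_permuter :
    ∃ g0 : G, ∃ j y k : P2 F, ∃ s : F, s ≠ 0 ∧ k * y * k⁻¹ = u s ∧
      (∀ b ∈ Ts F, j * b * j⁻¹ = b⁻¹) ∧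
      let g := g0 * c.ι y * g0⁻¹
      let x := g0 * c.t * g0⁻¹
      (g * g * g = 1) ∧
      (∀ a, (a = c.t ∨ a = c.w ∨ a = c.t * c.w) →
        (g * a * g⁻¹ = c.t ∨ g * a * g⁻¹ = c.w ∨ g * a * g⁻¹ = c.t * c.w) ∧ g * a * g⁻¹ ≠ a) ∧
      ∃ d ∈ ({1, c.t, c.w, c.t * c.w} : Set G), x = d * c.ι j := by
  classical
  haveI : Fact (Nat.Prime 2) := ⟨Nat.prime_two⟩
  haveI := c.simp
  obtain ⟨j, y, hj, hjw, hjn, hinv, hy3, hyw, hyj, hywj, k, s, hs, hk⟩ := exists_klein (F := F) c.hq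
  have hjj : j * j = 1 := (pow_two _).symm.trans (orderOf_dvd_iff_pow_eq_one.1 (dvd_of_eq hj))
  obtain ⟨E, hE8, hEcomm, htE, hwE, hJE, hEdec⟩ := c.exists_eight hjj hjw hjn
  have hjne : j ≠ 1 := fun h => hjn (h ▸ one_mem _)
  have hjw' : ww F * j ≠ 1 := fun h => hjn (by
    rw [← inv_eq_of_mul_eq_one_right h]; exact inv_mem ww_mem_Ts)
  have hw1 : ww F ≠ 1 := fun h => by have := orderOf_ww (F := F); rw [h, orderOf_one] at this; omega
  have hwj : ww F ≠ j := fun h => hjn (h ▸ ww_mem_Ts)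
  have hww : ww F * ww F = 1 :=
    (pow_two _).symm.trans (orderOf_dvd_iff_pow_eq_one.1 (dvd_of_eq orderOf_ww))
  have hidx : ¬ 2 ∣ E.index := by
    obtain ⟨S, h8, -⟩ := c.exists_sylow_eight
    have h1 : Nat.card E * E.index = Nat.card (S : Subgroup G) * (S : Subgroup G).index := by
      rw [E.card_mul_index, (S : Subgroup G).card_mul_index]
    rw [hE8, h8] at h1
    rw [show E.index = (S : Subgroup G).index by omega]
    exact S.not_dvd_index
  let S : Sylow 2 G :=
    (IsPGroup.of_card (n := 3) (by rw [hE8]; norm_num) : IsPGroup 2 E).toSylow hidx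
  obtain ⟨n, hn, s0, hs0, hs01, h7, hall⟩ :=
    CfsgLib.Classical.AbSylow.exists_seven_cycle c.ncomm S hEcomm hE8
  -- the involutions of `E` in `K`
  let L0 : Finset (P2 F) := {ww F, j, ww F * j}
  have hne3 : ww F ≠ ww F * j ∧ j ≠ ww F * j :=
    ⟨fun h => hjne (mul_left_cancel (a := ww F) (by rw [← h, mul_one])),
      fun h => hw1 (mul_right_cancel (b := j) (by rw [← h, one_mul]))⟩
  have hL0c : L0.card = 3 := Finset.card_eq_three.2 ⟨_, _, _, hwj, hne3.1, hne3.2, rfl⟩
  have hL0mul : ∀ a ∈ L0, ∀ b ∈ L0, a ≠ b → a * b ∈ L0 := by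
    have e2 : ww F * (ww F * j) = j := by rw [← mul_assoc, hww, one_mul]
    have e3 : ww F * j * j = ww F := by rw [mul_assoc, hjj, mul_one]
    have e1 : ww F * j * ww F = j := by rw [mul_assoc, hjw, e2]
    have e4 : j * (ww F * j) = ww F := by rw [← mul_assoc, hjw, e3]
    intro a ha b hb hab
    simp only [L0, Finset.mem_insert, Finset.mem_singleton] at ha hb ⊢
    rcases ha with rfl | rfl | rfl <;> rcases hb with rfl | rfl | rfl <;>
      first | exact absurd rfl hab | simp [e1, e2, e3, e4, hjw]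
  set L : Finset G := L0.image c.ι with hLdef
  have hLmul : ∀ a ∈ L, ∀ b ∈ L, a ≠ b → a * b ∈ L := by
    simp only [hLdef, Finset.mem_image]
    rintro _ ⟨a, ha, rfl⟩ _ ⟨b, hb, rfl⟩ hab
    exact ⟨a * b, hL0mul a ha b hb (fun h => hab (h ▸ rfl)), map_mul _ _ _⟩
  have hLc : L.card = 3 := by rw [hLdef, Finset.card_image_of_injective _ c.inj, hL0c]
  have hLE : ∀ a ∈ L, a ∈ E ∧ a ≠ 1 := by
    simp only [hLdef, Finset.mem_image]
    rintro _ ⟨a, ha, rfl⟩
    simp only [L0, Finset.mem_insert, Finset.mem_singleton] at ha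
    rcases ha with rfl | rfl | rfl
    · exact ⟨hwE, fun h => hw1 (c.inj (h.trans (map_one _).symm))⟩
    · exact ⟨hJE, fun h => hjne (c.inj (h.trans (map_one _).symm))⟩
    · exact ⟨by rw [map_mul]; exact E.mul_mem hwE hJE,
        fun h => hjw' (c.inj (h.trans (map_one _).symm))⟩
  have htL : c.t ∉ L := fun h => by
    obtain ⟨a, -, ha⟩ := Finset.mem_image.1 h
    exact c.tnot ⟨a, ha⟩
  have hw1G : c.w ≠ 1 := fun h => hw1 (c.inj (h.trans (map_one _).symm))
  obtain ⟨i, a, ha, b, hb, hab, ea, eb⟩ := exists_conj_pair hE8 hn h7 hall hLc hLE hLmul htE c.t_ne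
    htL htE c.t_ne hwE hw1G c.w_ne_t.symm
  set g0 := n ^ i with hg0
  have hab' : a * b ∈ L := hLmul a ha b hb hab
  have eab : g0 * (a * b) * g0⁻¹ = c.t * c.w := by rw [← ea, ← eb]; group
  have hL3 : ∀ e ∈ L, e = a ∨ e = b ∨ e = a * b := by
    have : ({a, b, a * b} : Finset G) = L := by
      refine Finset.eq_of_subset_of_card_le ?_ ?_
      · simp [Finset.insert_subset_iff, ha, hb, hab']
      · rw [hLc, Finset.card_eq_three.2 ⟨a, b, a * b, hab,
          fun h => (hLE b hb).2 (mul_left_cancel (a := a) (by rw [← h, mul_one])),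
          fun h => (hLE a ha).2 (mul_right_cancel (b := b) (by rw [← h, one_mul])), rfl⟩]
    intro e he
    rw [← this] at he
    simpa using he
  have hpre : ∀ z, (z = c.t ∨ z = c.w ∨ z = c.t * c.w) → ∃ e ∈ L, g0 * e * g0⁻¹ = z := by
    rintro z (rfl | rfl | rfl)
    exacts [⟨a, ha, ea⟩, ⟨b, hb, eb⟩, ⟨a * b, hab', eab⟩]
  refine ⟨g0, j, y, k, s, hs, hk, hinv, ?_, ?_, ?_⟩
  · have : y * y * y = 1 := by
      rw [← pow_two, ← pow_succ]; exact orderOf_dvd_iff_pow_eq_one.1 (dvd_of_eq hy3)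
    calc _ = g0 * (c.ι y * c.ι y * c.ι y) * g0⁻¹ := by group
      _ = 1 := by rw [← map_mul, ← map_mul, this, map_one, mul_one, mul_inv_cancel]
  · intro z hz
    obtain ⟨e, he, rfl⟩ := hpre z hz
    have eq : g0 * c.ι y * g0⁻¹ * (g0 * e * g0⁻¹) * (g0 * c.ι y * g0⁻¹)⁻¹ =
        g0 * (c.ι y * e * (c.ι y)⁻¹) * g0⁻¹ := by group
    rw [eq]
    obtain ⟨e0, he0, rfl⟩ := Finset.mem_image.1 he
    have key : y * e0 * y⁻¹ ∈ L0 ∧ y * e0 * y⁻¹ ≠ e0 := by
      simp only [L0, Finset.mem_insert, Finset.mem_singleton] at he0 ⊢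
      rcases he0 with rfl | rfl | rfl
      · rw [hyw]; exact ⟨Or.inr (Or.inl rfl), hwj.symm⟩
      · rw [hyj]; exact ⟨Or.inr (Or.inr rfl), hne3.2.symm⟩
      · rw [hywj]; exact ⟨Or.inl rfl, hne3.1⟩
    rw [← map_inv c.ι, ← map_mul, ← map_mul]
    refine ⟨?_, fun h => key.2 (c.inj (mul_left_cancel (mul_right_cancel h)))⟩
    rcases hL3 _ (Finset.mem_image.2 ⟨_, key.1, rfl⟩) with e' | e' | e' <;> rw [e']
    exacts [Or.inl ea, Or.inr (Or.inl eb), Or.inr (Or.inr eab)]
  · obtain ⟨d, hd, h | h⟩ := hEdec _ ((Subgroup.mem_normalizer_iff.1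
      ((Subgroup.normalizer _).pow_mem hn i) c.t).1 htE)
    · exfalso
      simp only [Set.mem_insert_iff, Set.mem_singleton_iff] at hd
      rcases hd with rfl | hd
      · exact c.t_ne (conj_eq_one_iff.1 h)
      · obtain ⟨e, he, hee⟩ := hpre d hd
        exact htL (mul_left_cancel (mul_right_cancel (h.trans hee.symm)) ▸ he)
    · exact ⟨d, hd, h⟩

/-- the element of order three acts fixed-point-freely on the odd part of the torus -/
theorem exists_twist (hno : NoReal G) :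
    ∃ (g : G) (σ : Rs F →* Rs F),
      (∀ r : Rs F, g * c.ι r * g⁻¹ = c.ι (σ r)) ∧
      (g⁻¹ * c.t * g = c.w ∨ g⁻¹ * c.t * g = c.t * c.w) ∧
      (∀ r, σ r = r → r = 1) ∧ (∀ r, σ r = r⁻¹ → r = 1) ∧
      (∀ r, σ (σ r) = r → r = 1) ∧ (∀ r, σ (σ r) = r⁻¹ → r = 1) ∧ Function.Bijective σ := by
  classical
  obtain ⟨g0, j, y, k, s, hs, hk, hinv, hg3, hperm, d, hd, hx⟩ := c.exists_permuter
  set g := g0 * c.ι y * g0⁻¹ with hg
  set x := g0 * c.t * g0⁻¹ with hx0
  have hgi : g⁻¹ = g * g := inv_eq_of_mul_eq_one_right (by rw [← mul_assoc]; exact hg3)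
  have hpre : ∀ a, (a = c.t ∨ a = c.w ∨ a = c.t * c.w) →
      (g⁻¹ * a * g = c.t ∨ g⁻¹ * a * g = c.w ∨ g⁻¹ * a * g = c.t * c.w) := by
    intro a ha
    rw [show g⁻¹ * a * g = g * (g * a * g⁻¹) * g⁻¹ by
      conv_lhs => rw [show g⁻¹ * a * g = g⁻¹ * a * (g⁻¹)⁻¹ by group, hgi]
      group]
    exact (hperm _ (hperm a ha).1).1
  have hR2 : ∀ {r : P2 F}, r ∈ Rs F → ∀ a, (a = c.t ∨ a = c.w ∨ a = c.t * c.w) → Commute a (c.ι r) := by
    intro r hr a ha
    rcases ha with rfl | rfl | rfl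
    exacts [c.comm_t_ι r, c.w_comm_Rs hr, (c.comm_t_ι r).mul_left (c.w_comm_Rs hr)]
  have hodd : ∀ {r : P2 F}, r ∈ Rs F → Odd (orderOf (c.ι r)) := fun {r} hr => by
    rw [orderOf_injective c.ι c.inj]
    exact (Rs_facts c.hq).1.of_dvd_nat ((Rs F).orderOf_dvd_natCard hr)
  have hcomm : ∀ {r : P2 F}, r ∈ Rs F → ∀ a, (a = c.t ∨ a = c.w ∨ a = c.t * c.w) →
      Commute a (g * c.ι r * g⁻¹) := by
    intro r hr a ha
    have := (hR2 hr _ (hpre a ha)).map (MulAut.conj g)
    simp only [MulAut.conj_apply] at this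
    rwa [show g * (g⁻¹ * a * g) * g⁻¹ = a by group] at this
  have hmem : ∀ r : Rs F, ∃ r' : Rs F, g * c.ι r * g⁻¹ = c.ι r' := by
    intro r
    have ho : Odd (orderOf (g * c.ι r * g⁻¹)) := by
      rw [show orderOf (g * c.ι r * g⁻¹) = orderOf (c.ι r) from (MulAut.conj g).orderOf_eq _]
      exact hodd r.2
    obtain ⟨r', hr'⟩ := c.mem_K_of_odd (c.mem_Ct.2 (hcomm r.2 _ (Or.inl rfl)).symm) ho
    have hw' : r' * ww F = ww F * r' := by
      apply c.inj
      rw [map_mul, map_mul, hr']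
      exact (hcomm r.2 _ (Or.inr (Or.inl rfl))).symm
    rw [← hr', orderOf_injective c.ι c.inj] at ho
    exact ⟨⟨r', mem_Rs_of_odd c.hq hw' ho⟩, hr'.symm⟩
  choose f hf using hmem
  have hinj : ∀ a b : Rs F, c.ι a = c.ι b → a = b := fun a b h => Subtype.ext (c.inj h)
  let σ : Rs F →* Rs F :=
    { toFun := f
      map_one' := hinj _ _ (by rw [← hf]; simp)
      map_mul' := fun a b => hinj _ _ (by
        rw [← hf, Subgroup.coe_mul, Subgroup.coe_mul, map_mul, map_mul, ← hf, ← hf]; group) }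
  have hσ : ∀ r : Rs F, g * c.ι r * g⁻¹ = c.ι (σ r) := hf
  -- no nontrivial fixed point
  have hfix : ∀ r : Rs F, σ r = r → r = 1 := by
    intro r hr
    have hcr : g * c.ι r = c.ι r * g := commute_iff_conj.2 (by rw [hσ, hr])
    let c' := c.move g0
    have hxr : Inverted x (c.ι r) := by
      show x * c.ι r * x⁻¹ = (c.ι r)⁻¹
      have hd' : Commute d (c.ι (r : P2 F)⁻¹) := by
        simp only [Set.mem_insert_iff, Set.mem_singleton_iff] at hd
        rcases hd with rfl | h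
        · exact Commute.one_left _
        · exact hR2 (inv_mem r.2) _ h
      rw [hx, show d * c.ι j * c.ι r * (d * c.ι j)⁻¹ = d * (c.ι j * c.ι r * (c.ι j)⁻¹) * d⁻¹ by group,
        ← map_inv, ← map_mul, ← map_mul, hinv _ (Rs_le_Ts r.2), hd'.eq, mul_inv_cancel_right, map_inv]
    set h := c'.ι k with hh
    set r' := h * c.ι r * h⁻¹ with hr'
    have hxh : c'.t * h = h * c'.t := (c'.ι_comm k).symm
    have hinv' : Inverted c'.t r' := by
      show c'.t * (h * c.ι r * h⁻¹) * c'.t⁻¹ = (h * c.ι r * h⁻¹)⁻¹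
      calc c'.t * (h * c.ι r * h⁻¹) * c'.t⁻¹
          = (c'.t * h) * c.ι r * (c'.t * h)⁻¹ := by group
        _ = (h * c'.t) * c.ι r * (h * c'.t)⁻¹ := by rw [hxh]
        _ = h * (x * c.ι r * x⁻¹) * h⁻¹ := by show _ = h * (c'.t * _ * c'.t⁻¹) * h⁻¹; group
        _ = _ := by rw [hxr]; group
    have ho' : Odd (orderOf r') := by
      rw [show orderOf r' = orderOf (c.ι r) from (MulAut.conj h).orderOf_eq _]; exact hodd r.2
    have hu : c'.ι (u s) ∈ c'.U := mem_map_of_mem _ (u_mem s)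
    have hu1 : c'.ι (u s) ≠ 1 := fun e => hs (u_eq_one (c'.inj (e.trans (map_one _).symm)))
    have hru : r' * c'.ι (u s) = c'.ι (u s) * r' := by
      have e : c'.ι (u s) = h * g * h⁻¹ := by
        rw [← hk, map_mul, map_mul, map_inv]
        rfl
      rw [e, hr']
      calc h * c.ι r * h⁻¹ * (h * g * h⁻¹) = h * (c.ι r * g) * h⁻¹ := by group
        _ = h * (g * c.ι r) * h⁻¹ := by rw [hcr]
        _ = _ := by group
    have hW : r' ∈ c'.W :=
      c'.isGen_mem_W ⟨_, hu, hu1, hru, ho', c'.inverted_not_three hno hinv'⟩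
    by_contra hne
    refine c'.no_involution hno hW (fun e => hne (hinj _ _ ?_)) (v := h * c.t * h⁻¹)
      (((MulAut.conj h).orderOf_eq c.t).trans c.ht) ?_
    · rw [Subgroup.coe_one, map_one]; exact conj_eq_one_iff.1 e
    · rw [hr']
      calc h * c.t * h⁻¹ * (h * c.ι r * h⁻¹) = h * (c.t * c.ι r) * h⁻¹ := by group
        _ = h * (c.ι r * c.t) * h⁻¹ := by rw [(c.comm_t_ι r).eq]
        _ = _ := by group
  have hσ3 : ∀ r, σ (σ (σ r)) = r := fun r => hinj _ _ (by
    rw [← hσ, ← hσ, ← hσ]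
    calc g * (g * (g * c.ι r * g⁻¹) * g⁻¹) * g⁻¹ = (g * g * g) * c.ι r * (g * g * g)⁻¹ := by group
      _ = _ := by rw [hg3]; group)
  have hsq : ∀ r : Rs F, r⁻¹ = r → r = 1 := by
    intro r hr
    by_contra hne
    refine Rs_sq_ne_one c.hq r.2 (fun h => hne (Subtype.ext h)) ?_
    have e : (r : P2 F)⁻¹ = r := congrArg Subtype.val hr
    nth_rewrite 1 [← e]
    exact inv_mul_cancel _
  refine ⟨g, σ, hσ, ?_, hfix, ?_, ?_, ?_, ?_⟩
  · rcases hpre c.t (Or.inl rfl) with h | h
    · exfalso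
      refine (hperm c.t (Or.inl rfl)).2 ?_
      calc g * c.t * g⁻¹ = g * (g⁻¹ * c.t * g) * g⁻¹ := by rw [h]
        _ = _ := by group
    · exact h
  · intro r h
    refine hsq r ?_
    calc r⁻¹ = σ (σ (σ r⁻¹)) := (hσ3 _).symm
      _ = r := by simp only [map_inv, h, inv_inv]
  · intro r h
    exact hfix r (by conv_lhs => rw [← h, hσ3])
  · intro r h
    have h1 : σ r = r⁻¹ := by
      have := congrArg σ h
      rw [hσ3, map_inv] at this
      exact eq_inv_iff_mul_eq_one.2 (by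
        nth_rewrite 2 [this]
        exact mul_inv_cancel _)
    exact hsq r (by
      calc r⁻¹ = σ (σ r) := h.symm
        _ = r := by rw [h1, map_inv, h1, inv_inv])
  · exact ⟨fun a b h => by rw [← hσ3 a, h, hσ3], fun r => ⟨σ (σ r), hσ3 r⟩⟩

include c in
/-- the root group is a Sylow `3`-subgroup -/
theorem not_sq_dvd_card (hno : NoReal G) : ¬ 3 * Fintype.card F ∣ Nat.card G := by
  intro hd
  haveI : Fact (Nat.Prime 3) := ⟨Nat.prime_three⟩
  obtain ⟨P, hP⟩ := (c.U_isPGroup (G := G)).exists_le_sylow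
  obtain ⟨n, hn⟩ := IsPGroup.iff_card.1 (c.U_isPGroup (G := G))
  obtain ⟨m, hm⟩ := IsPGroup.iff_card.1 P.isPGroup'
  have hdvd : 3 ^ (n + 1) ∣ Nat.card (P : Subgroup G) := by
    rw [c.card_U] at hn
    refine P.pow_dvd_card_of_pow_dvd_card ?_
    rw [pow_succ', ← hn]
    exact hd
  have hlt : c.U < (P : Subgroup G) := by
    refine lt_of_le_of_ne hP fun h => ?_
    rw [← h, hn] at hdvd
    have := Nat.le_of_dvd (by positivity) hdvd
    rw [pow_succ] at this
    have : 0 < 3 ^ n := by positivity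
    omega
  haveI : Group.IsNilpotent (P : Subgroup G) := P.isPGroup'.isNilpotent
  have hnc : NormalizerCondition (P : Subgroup G) := Group.normalizerCondition_of_isNilpotent
  have hlt' : c.U.subgroupOf P < normalizer ((c.U.subgroupOf (P : Subgroup G) : Subgroup P) : Set P) :=
    hnc _ (lt_top_iff_ne_top.2 fun h => hlt.not_ge (Subgroup.subgroupOf_eq_top.1 h))
  obtain ⟨x, hxN, hxU⟩ := SetLike.exists_of_lt hlt'
  have hxn : ∀ v ∈ c.U, (x : G) * v * (x : G)⁻¹ ∈ c.U := fun v hv =>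
    mem_subgroupOf.1 ((mem_normalizer_iff.1 hxN ⟨v, hP hv⟩).1 (mem_subgroupOf.2 hv))
  -- a nontrivial fixed point
  let Q : Subgroup G := zpowers (x : G)
  letI : MulAction Q c.U :=
    { smul := fun a v => ⟨(a : G) * v * (a : G)⁻¹, by
        obtain ⟨a, i, rfl⟩ := a
        have : (x : G) ∈ normalizer (c.U : Set G) := by
          refine mem_normalizer_iff.2 fun v => ⟨hxn v, fun h => ?_⟩
          obtain ⟨v', hv'⟩ : ∃ v' : c.U, (x : G) * (v' : G) * (x : G)⁻¹ = (x : G) * v * (x : G)⁻¹ := by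
            have hsurj := Finite.injective_iff_surjective.1
              (show Function.Injective (fun v' : c.U => (⟨_, hxn v' v'.2⟩ : c.U)) from fun a b h =>
                Subtype.ext (mul_left_cancel (mul_right_cancel (congrArg Subtype.val h))))
            obtain ⟨v', hv'⟩ := hsurj ⟨_, h⟩
            exact ⟨v', congrArg Subtype.val hv'⟩
          rw [← mul_left_cancel (mul_right_cancel hv')]
          exact v'.2
        exact (mem_normalizer_iff.1 (zpow_mem this i) _).1 v.2⟩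
      one_smul := fun v => Subtype.ext (by show (1 : G) * v * (1 : G)⁻¹ = v; group)
      mul_smul := fun a b v => Subtype.ext (by
        show (a : G) * b * v * ((a : G) * b)⁻¹ = (a : G) * ((b : G) * v * (b : G)⁻¹) * (a : G)⁻¹
        group) }
  have hQ : IsPGroup 3 Q := P.isPGroup'.to_le (zpowers_le.2 x.2)
  obtain ⟨v, hv, hv1⟩ := hQ.exists_fixed_point_of_prime_dvd_card_of_fixed_point c.U
    (by rw [c.card_U]; exact c.three_dvd_card) (a := 1)
    (fun a => Subtype.ext (by show (a : G) * (1 : G) * (a : G)⁻¹ = 1; group))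
  have hxv : (x : G) * v = v * (x : G) :=
    commute_iff_conj.2 (congrArg Subtype.val (hv ⟨x, mem_zpowers _⟩))
  have ho : Odd (orderOf (x : G)) := by
    refine Odd.of_dvd_nat ?_ ((P : Subgroup G).orderOf_dvd_natCard x.2)
    rw [hm]; exact Odd.pow (by decide)
  obtain ⟨R, hR, -, hdec, -⟩ := c.exists_R hno v.2 (fun h => hv1 (Subtype.ext h).symm)
  obtain ⟨r, hr, v', hv', e⟩ := hdec x hxv ho
  have hrP : r ∈ (P : Subgroup G) := by
    rw [show r = (x : G) * v'⁻¹ by rw [e, mul_inv_cancel_right]]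
    exact mul_mem x.2 (inv_mem (hP hv'))
  obtain ⟨-, -, hr3⟩ := (hR r).1 hr
  have hr1 : r = 1 := by
    by_contra hne
    refine hr3 ?_
    obtain ⟨i, hi⟩ := IsPGroup.iff_orderOf.1 P.isPGroup' ⟨r, hrP⟩
    rw [Subgroup.orderOf_mk] at hi
    rcases i with - | i
    · exact absurd (orderOf_eq_one_iff.1 (by simpa using hi)) hne
    · rw [hi]; exact dvd_pow_self 3 i.succ_ne_zero
  rw [hr1, one_mul] at e
  exact hxU (mem_subgroupOf.2 (e ▸ hv'))

end Ctx

end CfsgLib.LocalEven.GoldS
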