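import Cfsg.Agent.Lib.LocalEven.GoldS.CharGroup
import Cfsg.Agent.Lib.CharDegree.Counting

/-!
Owner: helper26. Groups of Ree type, character part: integrality of twisted restrictions to `⟨t⟩ × A` and the
column relations for elements `t * k`, `k` of odd order in `K`.
-/

set_option autoImplicit false
set_option linter.all false

namespace CfsgLib.LocalEven.GoldS

open Subgroup PSLF CfsgLib.Char
open scoped ComplexConjugate

section Twist

variable {G : Type*} [Group G] [Fintype G] {A : Type*} [Group A] [Fintype A]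

theorem mul_self_of_orderOf {H : Type*} [Group H] {k : H} (hk : orderOf k = 2) : k * k = 1 :=
  (pow_two k).symm.trans (orderOf_dvd_iff_pow_eq_one.1 (dvd_of_eq hk))

theorem inv_of_orderOf {H : Type*} [Group H] {k : H} (hk : orderOf k = 2) : k⁻¹ = k :=
  inv_eq_of_mul_eq_one_right (mul_self_of_orderOf hk)

theorem sum_two {M : Type*} [AddCommMonoid M] (f : Multiplicative (ZMod 2) → M) :
    ∑ x, f x = f 1 + f (Multiplicative.ofAdd 1) := by
  rw [show (Finset.univ : Finset (Multiplicative (ZMod 2))) = {1, Multiplicative.ofAdd 1} by decide,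
    Finset.sum_pair (by decide)]

/-- a twisted sum of a character over a group is a multiple of the order -/
theorem exists_nat_twist (f : A →* G) (χ : Cfsg.IrrCharacter G) (l : A →* ℂˣ) :
    ∃ n : ℕ, ∑ a, (χ : G → ℂ) (f a) * conj (l a : ℂ) = (Nat.card A : ℂ) * n := by
  obtain ⟨n, hn⟩ := IsChar.classInner_eq_natCast (IsChar.comp f (IsIrr.isCharacter χ.2))
    (IsIrr.isCharacter (isIrrCharacter_linear l))
  refine ⟨n, ?_⟩
  rw [← hn, Cfsg.classInner, ← mul_assoc, mul_inv_cancel₀ (Nat.cast_ne_zero.2 Nat.card_pos.ne'), one_mul]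

theorem commute_twoHom {H : Type*} [Group H] {x y : H} (hx : x * x = 1) (h : Commute x y)
    (a : Multiplicative (ZMod 2)) : Commute (twoHom x hx a) y := by
  rcases twoHom_range x hx a with e | e <;> rw [e]
  exacts [Commute.one_left _, h]

/-- the twist by the eigenspaces of an involution -/
theorem exists_int_twist (f : A →* G) {t : G} (ht : t * t = 1) (hc : ∀ a, Commute t (f a))
    (χ : Cfsg.IrrCharacter G) (l : A →* ℂˣ) :
    ∃ z : ℤ, ∑ a, (χ : G → ℂ) (t * f a) * conj (l a : ℂ) = (Nat.card A : ℂ) * z := by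
  let F : Multiplicative (ZMod 2) × A →* G :=
    MonoidHom.noncommCoprod (twoHom t ht) f fun x a => commute_twoHom ht (hc a) x
  have h1 : (-1 : ℂˣ) * -1 = 1 := by simp
  let m : Multiplicative (ZMod 2) →* ℂˣ := twoHom (-1) h1
  let lp : Multiplicative (ZMod 2) × A →* ℂˣ := l.comp (MonoidHom.snd _ _)
  let lm : Multiplicative (ZMod 2) × A →* ℂˣ :=
    m.comp (MonoidHom.fst _ _) * l.comp (MonoidHom.snd _ _)
  obtain ⟨n, hn⟩ := exists_nat_twist F χ lp
  obtain ⟨n', hn'⟩ := exists_nat_twist F χ lm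
  refine ⟨(n : ℤ) - n', ?_⟩
  have hF : ∀ x a, F (x, a) = twoHom t ht x * f a := fun x a => rfl
  have e1 : ∀ x a, (lp (x, a) : ℂ) = (l a : ℂ) := fun x a => rfl
  have e2 : ∀ x a, (lm (x, a) : ℂ) = (m x : ℂ) * (l a : ℂ) := fun x a => rfl
  have hm : (m (Multiplicative.ofAdd 1) : ℂ) = -1 := by simp [m, twoHom_one]
  simp only [Fintype.sum_prod_type, sum_two, Finset.sum_add_distrib, hF, e1, e2, map_one, one_mul,
    twoHom_one, hm, Units.val_one, map_mul, map_neg, Nat.card_prod] at hn hn'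
  have hc2 : (Nat.card (Multiplicative (ZMod 2)) : ℂ) = 2 := by simp [Nat.card_eq_fintype_card]
  simp only [neg_mul, one_mul, mul_neg, Finset.sum_neg_distrib, Nat.cast_mul, hc2] at hn hn'
  push_cast
  linear_combination (hn - hn') / 2

/-- the twists by two commuting involutions have the same parity -/
theorem exists_parity (f : A →* G) {t s : G} (ht : t * t = 1) (hs : s * s = 1) (hts : Commute t s)
    (hct : ∀ a, Commute t (f a)) (hcs : ∀ a, Commute s (f a))
    (χ : Cfsg.IrrCharacter G) (l : A →* ℂˣ) :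
    ∃ z : ℤ, ∑ a, (χ : G → ℂ) (t * f a) * conj (l a : ℂ) -
      ∑ a, (χ : G → ℂ) (s * f a) * conj (l a : ℂ) = (Nat.card A : ℂ) * (2 * z) := by
  let F1 : Multiplicative (ZMod 2) × A →* G :=
    MonoidHom.noncommCoprod (twoHom s hs) f fun x a => commute_twoHom hs (hcs a) x
  let F : Multiplicative (ZMod 2) × (Multiplicative (ZMod 2) × A) →* G :=
    MonoidHom.noncommCoprod (twoHom t ht) F1 fun x y => by
      show Commute _ (twoHom s hs y.1 * f y.2)
      exact Commute.mul_right (commute_twoHom ht (commute_twoHom hs hts.symm y.1).symm x)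
        (commute_twoHom ht (hct y.2) x)
  have h1 : (-1 : ℂˣ) * -1 = 1 := by simp
  let m : Multiplicative (ZMod 2) →* ℂˣ := twoHom (-1) h1
  let la : Multiplicative (ZMod 2) × (Multiplicative (ZMod 2) × A) →* ℂˣ :=
    (m.comp (MonoidHom.fst _ _)).comp (MonoidHom.snd _ _) *
      (l.comp (MonoidHom.snd _ _)).comp (MonoidHom.snd _ _)
  let lb : Multiplicative (ZMod 2) × (Multiplicative (ZMod 2) × A) →* ℂˣ :=
    m.comp (MonoidHom.fst _ _) * (l.comp (MonoidHom.snd _ _)).comp (MonoidHom.snd _ _)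
  obtain ⟨n, hn⟩ := exists_nat_twist F χ la
  obtain ⟨n', hn'⟩ := exists_nat_twist F χ lb
  refine ⟨(n : ℤ) - n', ?_⟩
  have hF : ∀ x y a, F (x, y, a) = twoHom t ht x * (twoHom s hs y * f a) := fun x y a => rfl
  have e1 : ∀ x y a, (la (x, y, a) : ℂ) = (m y : ℂ) * (l a : ℂ) := fun x y a => rfl
  have e2 : ∀ x y a, (lb (x, y, a) : ℂ) = (m x : ℂ) * (l a : ℂ) := fun x y a => rfl
  have hm : (m (Multiplicative.ofAdd 1) : ℂ) = -1 := by simp [m, twoHom_one]
  simp only [Fintype.sum_prod_type, sum_two, Finset.sum_add_distrib, hF, e1, e2, map_one, one_mul,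
    twoHom_one, hm, Units.val_one, map_mul, map_neg, Nat.card_prod] at hn hn'
  have hc2 : (Nat.card (Multiplicative (ZMod 2)) : ℂ) = 2 := by simp [Nat.card_eq_fintype_card]
  simp only [neg_mul, one_mul, mul_neg, Finset.sum_neg_distrib, Nat.cast_mul, hc2] at hn hn'
  push_cast
  linear_combination (hn - hn') / 2

end Twist

namespace Ctx

variable {G : Type*} [Group G] {F : Type*} [Field F] [Fintype F] [CharP F 3] (c : Ctx G F)

theorem pow_t_ι {a : P2 F} {n : ℕ} (hn : Odd n) (ha : a ^ n = 1) :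
    (c.t * c.ι a) ^ n = c.t := by
  obtain ⟨i, rfl⟩ := hn
  rw [(c.comm_t_ι a).mul_pow, ← map_pow, ha, map_one, mul_one, pow_succ, pow_mul, pow_two, c.t_sq,
    one_pow, one_mul]

theorem conj_t_ι (x : G) (hx : x = 1 ∨ x = c.t) (k a : P2 F) :
    x * c.ι k * (c.t * c.ι a) * (x * c.ι k)⁻¹ = c.t * c.ι (k * a * k⁻¹) := by
  have e : c.ι k * (c.t * c.ι a) * (c.ι k)⁻¹ = c.t * c.ι (k * a * k⁻¹) := by
    calc c.ι k * (c.t * c.ι a) * (c.ι k)⁻¹ = (c.ι k * c.t) * (c.ι a * (c.ι k)⁻¹) := by group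
      _ = (c.t * c.ι k) * (c.ι a * (c.ι k)⁻¹) := by rw [c.ι_comm]
      _ = _ := by rw [map_mul, map_mul, map_inv]; group
  have hxc : Commute x (c.t * c.ι (k * a * k⁻¹)) := by
    rcases hx with rfl | rfl
    exacts [Commute.one_left _, (Commute.refl c.t).mul_right (c.comm_t_ι _)]
  rw [show x * c.ι k * (c.t * c.ι a) * (x * c.ι k)⁻¹ =
    x * (c.ι k * (c.t * c.ι a) * (c.ι k)⁻¹) * x⁻¹ by group, e, hxc.eq, mul_inv_cancel_right]

/-- the elements conjugating `t a` to `t b` -/
theorem card_conjugators [Finite G] {a b : P2 F} (ha : Odd (orderOf a)) (hb : Odd (orderOf b)) :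
    Nat.card {g : G // g * (c.t * c.ι a) * g⁻¹ = c.t * c.ι b} =
      2 * Nat.card {k : P2 F // k * a * k⁻¹ = b} := by
  have hcomm : ∀ (x : G) (k : P2 F), (x = 1 ∨ x = c.t) → k * a * k⁻¹ = b →
      x * c.ι k * (c.t * c.ι a) * (x * c.ι k)⁻¹ = c.t * c.ι b := by
    intro x k hx hk
    rw [c.conj_t_ι x hx k a, hk]
  let f : Bool × {k : P2 F // k * a * k⁻¹ = b} → {g : G // g * (c.t * c.ι a) * g⁻¹ = c.t * c.ι b} :=
    fun p => ⟨(bif p.1 then c.t else 1) * c.ι p.2.1, hcomm _ _ (by cases p.1 <;> simp) p.2.2⟩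
  rw [← Nat.card_eq_of_bijective f ?_, Nat.card_prod, Nat.card_eq_fintype_card (α := Bool),
    Fintype.card_bool]
  refine ⟨?_, ?_⟩
  · rintro ⟨e, k, hk⟩ ⟨e', k', hk'⟩ h
    have h' := congrArg Subtype.val h
    simp only [f] at h'
    cases e <;> cases e' <;> simp only [cond_true, cond_false, one_mul] at h'
    · exact Prod.ext rfl (Subtype.ext (c.inj h'))
    · exact absurd h' (c.ι_ne _ _)
    · exact absurd h'.symm (c.ι_ne _ _)
    · exact Prod.ext rfl (Subtype.ext (c.inj (mul_left_cancel h')))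
  · rintro ⟨g, hg⟩
    have hgt : g * c.t = c.t * g := by
      have h1 : a ^ (orderOf a * orderOf b) = 1 := by rw [pow_mul, pow_orderOf_eq_one, one_pow]
      have h2 : b ^ (orderOf a * orderOf b) = 1 := by
        rw [mul_comm, pow_mul, pow_orderOf_eq_one, one_pow]
      have e := congrArg (· ^ (orderOf a * orderOf b)) hg
      simp only [conj_pow] at e
      rw [c.pow_t_ι (ha.mul hb) h1, c.pow_t_ι (ha.mul hb) h2] at e
      exact mul_inv_eq_iff_eq_mul.1 e
    obtain ⟨k, hk⟩ := c.decomp (c.mem_Ct.2 hgt)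
    have key : k * a * k⁻¹ = b := by
      refine c.inj (mul_left_cancel (a := c.t) ?_)
      rw [← hg]
      rcases hk with rfl | rfl
      · conv_rhs => rw [← one_mul (c.ι k)]
        exact (c.conj_t_ι 1 (Or.inl rfl) k a).symm
      · exact (c.conj_t_ι c.t (Or.inr rfl) k a).symm
    rcases hk with rfl | rfl
    · exact ⟨(false, ⟨k, key⟩), Subtype.ext (one_mul _)⟩
    · exact ⟨(true, ⟨k, key⟩), rfl⟩

variable [Fintype G] [Fintype (Cfsg.IrrCharacter G)]

open scoped _root_.Classical in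
/-- column relations on `t K` -/
theorem sum_col {A B : Type*} [Fintype A] [Fintype B] (f : A → P2 F) (g : B → P2 F)
    (hf : ∀ a, Odd (orderOf (f a))) (hg : ∀ b, Odd (orderOf (g b))) (α : A → ℂ) (β : B → ℂ) :
    ∑ χ : Cfsg.IrrCharacter G, (∑ a, (χ : G → ℂ) (c.t * c.ι (f a)) * α a) *
        conj (∑ b, (χ : G → ℂ) (c.t * c.ι (g b)) * β b) =
      2 * ∑ a, α a * ∑ b, conj (β b) * (Nat.card {k : P2 F // k * f a * k⁻¹ = g b} : ℂ) := by
  have hcol : ∀ a b, ∑ χ : Cfsg.IrrCharacter G, (χ : G → ℂ) (c.t * c.ι (f a)) *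
      conj ((χ : G → ℂ) (c.t * c.ι (g b))) =
        2 * (Nat.card {k : P2 F // k * f a * k⁻¹ = g b} : ℂ) := by
    intro a b
    classical
    rw [Char.column_orthogonality, ← Nat.cast_ofNat (R := ℂ) (n := 2), ← Nat.cast_mul,
      ← c.card_conjugators (hf a) (hg b)]
    split_ifs with hc
    · obtain ⟨g₀, hg₀⟩ := isConj_iff.1 hc
      congr 1
      refine Nat.card_congr
        { toFun := fun z => ⟨g₀ * z, ?_⟩
          invFun := fun z => ⟨g₀⁻¹ * z, ?_⟩
          left_inv := fun z => by simp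
          right_inv := fun z => by simp }
      · have hz := Subgroup.mem_centralizer_singleton_iff.1 z.2
        calc g₀ * (z : G) * (c.t * c.ι (f a)) * (g₀ * z)⁻¹
            = g₀ * ((z : G) * (c.t * c.ι (f a)) * (z : G)⁻¹) * g₀⁻¹ := by group
          _ = _ := by rw [hz, mul_inv_cancel_right, hg₀]
      · refine Subgroup.mem_centralizer_singleton_iff.2 ?_
        have hz := z.2
        calc g₀⁻¹ * (z : G) * (c.t * c.ι (f a))
            = g₀⁻¹ * ((z : G) * (c.t * c.ι (f a)) * (z : G)⁻¹) * z := by group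
          _ = g₀⁻¹ * (g₀ * (c.t * c.ι (f a)) * g₀⁻¹) * z := by rw [hz, hg₀]
          _ = _ := by group
    · have : IsEmpty {z : G // z * (c.t * c.ι (f a)) * z⁻¹ = c.t * c.ι (g b)} :=
        ⟨fun z => hc (isConj_iff.2 ⟨z, z.2⟩)⟩
      simp
  simp only [map_sum, map_mul, Finset.sum_mul]
  rw [Finset.sum_comm, Finset.mul_sum]
  refine Finset.sum_congr rfl fun a _ => ?_
  simp only [Finset.mul_sum]
  rw [Finset.sum_comm]
  refine Finset.sum_congr rfl fun b _ => ?_
  rw [show 2 * (α a * (conj (β b) * (Nat.card {k : P2 F // k * f a * k⁻¹ = g b} : ℂ))) =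
    α a * conj (β b) * (2 * (Nat.card {k : P2 F // k * f a * k⁻¹ = g b} : ℂ)) by ring, ← hcol,
    Finset.mul_sum]
  exact Finset.sum_congr rfl fun χ _ => by ring

/-- the conjugators of `t` to an involution -/
theorem card_conj_t {i : G} (hi : orderOf i = 2) :
    Nat.card {x : G // x * c.t * x⁻¹ = i} = Nat.card c.Ct := by
  obtain ⟨g₀, hg₀⟩ := c.exists_conj_t hi
  refine (Nat.card_congr (?_ : c.Ct ≃ {x : G // x * c.t * x⁻¹ = i})).symm
  refine
    { toFun := fun z : c.Ct => ⟨g₀ * z, ?_⟩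
      invFun := fun z => (⟨g₀⁻¹ * (z : G), c.mem_Ct.2 ?_⟩ : c.Ct)
      left_inv := fun z => by simp
      right_inv := fun z => by simp }
  · have hz := c.mem_Ct.1 z.2
    calc g₀ * (z : G) * c.t * (g₀ * z)⁻¹ = g₀ * ((z : G) * c.t) * (z : G)⁻¹ * g₀⁻¹ := by group
      _ = g₀ * (c.t * z) * (z : G)⁻¹ * g₀⁻¹ := by rw [hz]
      _ = g₀ * c.t * g₀⁻¹ := by group
      _ = i := hg₀
  · calc g₀⁻¹ * (z : G) * c.t = g₀⁻¹ * ((z : G) * c.t * (z : G)⁻¹) * z := by group
      _ = g₀⁻¹ * (g₀ * c.t * g₀⁻¹) * z := by rw [z.2, hg₀]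
      _ = _ := by group

open scoped _root_.Classical in
/-- the structure constants of two involutions and `t a` -/
theorem sum_sq_t_apply {a : P2 F} (ha : Odd (orderOf a)) :
    (Nat.card G : ℂ) * ∑ χ : Cfsg.IrrCharacter G, (χ : G → ℂ) c.t * (χ : G → ℂ) c.t *
        (χ : G → ℂ) (c.t * c.ι a) / (χ : G → ℂ) 1 =
      2 * (Nat.card c.Ct : ℂ) ^ 2 *
        (Nat.card {k : P2 F // orderOf k = 2 ∧ orderOf (k * a⁻¹) = 2} : ℂ) := by
  rw [CharDegree.sum_three]
  set z := c.t * c.ι a with hz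
  let I := {i : G // orderOf i = 2 ∧ orderOf (i⁻¹ * z⁻¹) = 2}
  have hcount : Nat.card {p : G × G // p.1 * c.t * p.1⁻¹ * (p.2 * c.t * p.2⁻¹ * z) = 1} =
      Nat.card I * (Nat.card c.Ct * Nat.card c.Ct) := by
    have hord : ∀ x : G, orderOf (x * c.t * x⁻¹) = 2 := fun x =>
      ((MulAut.conj x).orderOf_eq c.t).trans c.ht
    have hj : ∀ p : G × G, p.1 * c.t * p.1⁻¹ * (p.2 * c.t * p.2⁻¹ * z) = 1 →
        p.2 * c.t * p.2⁻¹ = (p.1 * c.t * p.1⁻¹)⁻¹ * z⁻¹ := fun p hp => by
      rw [eq_mul_inv_iff_mul_eq]; exact (inv_eq_of_mul_eq_one_right hp).symm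
    let e : {p : G × G // p.1 * c.t * p.1⁻¹ * (p.2 * c.t * p.2⁻¹ * z) = 1} ≃
        Σ i : I, {x : G // x * c.t * x⁻¹ = i.1} × {y : G // y * c.t * y⁻¹ = i.1⁻¹ * z⁻¹} :=
      { toFun := fun p => ⟨⟨p.1.1 * c.t * p.1.1⁻¹, hord _, hj p.1 p.2 ▸ hord _⟩,
          ⟨⟨p.1.1, rfl⟩, ⟨p.1.2, hj p.1 p.2⟩⟩⟩
        invFun := fun q => ⟨(q.2.1.1, q.2.2.1), by
          show q.2.1.1 * c.t * q.2.1.1⁻¹ * (q.2.2.1 * c.t * q.2.2.1⁻¹ * z) = 1
          rw [q.2.1.2, q.2.2.2]; group⟩
        left_inv := fun p => rfl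
        right_inv := by
          rintro ⟨⟨i, hi⟩, ⟨x, hx⟩, ⟨y, hy⟩⟩
          obtain rfl : x * c.t * x⁻¹ = i := hx
          rfl }
    rw [Nat.card_congr e, Nat.card_sigma,
      Finset.sum_const_nat (m := Nat.card c.Ct * Nat.card c.Ct) fun i _ => by
        rw [Nat.card_prod, c.card_conj_t i.2.1, c.card_conj_t i.2.2],
      Finset.card_univ, Nat.card_eq_fintype_card (α := I)]
  have hI : Nat.card I = 2 * Nat.card {k : P2 F // orderOf k = 2 ∧ orderOf (k * a⁻¹) = 2} := by
    have hzinv : z⁻¹ = c.t * c.ι a⁻¹ := by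
      rw [hz, mul_inv_rev, c.t_inv, ← map_inv, c.ι_comm]
    have htt : ∀ k l : P2 F, (c.t * c.ι k) * (c.t * c.ι l) = c.ι (k * l) := fun k l => by
      rw [← mul_assoc, mul_assoc c.t (c.ι k) c.t, c.ι_comm, ← mul_assoc c.t c.t, c.t_sq, one_mul,
        map_mul]
    have hord : ∀ k : P2 F, orderOf k = 2 → orderOf (c.t * c.ι k) = 2 := fun k hk => by
      refine orderOf_eq_prime ?_ fun h => c.tnot ⟨k⁻¹, by rw [map_inv]; exact (eq_inv_of_mul_eq_one_left h).symm⟩
      rw [pow_two, htt, mul_self_of_orderOf hk, map_one]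
    have hordι : ∀ k : P2 F, orderOf (c.ι k) = orderOf k := fun k => orderOf_injective c.ι c.inj k
    let f : Bool × {k : P2 F // orderOf k = 2 ∧ orderOf (k * a⁻¹) = 2} → I := fun p =>
      ⟨(bif p.1 then c.t else 1) * c.ι p.2.1, by
        obtain ⟨e, k, hk1, hk2⟩ := p
        cases e
        · simp only [cond_false, one_mul]
          refine ⟨(hordι k).trans hk1, ?_⟩
          rw [← map_inv, inv_of_orderOf hk1, hzinv, ← mul_assoc, c.ι_comm, mul_assoc, ← map_mul]
          exact hord _ hk2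
        · simp only [cond_true]
          refine ⟨hord k hk1, ?_⟩
          rw [mul_inv_rev, c.t_inv, ← map_inv, c.ι_comm, hzinv, htt, inv_of_orderOf hk1]
          exact (hordι _).trans hk2⟩
    rw [← Nat.card_eq_of_bijective f ?_, Nat.card_prod, Nat.card_eq_fintype_card (α := Bool),
      Fintype.card_bool]
    refine ⟨?_, ?_⟩
    · rintro ⟨e, k, hk⟩ ⟨e', k', hk'⟩ h
      have h' := congrArg Subtype.val h
      simp only [f] at h'
      cases e <;> cases e' <;> simp only [cond_true, cond_false, one_mul] at h'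
      · exact Prod.ext rfl (Subtype.ext (c.inj h'))
      · exact absurd h' (c.ι_ne _ _)
      · exact absurd h'.symm (c.ι_ne _ _)
      · exact Prod.ext rfl (Subtype.ext (c.inj (mul_left_cancel h')))
    · rintro ⟨i, hi1, hi2⟩
      have hi' := inv_of_orderOf hi1
      have hconj : i * z⁻¹ * i⁻¹ = z := by
        have e := inv_of_orderOf hi2
        rw [mul_inv_rev, inv_inv, inv_inv, hi'] at e
        rw [hi', ← e, mul_assoc]
        exact (congrArg (z * ·) (mul_self_of_orderOf hi1)).trans (mul_one _)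
      have hit : i * c.t = c.t * i := by
        have h2 : (z⁻¹) ^ orderOf a = c.t := by
          rw [inv_pow, hz, c.pow_t_ι ha (pow_orderOf_eq_one _), c.t_inv]
        have e := congrArg (· ^ orderOf a) hconj
        simp only [conj_pow] at e
        rw [h2, hz, c.pow_t_ι ha (pow_orderOf_eq_one _)] at e
        exact mul_inv_eq_iff_eq_mul.1 e
      obtain ⟨k, hk⟩ := c.decomp (c.mem_Ct.2 hit)
      have h1 : ¬ a⁻¹ * a⁻¹ = 1 ∨ a = 1 := by
        by_contra h
        push Not at h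
        have : orderOf a⁻¹ ∣ 2 := orderOf_dvd_of_pow_eq_one (by rw [pow_two]; exact h.1)
        rw [orderOf_inv] at this
        rcases (Nat.dvd_prime Nat.prime_two).1 this with e | e
        · exact h.2 (orderOf_eq_one_iff.1 e)
        · rw [e] at ha; exact absurd ha (by decide)
      rcases hk with rfl | rfl
      · rw [hordι] at hi1
        rw [← map_inv, inv_of_orderOf hi1, hzinv, ← mul_assoc, c.ι_comm, mul_assoc, ← map_mul] at hi2
        refine ⟨(false, ⟨k, hi1, ?_⟩), Subtype.ext (one_mul _)⟩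
        refine orderOf_eq_prime ?_ ?_
        · refine c.inj ?_
          rw [map_pow, map_one]
          have := orderOf_dvd_iff_pow_eq_one.1 (dvd_of_eq hi2)
          rwa [pow_two, htt, ← pow_two, map_pow] at this
        · intro h
          have hka : k = a := mul_inv_eq_one.1 h
          rw [← hka, hi1] at ha
          exact absurd ha (by decide)
      · rw [mul_inv_rev, c.t_inv, ← map_inv, c.ι_comm, hzinv, htt, hordι] at hi2
        have hk2 : k * k = 1 := by
          refine c.inj ?_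
          rw [← htt, map_one]
          exact mul_self_of_orderOf hi1
        have hki : k⁻¹ = k := inv_eq_of_mul_eq_one_right hk2
        rw [hki] at hi2
        refine ⟨(true, ⟨k, orderOf_eq_prime (by rw [pow_two, hk2]) ?_, hi2⟩), rfl⟩
        intro hk1
        rw [hk1, one_mul, orderOf_inv] at hi2
        rw [hi2] at ha
        exact absurd ha (by decide)
  rw [hcount, hI]
  push_cast
  ring

end Ctx

end CfsgLib.LocalEven.GoldS
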