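import Cfsg.Agent.Lib.LocalEven.GoldS.OddCent
import Cfsg.Agent.Lib.PLocal.PLength
import Cfsg.Agent.Lib.PGroups.PSeries
import Cfsg.Agent.Lib.OddLocal.Supplement
import Cfsg.Agent.Lib.Core.PLengthTwoMaximal

/-!
Owner: helper24. Groups of Ree type without real elements of order three: inverted elements centralising
elements of `W` are conjugate into `W`.
-/

set_option autoImplicit false
set_option linter.all false

namespace CfsgLib.LocalEven.GoldS

open Subgroup PSLF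

namespace Ctx

variable {G : Type*} [Group G] {F : Type*} [Field F] [Fintype F] [CharP F 3] (c : Ctx G F)

theorem orderOf_w : orderOf c.w = 2 := (orderOf_injective c.ι c.inj _).trans orderOf_ww

theorem t_w : c.t * c.w = c.w * c.t := (c.ι_comm (ww F)).symm

theorem w_ne_t : c.w ≠ c.t := fun h => c.tnot ⟨_, h⟩

variable [Finite G]

/-- an involution centralising a nontrivial element of `W` does not exist -/
theorem no_involution (hno : NoReal G) {y v : G} (hy : y ∈ c.W) (hy1 : y ≠ 1) (hv : orderOf v = 2)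
    (hvy : v * y = y * v) : False := by
  have hodd := c.odd_centralizer_W hno hy hy1
  have := hodd.of_dvd_nat (orderOf_dvd_natCard (centralizer ({y} : Set G))
    (mem_centralizer_singleton_iff.2 hvy))
  rw [hv] at this
  exact absurd this (by decide)

/-- `w` maps no nontrivial element of `W` into `W` -/
theorem no_w_invariant (hno : NoReal G) {y : G} (hy : y ∈ c.W) (hy1 : y ≠ 1)
    (hwy : c.w * y * c.w⁻¹ ∈ c.W) : False := by
  have hw2 : c.w ^ 2 = 1 := orderOf_dvd_iff_pow_eq_one.1 (dvd_of_eq c.orderOf_w)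
  have hww : c.w * c.w = 1 := by rw [← pow_two]; exact hw2
  set y' := c.w * y * c.w⁻¹ with hy'
  have hfix : c.w * (y * y') * c.w⁻¹ = y * y' := by
    rw [show c.w * (y * y') * c.w⁻¹ = y' * (c.w * y' * c.w⁻¹) by rw [hy']; group, hy',
      show c.w * (c.w * y * c.w⁻¹) * c.w⁻¹ = (c.w * c.w) * y * (c.w * c.w)⁻¹ by group, hww]
    rw [show (1 : G) * y * 1⁻¹ = y by group]
    exact c.W_comm hno hwy hy
  by_cases h1 : y * y' = 1
  · have hinv := c.W_inverted hno hy
    have h2 : c.w * y * c.w⁻¹ = y⁻¹ := eq_inv_of_mul_eq_one_right h1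
    refine c.no_involution hno hy hy1 (v := c.t * c.w) ?_ (commute_iff_conj.2 ?_)
    · refine orderOf_eq_prime ?_ ?_
      · rw [(show Commute c.t c.w from c.t_w).mul_pow, pow_two, c.t_sq, hw2, one_mul]
      · intro e
        exact c.w_ne_t (by rw [← inv_eq_of_mul_eq_one_right e, c.t_inv])
    · rw [show c.t * c.w * y * (c.t * c.w)⁻¹ = c.t * (c.w * y * c.w⁻¹) * c.t⁻¹ by group, h2,
        ← conj_inv, hinv, inv_inv]
  · exact c.no_involution hno (c.W.mul_mem hy hwy) h1 c.orderOf_w (commute_iff_conj.2 hfix)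

/-- elements of `K` normalising a nontrivial `U`-invariant subgroup of `W` lie in `B` -/
theorem mem_Bs_of_normalize (hno : NoReal G) {V : Subgroup G} (hV : V ≤ c.W)
    (hVU : c.U ≤ normalizer (V : Set G)) {y : G} (hy : y ∈ V) (hy1 : y ≠ 1) {k : P2 F}
    (hk : c.ι k ∈ normalizer (V : Set G)) : k ∈ Bs F := by
  by_contra hB
  have hw : c.w ∈ normalizer (V : Set G) := c.K_le_of_mem hVU hk hB ⟨ww F, rfl⟩
  exact c.no_w_invariant hno (hV hy) hy1 (hV ((mem_normalizer_iff.1 hw y).1 hy))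

/-- conjugates into `W` under `C(t)` -/
def Good (x : G) : Prop := ∃ g ∈ c.Ct, g * x * g⁻¹ ∈ c.W

theorem good_of_mem_W {x : G} (hx : x ∈ c.W) : c.Good x :=
  ⟨1, one_mem _, by simpa using hx⟩

theorem good_no_involution (hno : NoReal G) {x v : G} (hx : c.Good x) (hx1 : x ≠ 1)
    (hv : orderOf v = 2) (hvx : v * x = x * v) : False := by
  obtain ⟨g, -, hg⟩ := hx
  refine c.no_involution hno hg (fun e => hx1 (by simpa using e)) (v := g * v * g⁻¹)
    (((MulAut.conj g).orderOf_eq v).trans hv) ?_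
  calc g * v * g⁻¹ * (g * x * g⁻¹) = g * (v * x) * g⁻¹ := by group
    _ = g * (x * v) * g⁻¹ := by rw [hvx]
    _ = _ := by group

/-- in the centraliser of an element of `W` centralised by `U` the inverted elements lie in `W` -/
theorem mem_W_of_U_le (hno : NoReal G) {y x : G} (hy : y ∈ c.W) (hy1 : y ≠ 1)
    (hU : c.U ≤ centralizer ({y} : Set G)) (hxy : x * y = y * x) (hxo : Odd (orderOf x))
    (hxi : Inverted c.t x) : x ∈ c.W := by
  classical
  haveI : Fact (Nat.Prime 3) := ⟨Nat.prime_three⟩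
  set Y : Subgroup G := centralizer ({y} : Set G) with hY
  have hYo : Odd (Nat.card Y) := c.odd_centralizer_W hno hy hy1
  have hyi := c.W_inverted hno hy
  have hYt : ∀ z ∈ Y, c.t * z * c.t⁻¹ ∈ Y := by
    intro z hz
    refine mem_centralizer_singleton_iff.2 ?_
    have hc : Commute z y := mem_centralizer_singleton_iff.1 hz
    have := hc.map (MulAut.conj c.t)
    rw [MulAut.conj_apply, MulAut.conj_apply, hyi] at this
    simpa using this.inv_right.eq
  set A : Subgroup G := zpowers c.t with hA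
  have hAY : A ≤ normalizer (Y : Set G) := by
    rw [hA, zpowers_le, mem_normalizer_iff]
    refine fun z => ⟨hYt z, fun h => ?_⟩
    have := hYt _ h
    rwa [show c.t * (c.t * z * c.t⁻¹) * c.t⁻¹ = (c.t * c.t) * z * (c.t * c.t)⁻¹ by group, c.t_sq,
      one_mul, inv_one, mul_one] at this
  have hcop : (Nat.card A).Coprime (Nat.card Y) := by
    rw [Nat.card_zpowers, c.ht]; exact Nat.coprime_two_left.2 hYo
  obtain ⟨P, hP, hUP, hAP⟩ := InvCent.exists_invariant_sylP_ge (p := 3) hAY hcop hYo hU c.U_isPGroup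
    (by rw [hA, zpowers_le]; exact c.t_mem_normalizer_U)
  have hPU : P = c.U := c.threeGroup_eq_U hno hP.isPGroup
    (fun z hz => (mem_normalizer_iff.1 (hAP (mem_zpowers c.t)) z).1 hz) hUP
  subst hPU
  obtain ⟨S, hS⟩ := hP.exists_sylow
  have hSU : (S : Subgroup Y) = c.U.subgroupOf Y := by
    rw [← hS]; exact (comap_map_eq_self_of_injective Y.subtype_injective _).symm
  haveI : IsMulCommutative (S : Subgroup Y) := ⟨⟨fun a b => by
    have ha : ((a : Y) : G) ∈ c.U := mem_subgroupOf.1 (hSU ▸ a.2)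
    have hb : ((b : Y) : G) ∈ c.U := mem_subgroupOf.1 (hSU ▸ b.2)
    exact Subtype.ext (Subtype.ext (c.U_comm ha hb))⟩⟩
  have hcl : Group.nilpotencyClass ↥(S : Subgroup Y) ≤ 1 := by
    letI : CommGroup ↥(S : Subgroup Y) :=
      { (inferInstance : Group ↥(S : Subgroup Y)) with mul_comm := fun a b => mul_comm' a b }
    exact CommGroup.nilpotencyClass_le_one
  have hpl : Cfsg.PLengthLE 3 1 Y := PGroups.PSeries.pLengthLE_mono hcl
    (PLocal.pLengthLE_class (Core.isPSolvable_of_isSolvable (Cfsg.Agent.S0205.result hYo)) S)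
  obtain ⟨-, htop⟩ := OddLocal.pLengthOne_sylow hpl S
  set N : Subgroup G := (Cfsg.pPrimeCore 3 Y).map Y.subtype with hN
  have hNc : Nat.card N = Nat.card (Cfsg.pPrimeCore 3 Y) := card_map_of_injective Y.subtype_injective
  have hNY : N ≤ Y := map_subtype_le _
  have hNnorm : ∀ g ∈ Y, ∀ n ∈ N, g * n * g⁻¹ ∈ N := by
    rintro g hg _ ⟨n, hn, rfl⟩
    exact ⟨⟨g, hg⟩ * n * ⟨g, hg⟩⁻¹, Normal.conj_mem inferInstance n hn _, rfl⟩
  have hNW : N ≤ c.W := by
    refine c.le_W hno (hU.trans fun g hg => ?_) (hYo.of_dvd_nat (card_dvd_of_le hNY)) ?_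
    · refine mem_normalizer_iff.2 fun n => ⟨hNnorm g hg n, fun h => ?_⟩
      simpa [mul_assoc] using hNnorm g⁻¹ (Y.inv_mem hg) _ h
    · rw [hNc]
      intro hd
      exact absurd ((Core.coprime_card_pPrimeCore 3 Y)) (fun hcp => by
        have := Nat.prime_three.coprime_iff_not_dvd.1 hcp.symm
        exact this hd)
  have hxY : (⟨x, mem_centralizer_singleton_iff.2 hxy⟩ : Y) ∈
      Cfsg.pPrimeCore 3 Y ⊔ normalizer ((S : Subgroup Y) : Set Y) := htop ▸ mem_top _
  obtain ⟨a, ha, n, hn, e⟩ := Subgroup.mem_sup_of_normal_left.1 hxY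
  -- decompose the second factor
  let Z : Subgroup G := (normalizer ((S : Subgroup Y) : Set Y)).map Y.subtype
  have hZY : Z ≤ Y := map_subtype_le _
  have hZn : Z ≤ normalizer (c.U : Set G) := by
    rintro _ ⟨z, hz, rfl⟩
    have key : ∀ z : Y, z ∈ normalizer ((S : Subgroup Y) : Set Y) → ∀ v ∈ c.U,
        (z : G) * v * (z : G)⁻¹ ∈ c.U := by
      intro z hz v hv
      have h1 := (mem_normalizer_iff.1 hz ⟨v, hU hv⟩).1 (hSU ▸ mem_subgroupOf.2 hv)
      rw [hSU] at h1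
      exact mem_subgroupOf.1 h1
    refine mem_normalizer_iff.2 fun v => ⟨key z hz v, fun hv => ?_⟩
    have := key z⁻¹ (inv_mem hz) _ hv
    simpa [mul_assoc] using this
  have hZt : ∀ z ∈ Z, c.t * z * c.t⁻¹ ∈ Z := by
    intro z hz
    refine ⟨⟨_, hYt z (hZY hz)⟩, ?_, rfl⟩
    have hzN : c.t * z * c.t⁻¹ ∈ normalizer (c.U : Set G) :=
      mul_mem (mul_mem c.t_mem_normalizer_U (hZn hz)) (inv_mem c.t_mem_normalizer_U)
    refine mem_normalizer_iff.2 fun v => ?_
    rw [hSU, mem_subgroupOf, mem_subgroupOf]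
    exact mem_normalizer_iff.1 hzN v
  obtain ⟨f, i, hf, hi, hft, hinv, e2⟩ := exists_fixed_mul_inverted c.t_sq
    (hYo.of_dvd_nat (card_dvd_of_le hZY)) hZt (x := (n : G)) ⟨n, hn, rfl⟩
  have hiW : i ∈ c.W := c.mem_W_of_inverted_normalize_U hno
    (hYo.of_dvd_nat (Y.orderOf_dvd_natCard (hZY hi))) hinv (hZn hi)
  set b := f⁻¹ * (a : G) * f * i with hb
  have hbW : b ∈ c.W := by
    refine c.W.mul_mem (hNW ?_) hiW
    simpa using hNnorm f⁻¹ (Y.inv_mem (hZY hf)) _ (⟨a, ha, rfl⟩ : (a : G) ∈ N)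
  have hxfb : x = f * b := by
    have e' : (a : G) * (n : G) = x := congrArg Subtype.val e
    rw [← e', e2, hb]; group
  clear_value b
  have hbi := c.W_inverted hno hbW
  have hf' : c.t * f * c.t⁻¹ = f := commute_iff_conj.1 hft
  have h1 : f * b⁻¹ = b⁻¹ * f⁻¹ := by
    have h := hxi
    rw [Inverted, hxfb, show c.t * (f * b) * c.t⁻¹ = (c.t * f * c.t⁻¹) * (c.t * b * c.t⁻¹) by group,
      hf', hbi, mul_inv_rev] at h
    exact h
  have h2 : b * f * b⁻¹ = f⁻¹ := by rw [mul_assoc, h1, mul_inv_cancel_left]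
  have hfo : Odd (orderOf f) := hYo.of_dvd_nat (Y.orderOf_dvd_natCard (hZY hf))
  have h3 : b * f = f * b := commute_of_inverted_fixed (c.W_odd hno hbW) hbi hf' (by
    rw [h2, show c.t * f⁻¹ * c.t⁻¹ = (c.t * f * c.t⁻¹)⁻¹ by group, hf'])
  have h4 : f = f⁻¹ := by rw [← h2, h3, mul_inv_cancel_right]
  have h5 : f = 1 := by
    have : f ^ 2 = 1 := by rw [pow_two]; nth_rewrite 2 [h4]; exact mul_inv_cancel f
    rcases (Nat.dvd_prime Nat.prime_two).1 (orderOf_dvd_of_pow_eq_one this) with e | e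
    · exact orderOf_eq_one_iff.1 e
    · rw [e] at hfo; exact absurd hfo (by decide)
  rw [hxfb, h5, one_mul]
  exact hbW

/-- an inverted `r`-element commuting with an element of `W` is conjugate into `W` -/
theorem exists_conj_mem_W (hno : NoReal G) {r : ℕ} [Fact r.Prime] {y x : G} (hy : y ∈ c.W)
    (hy1 : y ≠ 1) (hyr : ∃ k, orderOf y = r ^ k) (hxy : x * y = y * x) (hxr : ∃ k, orderOf x = r ^ k)
    (hxi : Inverted c.t x) : c.Good x := by
  classical
  have hyo := c.W_odd hno hy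
  set Y : Subgroup G := centralizer ({y} : Set G) with hY
  have hYo : Odd (Nat.card Y) := c.odd_centralizer_W hno hy hy1
  have hxY : x ∈ Y := mem_centralizer_singleton_iff.2 hxy
  have hxo : Odd (orderOf x) := hYo.of_dvd_nat (Y.orderOf_dvd_natCard hxY)
  by_cases hU : c.U ≤ Y
  · exact c.good_of_mem_W (c.mem_W_of_U_le hno hy hy1 hU hxy hxo hxi)
  let V : Subgroup G :=
    { carrier := {z | z ∈ c.W ∧ ∃ k, z ^ (r ^ k) = 1}
      mul_mem' := by
        rintro a b ⟨ha, k, hk⟩ ⟨hb, l, hl⟩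
        refine ⟨c.W.mul_mem ha hb, k + l, ?_⟩
        rw [(show Commute a b from c.W_comm hno ha hb).mul_pow, pow_add]
        conv_lhs => rw [pow_mul, hk, one_pow, one_mul, mul_comm, pow_mul, hl, one_pow]
      one_mem' := ⟨one_mem _, 0, one_pow _⟩
      inv_mem' := by
        rintro a ⟨ha, k, hk⟩
        exact ⟨c.W.inv_mem ha, k, by rw [inv_pow, hk, inv_one]⟩ }
  have hVW : V ≤ c.W := fun z hz => hz.1
  have hyV : y ∈ V := by
    obtain ⟨k, hk⟩ := hyr
    exact ⟨hy, k, by rw [← hk, pow_orderOf_eq_one]⟩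
  have hVn : normalizer (c.U : Set G) ≤ normalizer (V : Set G) := by
    intro g hg
    have key : ∀ g ∈ normalizer (c.U : Set G), ∀ z ∈ V, g * z * g⁻¹ ∈ V := by
      rintro g hg z ⟨hz, k, hk⟩
      exact ⟨(mem_normalizer_iff.1 (c.normalizer_U_le_normalizer_W hg) z).1 hz, k,
        by rw [conj_pow, hk]; group⟩
    refine mem_normalizer_iff.2 fun z => ⟨key g hg z, fun h => ?_⟩
    simpa [mul_assoc] using key g⁻¹ (inv_mem hg) _ h
  have hVU : c.U ≤ normalizer (V : Set G) := Subgroup.le_normalizer.trans hVn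
  have hVne : ¬ V ≤ centralizer (c.U : Set G) := fun h => hU fun u hu =>
    mem_centralizer_singleton_iff.2 (mem_centralizer_iff.1 (h hyV) u hu)
  -- `U` acts faithfully on `V`
  have hUV : ∀ u ∈ c.U, u ∈ centralizer (V : Set G) → u = 1 := by
    intro u hu hc
    by_contra hu1
    have hinv : ∀ h ∈ c.H, ∀ v ∈ c.U ⊓ centralizer (V : Set G),
        h * v * h⁻¹ ∈ c.U ⊓ centralizer (V : Set G) := by
      rintro h hh v ⟨hv, hv'⟩
      refine ⟨c.H_normalizes_U hh hv, mem_centralizer_iff.2 fun z hz => ?_⟩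
      have hz' : h⁻¹ * z * h ∈ V := by
        simpa using (mem_normalizer_iff.1 (hVn (inv_mem (c.H_le_normalizer_U hh))) z).1 hz
      have e := mem_centralizer_iff.1 hv' _ hz'
      calc z * (h * v * h⁻¹) = h * ((h⁻¹ * z * h) * v) * h⁻¹ := by group
        _ = h * (v * (h⁻¹ * z * h)) * h⁻¹ := by rw [e]
        _ = _ := by group
    have := c.eq_U_of_invariant (V := c.U ⊓ centralizer (V : Set G)) inf_le_left hinv
      (show u ∈ _ from ⟨hu, hc⟩) hu1
    refine hVne fun z hz => mem_centralizer_iff.2 fun v hv => ?_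
    exact ((mem_centralizer_iff.1 (this.ge hv).2) z hz).symm
  -- the centraliser of `V` is contained in `W`
  have hCV : centralizer (V : Set G) ≤ c.W := by
    set Z := centralizer (V : Set G) with hZ
    have hZY : Z ≤ Y := fun z hz =>
      mem_centralizer_singleton_iff.2 (mem_centralizer_iff.1 hz y hyV).symm
    have hZo : Odd (Nat.card Z) := hYo.of_dvd_nat (card_dvd_of_le hZY)
    have key : ∀ g ∈ normalizer (V : Set G), ∀ z ∈ Z, g * z * g⁻¹ ∈ Z := by
      intro g hg z hz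
      refine mem_centralizer_iff.2 fun v hv => ?_
      have hv' : g⁻¹ * v * g ∈ V := by simpa using (mem_normalizer_iff.1 (inv_mem hg) v).1 hv
      have e := mem_centralizer_iff.1 hz _ hv'
      calc v * (g * z * g⁻¹) = g * ((g⁻¹ * v * g) * z) * g⁻¹ := by group
        _ = g * (z * (g⁻¹ * v * g)) * g⁻¹ := by rw [e]
        _ = _ := by group
    have hfix : ∀ f ∈ Z, c.t * f = f * c.t → f = 1 := by
      intro f hf hft
      obtain ⟨k, rfl⟩ := c.mem_K_of_odd (c.mem_Ct.2 hft.symm) (hZo.of_dvd_nat (Z.orderOf_dvd_natCard hf))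
      have hkB := c.mem_Bs_of_normalize hno hVW hVU hyV hy1 (Subgroup.centralizer_le_normalizer _ hf)
      obtain ⟨a, ha, h, hh, rfl⟩ := Bs_decomp hkB
      have hfU : c.ι (a * h) ∈ normalizer (c.U : Set G) := by
        rw [map_mul]
        exact mul_mem (Subgroup.le_normalizer (mem_map_of_mem _ ha))
          (c.H_le_normalizer_U (mem_map_of_mem _ hh))
      obtain ⟨u0, hu0, hu01⟩ : ∃ u0 ∈ c.U, u0 ≠ 1 :=
        ⟨c.ι (u 1), mem_map_of_mem _ (u_mem 1), fun e => one_ne_zero (α := F)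
          (u_eq_one (c.inj (e.trans (map_one c.ι).symm)))⟩
      have hcomm : ∀ v ∈ c.U, v * c.ι (a * h) * v⁻¹ * (c.ι (a * h))⁻¹ = 1 := by
        intro v hv
        refine hUV _ ?_ ?_
        · have h1 : c.ι (a * h) * v⁻¹ * (c.ι (a * h))⁻¹ ∈ c.U :=
            (mem_normalizer_iff.1 hfU v⁻¹).1 (c.U.inv_mem hv)
          have := c.U.mul_mem hv h1
          simpa [mul_assoc] using this
        · exact Z.mul_mem (key v (hVU hv) _ hf) (Z.inv_mem hf)
      have hcu : c.ι (a * h) * u0 = u0 * c.ι (a * h) := by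
        have := hcomm u0 hu0
        rw [mul_inv_eq_one, mul_inv_eq_iff_eq_mul] at this
        exact this.symm
      rcases c.centralizer_U_Ct (c.ι_mem_Ct _) hu0 hu01 hcu with h' | h'
      · exact hUV _ h' hf
      · exfalso
        obtain ⟨b, -, hb⟩ := h'
        exact c.ι_ne _ _ hb
    have hinv : ∀ z ∈ Z, Inverted c.t z := fun z hz => inverted_of_no_fixed c.t_sq hZo
      (fun z hz => key c.t (hVn c.t_mem_normalizer_U) z hz) hfix hz
    refine c.le_W hno (fun g hg => ?_) hZo fun hd => ?_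
    · refine mem_normalizer_iff.2 fun z => ⟨key g (hVU hg) z, fun h => ?_⟩
      simpa [mul_assoc] using key g⁻¹ (inv_mem (hVU hg)) _ h
    · haveI : Fact (Nat.Prime 3) := ⟨Nat.prime_three⟩
      obtain ⟨z, hz⟩ := exists_prime_orderOf_dvd_card' (G := Z) 3 hd
      exact c.inverted_not_three hno (hinv z z.2) (by rw [Subgroup.orderOf_coe, hz])
  have hinvnorm : ∀ i, Inverted c.t i → Odd (orderOf i) → i ∈ normalizer (V : Set G) → i ∈ c.W :=
    fun i hi ho hn => hCV (mem_centralizer_iff.2 fun z hz =>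
      (commute_of_inverted_normalize ho hi (c.W_inverted hno (hVW hz))
        (c.W_inverted hno (hVW ((mem_normalizer_iff.1 hn z).1 hz)))).symm)
  -- an invariant Sylow subgroup containing `V`
  have hVY : V ≤ Y := fun z hz => mem_centralizer_singleton_iff.2 (c.W_comm hno hz.1 hy)
  have hYt : ∀ z ∈ Y, c.t * z * c.t⁻¹ ∈ Y := by
    intro z hz
    refine mem_centralizer_singleton_iff.2 ?_
    have hc : Commute z y := mem_centralizer_singleton_iff.1 hz
    have := hc.map (MulAut.conj c.t)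
    rw [MulAut.conj_apply, MulAut.conj_apply, c.W_inverted hno hy] at this
    simpa using this.inv_right.eq
  have hAn : ∀ (L : Subgroup G), (∀ z ∈ L, c.t * z * c.t⁻¹ ∈ L) →
      zpowers c.t ≤ normalizer (L : Set G) := by
    intro L hL
    rw [zpowers_le, mem_normalizer_iff]
    refine fun z => ⟨hL z, fun h => ?_⟩
    have := hL _ h
    rwa [show c.t * (c.t * z * c.t⁻¹) * c.t⁻¹ = (c.t * c.t) * z * (c.t * c.t)⁻¹ by group, c.t_sq,
      one_mul, inv_one, mul_one] at this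
  have hcop : (Nat.card (zpowers c.t)).Coprime (Nat.card Y) := by
    rw [Nat.card_zpowers, c.ht]; exact Nat.coprime_two_left.2 hYo
  have hVp : IsPGroup r V := fun z => by
    obtain ⟨k, hk⟩ := z.2.2
    exact ⟨k, Subtype.ext (by simpa using hk)⟩
  obtain ⟨P, hP, hVP, hAP⟩ := InvCent.exists_invariant_sylP_ge (p := r) (hAn Y hYt) hcop hYo hVY hVp
    (by rw [zpowers_le]; exact hVn c.t_mem_normalizer_U)
  set P1 := P ⊓ normalizer (V : Set G) with hP1
  have hdec : ∀ z ∈ P1, ∃ f i, f ∈ P1 ∧ c.t * f = f * c.t ∧ i ∈ V ∧ z = f * i := by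
    intro z hz
    have htP : ∀ z ∈ P1, c.t * z * c.t⁻¹ ∈ P1 := fun z hz =>
      ⟨(mem_normalizer_iff.1 (hAP (mem_zpowers c.t)) z).1 hz.1,
        (normalizer (V : Set G)).mul_mem ((normalizer (V : Set G)).mul_mem (hVn c.t_mem_normalizer_U) hz.2)
          ((normalizer (V : Set G)).inv_mem (hVn c.t_mem_normalizer_U))⟩
    have hP1o : Odd (Nat.card P1) := hYo.of_dvd_nat (card_dvd_of_le (inf_le_left.trans hP.le))
    obtain ⟨f, i, hf, hi, hft, hinv, e⟩ := exists_fixed_mul_inverted c.t_sq hP1o htP hz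
    obtain ⟨k, hk⟩ := IsPGroup.iff_orderOf.1 hP.isPGroup ⟨i, hi.1⟩
    rw [Subgroup.orderOf_mk] at hk
    exact ⟨f, i, hf, hft, ⟨hinvnorm i hinv (hP1o.of_dvd_nat (P1.orderOf_dvd_natCard hi)) hi.2,
      k, by rw [← hk, pow_orderOf_eq_one]⟩, e⟩
  -- quadratic elements
  have hquad : ∀ f ∈ P1, c.t * f = f * c.t → f ≠ 1 →
      ∃ v ∈ V, v * (f * v * f⁻¹)⁻¹ * (f * v * f⁻¹)⁻¹ * (f * (f * v * f⁻¹) * f⁻¹) ≠ 1 := by
    intro f hf hft hf1
    obtain ⟨n, hn⟩ := IsPGroup.iff_orderOf.1 hP.isPGroup ⟨f, hf.1⟩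
    rw [Subgroup.orderOf_mk] at hn
    have hfo : Odd (orderOf f) := hYo.of_dvd_nat (Y.orderOf_dvd_natCard (hP.le hf.1))
    obtain ⟨k, rfl⟩ := c.mem_K_of_odd (c.mem_Ct.2 hft.symm) hfo
    obtain ⟨a, ha, h, hh, rfl⟩ := Bs_decomp (c.mem_Bs_of_normalize hno hVW hVU hyV hy1 hf.2)
    have hh1 : h ≠ 1 := by
      rintro rfl
      rw [mul_one] at hf1 hn
      have h3 : orderOf (c.ι a) ∣ 3 := orderOf_dvd_of_pow_eq_one
        (by rw [← map_pow, Us_cube ha, map_one])
      rcases (Nat.dvd_prime Nat.prime_three).1 h3 with e | e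
      · exact hf1 (orderOf_eq_one_iff.1 e)
      · have hr3 : r = 3 := by
          have hd : 3 ∣ r ^ n := by rw [← hn, e]
          exact ((Nat.prime_dvd_prime_iff_eq Nat.prime_three Fact.out).1
            (Nat.prime_three.dvd_of_dvd_pow hd)).symm
        obtain ⟨j, hj⟩ := hyr
        rcases j with - | j
        · exact hy1 (orderOf_eq_one_iff.1 (by simpa using hj))
        · exact (c.W_props hno hy).2.2 (by rw [hj, hr3]; exact dvd_pow_self 3 j.succ_ne_zero)
    obtain ⟨B0, hB0, hc0, hB0c⟩ := c.exists_component hno hVW hVU hVne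
    rw [SetLike.not_le_iff_exists] at hB0c
    obtain ⟨v, ⟨hvV, hvB⟩, hvU⟩ := hB0c
    refine ⟨v, hvV, fun hrel => hvU ?_⟩
    set f := c.ι (a * h) with hfdef
    set h' := c.ι h with hh'
    have hh'H : h' ∈ c.H := mem_map_of_mem _ hh
    have hact : ∀ b ∈ c.U, f * b * f⁻¹ = h' * b * h'⁻¹ := by
      intro b hb
      have hcm : c.ι a * (h' * b * h'⁻¹) = (h' * b * h'⁻¹) * c.ι a :=
        c.U_comm (mem_map_of_mem _ ha) (c.H_normalizes_U hh'H hb)
      rw [hfdef, map_mul, show c.ι a * h' * b * (c.ι a * h')⁻¹ = c.ι a * (h' * b * h'⁻¹) * (c.ι a)⁻¹ by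
        group, hcm, mul_inv_cancel_right]
    let Bf : Fin 3 → Subgroup G := fun j => B0.map (MulAut.conj (h' ^ (j : ℕ))).toMonoidHom
    have hBU : ∀ j, Bf j ≤ c.U := by
      rintro j _ ⟨b, hb, rfl⟩
      exact c.H_normalizes_U (c.H.pow_mem hh'H _) (hB0 hb)
    have hBc : ∀ j, Nat.card (Bf j) * 3 = Fintype.card F := fun j => by
      rw [card_map_of_injective (MulAut.conj _).injective]; exact hc0
    have hBmem : ∀ (j : Fin 3) (b : G), b ∈ Bf j ↔ (h' ^ (j : ℕ))⁻¹ * b * h' ^ (j : ℕ) ∈ B0 := by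
      intro j b
      show b ∈ B0.map _ ↔ _
      rw [mem_map_equiv, MulAut.conj_symm_apply]
    have hBinj : Function.Injective Bf := by
      intro i j e
      by_contra hne
      refine c.not_invariant_hyperplane (h := (h' ^ (j : ℕ))⁻¹ * h' ^ (i : ℕ))
        (c.H.mul_mem (c.H.inv_mem (c.H.pow_mem hh'H _)) (c.H.pow_mem hh'H _)) ?_ hB0 hc0
        fun b hb => ?_
      · intro e1
        have e2 : h' ^ (j : ℕ) = h' ^ (i : ℕ) := inv_mul_eq_one.1 e1
        have hodd : Odd (orderOf h') := (c.card_H_eq ▸ odd_card_Hs c.hq).of_dvd_nat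
          (c.H.orderOf_dvd_natCard hh'H)
        have h'1 : h' ≠ 1 := fun e3 => hh1 (c.inj (e3.trans (map_one c.ι).symm))
        have hlt : 3 ≤ orderOf h' := by
          have := orderOf_pos h'
          have h1 : orderOf h' ≠ 1 := fun e3 => h'1 (orderOf_eq_one_iff.1 e3)
          obtain ⟨l, hl⟩ := hodd
          omega
        exact hne (Fin.ext (pow_injOn_Iio_orderOf (x := h') (Set.mem_Iio.2 (lt_of_lt_of_le i.2 hlt))
          (Set.mem_Iio.2 (lt_of_lt_of_le j.2 hlt)) e2.symm))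
      · have h1 : h' ^ (i : ℕ) * b * (h' ^ (i : ℕ))⁻¹ ∈ Bf j := e ▸ mem_map_of_mem _ hb
        have h2 := (hBmem j _).1 h1
        rwa [show (h' ^ (j : ℕ))⁻¹ * h' ^ (i : ℕ) * b * ((h' ^ (j : ℕ))⁻¹ * h' ^ (i : ℕ))⁻¹
          = (h' ^ (j : ℕ))⁻¹ * (h' ^ (i : ℕ) * b * (h' ^ (i : ℕ))⁻¹) * h' ^ (j : ℕ) by group]
    have hcomp : ∀ (j : ℕ) (hj : j < 2) (z : G), z ∈ c.comp (Bf ⟨j, by omega⟩) →
        f * z * f⁻¹ ∈ V → f * z * f⁻¹ ∈ c.comp (Bf ⟨j + 1, by omega⟩) := by
      intro j hj z hz hzV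
      refine ⟨hVW hzV, mem_centralizer_iff.2 ?_⟩
      rintro _ ⟨b, hb, rfl⟩
      have hbj : h' ^ j * b * (h' ^ j)⁻¹ ∈ Bf ⟨j, by omega⟩ := mem_map_of_mem _ hb
      have hcz := mem_centralizer_iff.1 hz.2 _ hbj
      have e3 : f * (h' ^ j * b * (h' ^ j)⁻¹) * f⁻¹ = h' ^ (j + 1) * b * (h' ^ (j + 1))⁻¹ := by
        rw [hact _ (c.H_normalizes_U (c.H.pow_mem hh'H _) (hB0 hb)), pow_succ']
        group
      show h' ^ (j + 1) * b * (h' ^ (j + 1))⁻¹ * (f * z * f⁻¹) = _
      rw [← e3]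
      calc f * (h' ^ j * b * (h' ^ j)⁻¹) * f⁻¹ * (f * z * f⁻¹)
          = f * ((h' ^ j * b * (h' ^ j)⁻¹) * z) * f⁻¹ := by group
        _ = f * (z * (h' ^ j * b * (h' ^ j)⁻¹)) * f⁻¹ := by rw [hcz]
        _ = f * z * f⁻¹ * (f * (h' ^ j * b * (h' ^ j)⁻¹) * f⁻¹) := by group
        _ = f * z * f⁻¹ * (h' ^ (j + 1) * b * (h' ^ (j + 1))⁻¹) := by rw [e3]
    have hv0 : v ∈ c.comp (Bf ⟨0, by omega⟩) := ⟨hVW hvV, mem_centralizer_iff.2 (by
      rintro _ ⟨b, hb, rfl⟩
      show h' ^ 0 * b * (h' ^ 0)⁻¹ * v = v * (h' ^ 0 * b * (h' ^ 0)⁻¹)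
      rw [pow_zero, one_mul, inv_one, mul_one]
      exact mem_centralizer_iff.1 hvB b hb)⟩
    set v1 := f * v * f⁻¹ with hv1
    set v2 := f * v1 * f⁻¹ with hv2
    have hv1V : v1 ∈ V := (mem_normalizer_iff.1 hf.2 v).1 hvV
    have hv2V : v2 ∈ V := (mem_normalizer_iff.1 hf.2 v1).1 hv1V
    have hc1 := hcomp 0 (by omega) v hv0 hv1V
    have hc2 := hcomp 1 (by omega) v1 hc1 hv2V
    letI : CommGroup c.W := { (inferInstance : Group c.W) with
      mul_comm := fun a b => Subtype.ext (c.W_comm hno a.2 b.2) }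
    let xs : Fin 3 → c.W := fun j =>
      if j = 1 then ⟨v1⁻¹ * v1⁻¹, c.W.mul_mem (c.W.inv_mem (hVW hv1V)) (c.W.inv_mem (hVW hv1V))⟩
      else ⟨v2, hVW hv2V⟩
    refine c.indep hno Bf hBU hBc hBinj ({1, 2} : Finset (Fin 3)) 0 (by decide) v hv0 xs ?_ ?_
    · intro j hj
      simp only [Finset.mem_insert, Finset.mem_singleton] at hj
      rcases hj with rfl | rfl
      · refine ⟨(xs 1).2, ?_⟩
        show v1⁻¹ * v1⁻¹ ∈ centralizer _
        exact (centralizer _).mul_mem ((centralizer _).inv_mem hc1.2) ((centralizer _).inv_mem hc1.2)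
      · exact hc2
    · have e4 : ((∏ j ∈ ({1, 2} : Finset (Fin 3)), xs j : c.W) : G) = v1⁻¹ * v1⁻¹ * v2 := by
        rw [Finset.prod_insert (by decide), Finset.prod_singleton]
        rfl
      rw [e4, show v * (v1⁻¹ * v1⁻¹ * v2) = v * v1⁻¹ * v1⁻¹ * v2 by group, hrel]
      exact one_mem _
  -- `P` normalises `V`
  have hVP1 : V ≤ P1 := le_inf hVP Subgroup.le_normalizer
  have hP1self : ∀ g ∈ P, (∀ z ∈ P1, g * z * g⁻¹ ∈ P1) → g ∈ normalizer (V : Set G) := by
    intro g hg hgn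
    have key : ∀ v ∈ V, g * v * g⁻¹ ∈ V := by
      intro v hv
      obtain ⟨f, i, hf, hft, hi, e⟩ := hdec _ (hgn v (hVP1 hv))
      by_cases hf1 : f = 1
      · rw [e, hf1, one_mul]; exact hi
      exfalso
      obtain ⟨a, ha, hne⟩ := hquad f hf hft hf1
      refine hne ?_
      set x' := g * v * g⁻¹ with hx'
      have hx'P : x' ∈ P1 := hgn v (hVP1 hv)
      have hga : g⁻¹ * a * g ∈ P1 := by
        have hfin : ∀ z ∈ P1, g⁻¹ * z * g ∈ P1 := by
          intro z hz
          let L : Subgroup G := P1.map (MulAut.conj g).toMonoidHom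
          have hLle : L ≤ P1 := by rintro _ ⟨w, hw, rfl⟩; exact hgn w hw
          have hLeq : L = P1 := eq_of_le_of_card_ge hLle
            (card_map_of_injective (MulAut.conj g).injective).ge
          obtain ⟨w, hw, e'⟩ := hLeq.ge hz
          rw [← e']
          show g⁻¹ * (g * w * g⁻¹) * g ∈ P1
          rwa [show g⁻¹ * (g * w * g⁻¹) * g = w by group]
        exact hfin a (hVP1 ha)
      set z := a * x' * a⁻¹ * x'⁻¹ with hz
      have hzx : x' * z = z * x' := by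
        have h1 : g⁻¹ * z * g = (g⁻¹ * a * g) * v * (g⁻¹ * a * g)⁻¹ * v⁻¹ := by
          rw [hz, hx']; group
        have h2 : g⁻¹ * z * g ∈ V := by
          rw [h1]
          exact V.mul_mem ((mem_normalizer_iff.1 hga.2 v).1 hv) (V.inv_mem hv)
        have h3 : Commute v (g⁻¹ * z * g) := c.W_comm hno (hVW hv) (hVW h2)
        have h4 := h3.map (MulAut.conj g)
        rw [MulAut.conj_apply, MulAut.conj_apply, ← hx',
          show g * (g⁻¹ * z * g) * g⁻¹ = z by group] at h4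
        exact h4.eq
      have hfa : f * a⁻¹ * f⁻¹ ∈ V := (mem_normalizer_iff.1 hf.2 _).1 (V.inv_mem ha)
      have hz' : z = a * (f * a⁻¹ * f⁻¹) := by
        have hc : Commute i a⁻¹ := c.W_comm hno (hVW hi) (hVW (V.inv_mem ha))
        rw [hz, e, show a * (f * i) * a⁻¹ * (f * i)⁻¹ = a * f * (i * a⁻¹ * i⁻¹) * f⁻¹ by group, hc.eq]
        group
      have hzV : z ∈ V := hz' ▸ V.mul_mem ha hfa
      have hfz : f * z * f⁻¹ = z := by
        have hc : Commute i z := c.W_comm hno (hVW hi) (hVW hzV)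
        have := commute_iff_conj.1 hzx
        rwa [e, show f * i * z * (f * i)⁻¹ = f * (i * z * i⁻¹) * f⁻¹ by group, hc.eq,
          mul_inv_cancel_right] at this
      set a1 := f * a * f⁻¹ with ha1
      set a2 := f * a1 * f⁻¹ with ha2
      have ha1V : a1 ∈ V := (mem_normalizer_iff.1 hf.2 a).1 ha
      have h5 : a1 * a2⁻¹ = a * a1⁻¹ := by
        have := hfz
        rw [hz', show f * (a * (f * a⁻¹ * f⁻¹)) * f⁻¹ = a1 * a2⁻¹ by rw [ha2, ha1]; group,
          show f * a⁻¹ * f⁻¹ = a1⁻¹ by rw [ha1]; group] at this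
        exact this
      have hcm : a1⁻¹ * a = a * a1⁻¹ := c.W_comm hno (c.W.inv_mem (hVW ha1V)) (hVW ha)
      calc a * a1⁻¹ * a1⁻¹ * a2 = (a1 * a2⁻¹) * a1⁻¹ * a2 := by rw [h5]
        _ = a1 * (a2⁻¹ * a1⁻¹) * a2 := by group
        _ = a1 * (a1⁻¹ * a2⁻¹) * a2 := by
          rw [c.W_comm hno (c.W.inv_mem (hVW ((mem_normalizer_iff.1 hf.2 a1).1 ha1V)))
            (c.W.inv_mem (hVW ha1V))]
        _ = 1 := by group
    refine mem_normalizer_iff.2 fun z => ⟨key z, fun hz => ?_⟩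
    have hL : V.map (MulAut.conj g).toMonoidHom = V :=
      eq_of_le_of_card_ge (by rintro _ ⟨w, hw, rfl⟩; exact key w hw)
        (card_map_of_injective (MulAut.conj g).injective).ge
    obtain ⟨w, hw, e'⟩ := hL.ge hz
    rwa [show z = w from (MulAut.conj g).injective e'.symm]
  have hPeq : P ≤ normalizer (V : Set G) := by
    by_contra hle
    haveI := hP.isPGroup.isNilpotent
    have hne : P1.subgroupOf P < ⊤ := lt_of_le_of_ne le_top fun e => hle fun z hz =>
      (mem_subgroupOf.1 (e.ge (mem_top (⟨z, hz⟩ : P)))).2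
    obtain ⟨n, hn, hnP⟩ := SetLike.exists_of_lt (Group.normalizerCondition_of_isNilpotent (G := ↥P) _ hne)
    refine hnP (mem_subgroupOf.2 ⟨n.2, hP1self n n.2 fun z hz => ?_⟩)
    have := mem_subgroupOf.1 ((mem_normalizer_iff.1 hn ⟨z, hz.1⟩).1 (mem_subgroupOf.2 hz))
    exact this
  -- conjugate `x` into `P`
  have hxp : IsPGroup r (zpowers x) := by
    obtain ⟨k, hk⟩ := hxr
    exact IsPGroup.of_card (n := k) (by rw [Nat.card_zpowers, hk])
  obtain ⟨Q, hQ, hxQ, hAQ⟩ := InvCent.exists_invariant_sylP_ge (p := r) (hAn Y hYt) hcop hYo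
    (zpowers_le.2 hxY) hxp (hAn _ fun z hz => by
      rw [show c.t * z * c.t⁻¹ = z⁻¹ from hxi.mem_of_zpowers hz]; exact inv_mem hz)
  obtain ⟨g, hg, hgQ⟩ := hQ.exists_centralizing_conj hP (hAn Y hYt) hcop hYo hAQ hAP
  have hgt : g * c.t = c.t * g :=
    (mem_centralizer_iff.1 hg.2 c.t (mem_zpowers _)).symm
  refine ⟨g, c.mem_Ct.2 hgt, ?_⟩
  have hgx : g * x * g⁻¹ ∈ P := by
    rw [← hgQ]; exact CIT.conj_mem_cj.2 (hxQ (mem_zpowers x))
  refine hinvnorm _ ?_ (by rwa [show orderOf (g * x * g⁻¹) = orderOf x from (MulAut.conj g).orderOf_eq x])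
    (hPeq hgx)
  show c.t * (g * x * g⁻¹) * c.t⁻¹ = (g * x * g⁻¹)⁻¹
  rw [show c.t * (g * x * g⁻¹) * c.t⁻¹ = (c.t * g) * x * (c.t * g)⁻¹ by group, ← hgt,
    show g * c.t * x * (g * c.t)⁻¹ = g * (c.t * x * c.t⁻¹) * g⁻¹ by group, hxi, conj_inv]

/-- closure of `Good` -/
theorem good_step (hno : NoReal G) {r : ℕ} [Fact r.Prime] {y x : G} (hy : c.Good y) (hy1 : y ≠ 1)
    (hyr : ∃ k, orderOf y = r ^ k) (hxy : x * y = y * x) (hxr : ∃ k, orderOf x = r ^ k)
    (hxi : Inverted c.t x) : c.Good x := by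
  obtain ⟨g, hg, hgy⟩ := hy
  have hgt := c.mem_Ct.1 hg
  have ho : ∀ z : G, orderOf (g * z * g⁻¹) = orderOf z := fun z => (MulAut.conj g).orderOf_eq z
  obtain ⟨g', hg', hgx⟩ := c.exists_conj_mem_W hno hgy (fun e => hy1 (by simpa using e))
    (by rw [ho]; exact hyr) (x := g * x * g⁻¹)
    (by rw [show g * x * g⁻¹ * (g * y * g⁻¹) = g * (x * y) * g⁻¹ by group, hxy]; group)
    (by rw [ho]; exact hxr) (by
      show c.t * (g * x * g⁻¹) * c.t⁻¹ = (g * x * g⁻¹)⁻¹
      rw [show c.t * (g * x * g⁻¹) * c.t⁻¹ = (c.t * g) * x * (c.t * g)⁻¹ by group, ← hgt,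
        show g * c.t * x * (g * c.t)⁻¹ = g * (c.t * x * c.t⁻¹) * g⁻¹ by group, hxi, conj_inv])
  exact ⟨g' * g, c.Ct.mul_mem hg' hg,
    by rwa [show g' * g * x * (g' * g)⁻¹ = g' * (g * x * g⁻¹) * g'⁻¹ by group]⟩

end Ctx

end CfsgLib.LocalEven.GoldS
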