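import Cfsg.Agent.Lib.LocalEven.GoldS.Signal

/-!
Owner: helper24. Groups of Ree type without real elements of order three: components of `W` under `U`.
-/

set_option autoImplicit false
set_option linter.all false

namespace CfsgLib.LocalEven.GoldS

open Subgroup PSLF

namespace Ctx

variable {G : Type*} [Group G] {F : Type*} [Field F] [Fintype F] [CharP F 3] (c : Ctx G F)

include c in
theorem three_dvd_card : 3 ∣ Fintype.card F := by
  obtain ⟨n, -, hn⟩ := FiniteField.card F 3
  rw [hn]
  exact dvd_pow_self 3 n.pos.ne'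

theorem H_normalizes_U {h x : G} (hh : h ∈ c.H) (hx : x ∈ c.U) : h * x * h⁻¹ ∈ c.U :=
  (mem_normalizer_iff.1 (c.H_le_normalizer_U hh) x).1 hx

theorem H_free_U {h x : G} (hh : h ∈ c.H) (h1 : h ≠ 1) (hx : x ∈ c.U) (hc : h * x = x * h) :
    x = 1 := by
  obtain ⟨a, ha, rfl⟩ := hh
  obtain ⟨b, hb, rfl⟩ := hx
  rw [← map_mul, ← map_mul] at hc
  rw [Hs_free ha (fun e => h1 (by rw [e, map_one])) hb (c.inj hc), map_one]

/-- `H` acts irreducibly on `U` -/
theorem eq_U_of_invariant {V : Subgroup G} (hV : V ≤ c.U)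
    (hH : ∀ h ∈ c.H, ∀ v ∈ V, h * v * h⁻¹ ∈ V) {v : G} (hv : v ∈ V) (hv1 : v ≠ 1) : V = c.U := by
  refine le_antisymm hV ?_
  obtain ⟨_, ⟨s, rfl⟩, rfl⟩ := hV hv
  have hs : s ≠ 0 := fun h => hv1 (by rw [h, u_zero, map_one])
  rintro _ ⟨_, ⟨x, rfl⟩, rfl⟩
  have hsq : ∀ a : F, c.ι (u (a ^ 2 * s)) ∈ V := by
    intro a
    by_cases ha : a = 0
    · rw [ha, show (0 : F) ^ 2 * s = 0 by ring, u_zero, map_one]; exact one_mem _
    · have := hH (c.ι (PSLF.mk (dS (Units.mk0 a ha)))) (mem_map_of_mem _ ⟨_, rfl⟩) _ hv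
      rwa [← map_inv, ← map_mul, ← map_mul, conj_u] at this
  obtain ⟨a, b, hab⟩ : ∃ a b : F, a ^ 2 + b ^ 2 = x / s := by
    obtain ⟨a, b, h⟩ := FiniteField.exists_root_sum_quadratic
      (f := (Polynomial.X ^ 2 : Polynomial F)) (g := Polynomial.X ^ 2 - Polynomial.C (x / s))
      (Polynomial.degree_X_pow 2) (by compute_degree!) (by have := c.hq; omega)
    exact ⟨a, b, by simp at h; linear_combination h⟩
  have e : x = a ^ 2 * s + b ^ 2 * s := by rw [← add_mul, hab, div_mul_cancel₀ _ hs]
  rw [e, ← u_mul, map_mul]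
  exact V.mul_mem (hsq a) (hsq b)

/-- a subgroup of `C(t)` containing `U` and a non-Borel element of `K` contains `K` -/
theorem K_le_of_mem {L : Subgroup G} (hU : c.U ≤ L) {k : P2 F} (hk : c.ι k ∈ L) (hkB : k ∉ Bs F) :
    c.K ≤ L := by
  have htop := closure_Us (L := L.comap c.ι) (fun a ha => hU (mem_map_of_mem _ ha)) hk hkB
  rintro _ ⟨a, rfl⟩
  exact show a ∈ L.comap c.ι from htop ▸ mem_top a

theorem ww_not_mem_Bs : ww F ∉ Bs F := by
  rintro ⟨y, hy, h0⟩
  rcases mk_eq_mk.1 hy with e | e <;>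
  · have := congrArg (fun z : CfsgLib.PLocal.SLTwo.S2 F => z.1 1 0) e
    simp [h0] at this

variable [Finite G]

/-- no hyperplane of `U` is invariant under a nontrivial torus element -/
theorem not_invariant_hyperplane {h : G} (hh : h ∈ c.H) (h1 : h ≠ 1) {V : Subgroup G}
    (hV : V ≤ c.U) (hcard : Nat.card V * 3 = Fintype.card F)
    (hinv : ∀ v ∈ V, h * v * h⁻¹ ∈ V) : False := by
  classical
  obtain ⟨r, hr, hrd⟩ := Nat.exists_prime_and_dvd (show orderOf h ≠ 1 from
    fun e => h1 (orderOf_eq_one_iff.1 e))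
  haveI := Fact.mk hr
  set g := h ^ (orderOf h / r) with hg
  have hgo : orderOf g = r := orderOf_pow_orderOf_div (orderOf_pos h).ne' hrd
  have hgH : g ∈ c.H := c.H.pow_mem hh _
  have hg1 : g ≠ 1 := fun e => hr.ne_one (by rw [← hgo, e, orderOf_one])
  have main : ∀ X : Subgroup G, X ≤ c.U → (∀ v ∈ X, g * v * g⁻¹ ∈ X) → Nat.card X ≡ 1 [MOD r] := by
    intro X hX hXi
    haveI : Fintype X := Fintype.ofFinite _
    let f : Function.End X := fun v => ⟨g * v * g⁻¹, hXi v v.2⟩
    have hit : ∀ (n : ℕ) (v : X), ((f^[n] v : X) : G) = g ^ n * v * (g ^ n)⁻¹ := by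
      intro n
      induction n with
      | zero => intro v; rw [Function.iterate_zero_apply, pow_zero]; group
      | succ n ih =>
        intro v
        rw [Function.iterate_succ', Function.comp_apply]
        show g * ((f^[n] v : X) : G) * g⁻¹ = _
        rw [ih, pow_succ']
        group
    have hf : f ^ r ^ 1 = 1 := by
      funext v
      have e : (f ^ r ^ 1) v = f^[r] v := by
        rw [pow_one]
        exact congrFun (hom_coe_pow (fun k : Function.End X => k) rfl (fun _ _ => rfl) f r) v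
      rw [e]
      refine Subtype.ext ?_
      rw [hit, ← hgo, pow_orderOf_eq_one]
      simp
      rfl
    have hfix : Fintype.card (Function.fixedPoints f) = 1 := by
      rw [Fintype.card_eq_one_iff]
      refine ⟨⟨1, Subtype.ext (show g * 1 * g⁻¹ = 1 by group)⟩, fun v => Subtype.ext (Subtype.ext ?_)⟩
      exact c.H_free_U hgH hg1 (hX v.1.2)
        (mul_inv_eq_iff_eq_mul.1 (congrArg Subtype.val v.2))
    have := Equiv.Perm.card_fixedPoints_modEq (p := r) (n := 1) hf
    rwa [hfix, ← Nat.card_eq_fintype_card] at this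
  have hgi : ∀ n : ℕ, ∀ v ∈ V, h ^ n * v * (h ^ n)⁻¹ ∈ V := by
    intro n
    induction n with
    | zero => simp
    | succ n ih =>
      intro v hv
      rw [show h ^ (n + 1) * v * (h ^ (n + 1))⁻¹ = h * (h ^ n * v * (h ^ n)⁻¹) * h⁻¹ by
        rw [pow_succ']; group]
      exact hinv _ (ih v hv)
  have e1 := main V hV (hgi _)
  have e2 := main c.U le_rfl fun v hv => c.H_normalizes_U hgH hv
  rw [c.card_U, ← hcard] at e2
  have e3 : 1 * 3 ≡ 1 [MOD r] := (e1.mul_right 3).symm.trans e2
  have e4 : r ∣ 3 - 1 := (Nat.modEq_iff_dvd' (by norm_num)).1 e3.symm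
  have hr2 : r = 2 := (Nat.prime_dvd_prime_iff_eq hr Nat.prime_two).1 e4
  have hodd : Odd (Nat.card c.H) := by rw [c.card_H_eq]; exact odd_card_Hs c.hq
  have := hodd.of_dvd_nat (c.H.orderOf_dvd_natCard hgH)
  rw [hgo, hr2] at this
  exact absurd this (by decide)

/-- the centraliser in `W` of a subgroup -/
def comp (B : Subgroup G) : Subgroup G := c.W ⊓ centralizer (B : Set G)

/-- either some hyperplane has a component not centralised by `U`, or `U` centralises `W` -/
theorem exists_component (hno : NoReal G) {V : Subgroup G} (hV : V ≤ c.W)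
    (hVn : c.U ≤ normalizer (V : Set G)) (hne : ¬ V ≤ centralizer (c.U : Set G)) :
    ∃ B : Subgroup G, B ≤ c.U ∧ Nat.card B * 3 = Fintype.card F ∧
      ¬ V ⊓ centralizer (B : Set G) ≤ centralizer (c.U : Set G) := by
  classical
  haveI : Fact (Nat.Prime 3) := ⟨Nat.prime_three⟩
  by_contra hall
  push Not at hall
  refine hne (le_trans (le_inf le_rfl (fun x _ => mem_centralizer_iff.2 fun b hb => ?_) :
    V ≤ V ⊓ centralizer ((⊥ : Subgroup G) : Set G)) ?_)
  · rw [mem_bot.1 hb, one_mul, mul_one]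
  obtain ⟨m, hm⟩ := IsPGroup.iff_card.1 (c.U_isPGroup (G := G))
  have key : ∀ k, ∀ B : Subgroup G, B ≤ c.U → Fintype.card F - Nat.card B ≤ k →
      V ⊓ centralizer (B : Set G) ≤ centralizer (c.U : Set G) := by
    intro k
    induction k with
    | zero =>
      intro B hB hk
      have : B = c.U := eq_of_le_of_card_ge hB (by rw [c.card_U]; omega)
      rw [this]; exact inf_le_right
    | succ k ih =>
      intro B hB hk
      by_cases hBU : B = c.U
      · rw [hBU]; exact inf_le_right
      obtain ⟨n, hn⟩ := IsPGroup.iff_card.1 ((c.U_isPGroup (G := G)).to_le hB)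
      by_cases hhyp : Nat.card B * 3 = Fintype.card F
      · exact hall B hB hhyp
      obtain ⟨a, ha, haB⟩ : ∃ a ∈ c.U, a ∉ B := by
        by_contra h; push Not at h; exact hBU (le_antisymm hB h)
      have hBn : zpowers a ≤ normalizer (B : Set G) := by
        rw [zpowers_le]
        exact Subgroup.centralizer_le_normalizer _
          (mem_centralizer_iff.2 fun x hx => c.U_comm (hB hx) ha)
      obtain ⟨b, hb, hbB⟩ : ∃ b ∈ c.U, b ∉ B ⊔ zpowers a := by
        by_contra h
        push Not at h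
        have hsub : (c.U : Set G) ⊆
            (fun p : G × G => p.1 * p.2) '' ((B : Set G) ×ˢ (zpowers a : Set G)) := by
          intro g hg
          obtain ⟨p, hp, q, hq, rfl⟩ := (Core.mem_sup_iff_mul' hBn).1 (sup_comm B _ ▸ h g hg)
          exact ⟨(p, q), ⟨hp, hq⟩, rfl⟩
        have h3 := (Set.ncard_le_ncard hsub).trans (Set.ncard_image_le (Set.toFinite _))
        rw [Set.ncard_prod, ← Nat.card_coe_set_eq, ← Nat.card_coe_set_eq, ← Nat.card_coe_set_eq] at h3
        simp only [SetLike.coe_sort_coe] at h3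
        have hd : Nat.card B ∣ Fintype.card F := c.card_U ▸ card_dvd_of_le hB
        rw [c.card_U, Nat.card_zpowers, c.orderOf_U ha (fun h => haB (h ▸ one_mem _))] at h3
        rw [← c.card_U, hm, hn, Nat.pow_dvd_pow_iff_le_right (by norm_num)] at hd
        rw [← c.card_U, hm, hn] at h3 hhyp
        rw [← pow_succ] at h3 hhyp
        have h5 : m ≤ n + 1 := (Nat.pow_le_pow_iff_right (by norm_num)).1 h3
        rcases Nat.lt_or_ge n m with h6 | h6
        · exact hhyp (by rw [show n + 1 = m by omega])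
        · exact hBU (eq_of_le_of_card_ge hB (by rw [hm, hn]; exact Nat.pow_le_pow_right (by norm_num) h6))
      haveI := c.span_isMulCommutative ha hb
      have hle : zpowers a ⊔ zpowers b ≤ c.U := sup_le (zpowers_le.2 ha) (zpowers_le.2 hb)
      have hba : b ∉ zpowers a := fun h => hbB (mem_sup_right h)
      refine LocalEven.le_of_centralizers_le (A := zpowers a ⊔ zpowers b) (p := 3)
        (fun e he => c.U_cube (hle he)) (c.nine_le_card_span ha (fun h => haB (h ▸ one_mem _)) hb hba)
        ?_ (fun hd => (c.W_card hno).2 (hd.trans (card_dvd_of_le (inf_le_left.trans hV)))) ?_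
      · refine hle.trans fun v hv => ?_
        have key : ∀ v ∈ c.U, ∀ x ∈ V ⊓ centralizer (B : Set G), v * x * v⁻¹ ∈ V ⊓ centralizer (B : Set G) := by
          intro v hv x hx
          refine ⟨(mem_normalizer_iff.1 (hVn hv) x).1 hx.1,
            mem_centralizer_iff.2 fun y hy => ?_⟩
          have h1 : Commute y v := c.U_comm (hB hy) hv
          have h2 : Commute y x := mem_centralizer_iff.1 hx.2 y hy
          exact ((h1.mul_right h2).mul_right h1.inv_right)
        refine mem_normalizer_iff.2 fun x => ⟨key v hv x, fun hx => ?_⟩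
        simpa [mul_assoc] using key v⁻¹ (c.U.inv_mem hv) _ hx
      · intro e he he1 x hx
        have heB : e ∉ B := by
          intro heB
          have hnb : zpowers b ≤ normalizer ((zpowers a : Subgroup G) : Set G) := by
            rw [zpowers_le]
            refine Subgroup.centralizer_le_normalizer _ (mem_centralizer_iff.2 ?_)
            rintro _ ⟨i, rfl⟩
            exact c.U_comm (c.U.zpow_mem ha i) hb
          obtain ⟨p, hp, q, hq, rfl⟩ :=
            (Core.mem_sup_iff_mul' hnb).1 (sup_comm (zpowers a) (zpowers b) ▸ he)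
          by_cases hq1 : q = 1
          · subst hq1
            rw [mul_one] at heB he1
            have : zpowers p = zpowers a := eq_of_le_of_card_ge (zpowers_le.2 hp) (by
              rw [Nat.card_zpowers, Nat.card_zpowers, c.orderOf_U ha (fun h => haB (h ▸ one_mem _)),
                c.orderOf_U (zpowers_le.2 ha hp) he1])
            exact haB (zpowers_le.2 heB (this ▸ mem_zpowers a))
          · have : zpowers q = zpowers b := eq_of_le_of_card_ge (zpowers_le.2 hq) (by
              rw [Nat.card_zpowers, Nat.card_zpowers,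
                c.orderOf_U hb (fun h => hbB (h ▸ one_mem _)),
                c.orderOf_U (zpowers_le.2 hb hq) hq1])
            refine hbB (zpowers_le.2 ?_ (this ▸ mem_zpowers b))
            have := (B ⊔ zpowers a).mul_mem (inv_mem (mem_sup_right hp)) (mem_sup_left heB)
            rwa [inv_mul_cancel_left] at this
        refine ih (B ⊔ zpowers e) (sup_le hB (zpowers_le.2 (hle he))) ?_ ⟨hx.1.1, ?_⟩
        · have : Nat.card B < Nat.card (B ⊔ zpowers e : Subgroup G) := by
            refine lt_of_le_of_ne (card_le_of_le le_sup_left) fun h => heB ?_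
            rw [eq_of_le_of_card_ge le_sup_left h.ge]
            exact mem_sup_right (mem_zpowers e)
          omega
        · refine mem_centralizer_iff.2 fun y hy => ?_
          have hsup : B ⊔ zpowers e ≤ centralizer ({x} : Set G) := sup_le
            (fun z hz => mem_centralizer_singleton_iff.2 (mem_centralizer_iff.1 hx.1.2 z hz))
            (zpowers_le.2 (mem_centralizer_singleton_iff.2
              (mem_centralizer_singleton_iff.1 hx.2).symm))
          exact mem_centralizer_singleton_iff.1 (hsup hy)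
  exact key _ ⊥ bot_le le_rfl

/-- an element centralised by a hyperplane whose translate by `u` differs by an element centralised by `U` -/
theorem mem_centralizer_U_of_diff (hno : NoReal G) {B : Subgroup G} (hB : B ≤ c.U)
    (hcard : Nat.card B * 3 = Fintype.card F) {u y : G} (hu : u ∈ c.U) (huB : u ∉ B)
    (hy : y ∈ c.comp B) (hd : u * y * u⁻¹ * y⁻¹ ∈ centralizer (c.U : Set G)) :
    y ∈ centralizer (c.U : Set G) := by
  haveI : Fact (Nat.Prime 3) := ⟨Nat.prime_three⟩
  set z := u * y * u⁻¹ * y⁻¹ with hz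
  have hzW : z ∈ c.W := c.W.mul_mem ((mem_normalizer_iff.1 (c.U_le_normalizer_W hu) y).1 hy.1)
    (c.W.inv_mem hy.1)
  have hzu : u * z * u⁻¹ = z := commute_iff_conj.1 (mem_centralizer_iff.1 hd u hu)
  have hyz : y * z = z * y := c.W_comm hno hy.1 hzW
  have e1 : u * y * u⁻¹ = z * y := by rw [hz]; group
  clear_value z
  have e2 : u ^ 2 * y * (u ^ 2)⁻¹ = z * z * y := by
    rw [pow_two, show u * u * y * (u * u)⁻¹ = u * (u * y * u⁻¹) * u⁻¹ by group, e1,
      show u * (z * y) * u⁻¹ = (u * z * u⁻¹) * (u * y * u⁻¹) by group, hzu, e1, mul_assoc]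
  have e3 : u ^ 3 * y * (u ^ 3)⁻¹ = z * z * z * y := by
    rw [pow_succ', show u * u ^ 2 * y * (u * u ^ 2)⁻¹ = u * (u ^ 2 * y * (u ^ 2)⁻¹) * u⁻¹ by group, e2,
      show u * (z * z * y) * u⁻¹ = (u * z * u⁻¹) * (u * z * u⁻¹) * (u * y * u⁻¹) by group, hzu, e1,
      ← mul_assoc]
  rw [c.U_cube hu, one_mul, inv_one, mul_one] at e3
  have hz3 : z ^ 3 = 1 := by
    rw [pow_succ, pow_two]
    exact mul_right_cancel (b := y) (by rw [one_mul]; exact e3.symm)
  have hz1 : z = 1 := by
    rcases (Nat.dvd_prime Nat.prime_three).1 (orderOf_dvd_of_pow_eq_one hz3) with e | e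
    · exact orderOf_eq_one_iff.1 e
    · exact absurd (by rw [e]) (c.W_props hno hzW).2.2
  have huy : u ∈ centralizer ({y} : Set G) :=
    mem_centralizer_singleton_iff.2 (mul_inv_eq_iff_eq_mul.1 (by rw [e1, hz1, one_mul]))
  have hsup : B ⊔ zpowers u ≤ centralizer ({y} : Set G) :=
    sup_le (fun b hb => mem_centralizer_singleton_iff.2 (mem_centralizer_iff.1 hy.2 b hb))
      (zpowers_le.2 huy)
  have heq : B ⊔ zpowers u = c.U := by
    refine eq_of_le_of_card_ge (sup_le hB (zpowers_le.2 hu)) ?_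
    have h1 : Nat.card B < Nat.card (B ⊔ zpowers u : Subgroup G) := by
      refine lt_of_le_of_ne (card_le_of_le le_sup_left) fun h => huB ?_
      rw [eq_of_le_of_card_ge le_sup_left h.ge]
      exact mem_sup_right (mem_zpowers u)
    obtain ⟨i, hi⟩ := IsPGroup.iff_card.1 ((c.U_isPGroup (G := G)).to_le hB)
    obtain ⟨j, hj⟩ := IsPGroup.iff_card.1
      ((c.U_isPGroup (G := G)).to_le (sup_le hB (zpowers_le.2 hu)))
    rw [c.card_U, ← hcard, hi, hj, ← pow_succ]
    rw [hi, hj] at h1
    exact Nat.pow_le_pow_right (by norm_num) ((Nat.pow_lt_pow_iff_right (by norm_num)).1 h1)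
  exact mem_centralizer_iff.2 fun v hv => mem_centralizer_singleton_iff.1 (hsup (heq ▸ hv))

/-- independence of components -/
theorem indep (hno : NoReal G) {ι' : Type*} (B : ι' → Subgroup G) (hB : ∀ i, B i ≤ c.U)
    (hcard : ∀ i, Nat.card (B i) * 3 = Fintype.card F) (hinj : Function.Injective B) :
    ∀ (S : Finset ι') (j : ι'), j ∉ S → ∀ y ∈ c.comp (B j), ∀ x : ι' → c.W,
      (∀ i ∈ S, (x i : G) ∈ c.comp (B i)) →
      letI : CommGroup c.W := { (inferInstance : Group c.W) with
        mul_comm := fun a b => Subtype.ext (c.W_comm hno a.2 b.2) }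
      y * ((∏ i ∈ S, x i : c.W) : G) ∈ centralizer (c.U : Set G) →
      y ∈ centralizer (c.U : Set G) := by
  classical
  letI : CommGroup c.W := { (inferInstance : Group c.W) with
    mul_comm := fun a b => Subtype.ext (c.W_comm hno a.2 b.2) }
  intro S
  induction S using Finset.induction with
  | empty => intro j _ y _ x _ h; simpa using h
  | @insert i S hi ih =>
    intro j hj y hy x hx h
    rw [Finset.mem_insert, not_or] at hj
    obtain ⟨u, hu, huj⟩ : ∃ u ∈ B i, u ∉ B j := by
      by_contra hcon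
      push Not at hcon
      have := hcard i
      have := hcard j
      exact hj.1 (hinj (eq_of_le_of_card_ge hcon (by omega))).symm
    have hnW : u ∈ normalizer (c.W : Set G) := c.U_le_normalizer_W (hB i hu)
    let d : c.W →* c.W :=
      { toFun := fun a => ⟨u * a * u⁻¹ * (a : G)⁻¹,
          c.W.mul_mem ((mem_normalizer_iff.1 hnW a).1 a.2) (c.W.inv_mem a.2)⟩
        map_one' := Subtype.ext (by simp)
        map_mul' := fun a b => Subtype.ext (by
          show u * ((a : G) * b) * u⁻¹ * ((a : G) * b)⁻¹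
            = u * a * u⁻¹ * (a : G)⁻¹ * (u * b * u⁻¹ * (b : G)⁻¹)
          have hc : (u * (b : G) * u⁻¹ * (b : G)⁻¹) * (a : G)⁻¹
              = (a : G)⁻¹ * (u * b * u⁻¹ * (b : G)⁻¹) :=
            c.W_comm hno (c.W.mul_mem ((mem_normalizer_iff.1 hnW b).1 b.2) (c.W.inv_mem b.2))
              (c.W.inv_mem a.2)
          rw [mul_assoc (u * a * u⁻¹), ← hc]
          group) }
    have hdc : ∀ (k : ι') (a : c.W), (a : G) ∈ c.comp (B k) → (d a : G) ∈ c.comp (B k) := by
      intro k a ha
      refine ⟨(d a).2, mem_centralizer_iff.2 fun b hb => ?_⟩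
      have h1 : Commute b u := c.U_comm (hB k hb) (hB i hu)
      have h2 : Commute b a := mem_centralizer_iff.1 ha.2 b hb
      exact (((h1.mul_right h2).mul_right h1.inv_right).mul_right h2.inv_right)
    have hdU : ∀ a : c.W, (a : G) ∈ centralizer (c.U : Set G) → d a = 1 := by
      intro a ha
      refine Subtype.ext ?_
      show u * (a : G) * u⁻¹ * (a : G)⁻¹ = 1
      rw [mem_centralizer_iff.1 ha u (hB i hu)]; group
    have hdi : d (x i) = 1 := by
      refine Subtype.ext ?_
      show u * (x i : G) * u⁻¹ * (x i : G)⁻¹ = 1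
      rw [mem_centralizer_iff.1 (hx i (Finset.mem_insert_self _ _)).2 u hu]; group
    refine c.mem_centralizer_U_of_diff hno (hB j) (hcard j) (hB i hu) huj hy ?_
    refine ih j hj.2 (d ⟨y, hy.1⟩ : G) (hdc j ⟨y, hy.1⟩ hy) (fun k => d (x k))
      (fun k hk => hdc k _ (hx k (Finset.mem_insert_of_mem hk))) ?_
    have e := hdU (⟨y, hy.1⟩ * ∏ k ∈ insert i S, x k) h
    rw [map_mul, map_prod, Finset.prod_insert hi, hdi, one_mul] at e
    have e' : (d ⟨y, hy.1⟩ : G) * ((∏ k ∈ S, d (x k) : c.W) : G) = 1 := congrArg Subtype.val e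
    rw [e']
    exact one_mem _

/-- the lower bound for `W` -/
theorem five_pow_le_card_W (hno : NoReal G) (hne : ¬ c.W ≤ centralizer (c.U : Set G)) :
    5 ^ Nat.card c.H ≤ Nat.card c.W := by
  classical
  obtain ⟨B0, hB0, hc0, hB0c⟩ := c.exists_component hno le_rfl c.U_le_normalizer_W hne
  haveI : Fintype c.H := Fintype.ofFinite _
  let B : c.H → Subgroup G := fun h => B0.map (MulAut.conj (h : G)).toMonoidHom
  have hmemB : ∀ (h : c.H) (x : G), x ∈ B h ↔ (h : G)⁻¹ * x * h ∈ B0 := by
    intro h x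
    show x ∈ B0.map _ ↔ _
    rw [mem_map_equiv, MulAut.conj_symm_apply]
  have hB : ∀ h, B h ≤ c.U := by
    rintro h _ ⟨b, hb, rfl⟩
    exact c.H_normalizes_U h.2 (hB0 hb)
  have hcard : ∀ h, Nat.card (B h) * 3 = Fintype.card F := fun h => by
    rw [card_map_of_injective (MulAut.conj (h : G)).injective]; exact hc0
  have hinj : Function.Injective B := by
    intro h h' e
    by_contra hne'
    refine c.not_invariant_hyperplane (h := (h' : G)⁻¹ * h) (c.H.mul_mem (c.H.inv_mem h'.2) h.2)
      (fun e' => hne' (Subtype.ext (inv_mul_eq_one.1 e').symm)) hB0 hc0 fun v hv => ?_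
    have : (h : G) * v * (h : G)⁻¹ ∈ B h' := e ▸ mem_map_of_mem _ hv
    have := (hmemB h' _).1 this
    rwa [show (h' : G)⁻¹ * h * v * ((h' : G)⁻¹ * h)⁻¹ = (h' : G)⁻¹ * (h * v * (h : G)⁻¹) * h' by group]
  letI : CommGroup c.W := { (inferInstance : Group c.W) with
    mul_comm := fun a b => Subtype.ext (c.W_comm hno a.2 b.2) }
  let C : c.H → Subgroup c.W := fun h => (c.comp (B h)).subgroupOf c.W
  let C0 : Subgroup c.W := (c.comp c.U).subgroupOf c.W
  let Φ : ((h : c.H) → C h) →* c.W :=
    { toFun := fun f => ∏ h, (f h : c.W)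
      map_one' := by simp
      map_mul' := fun f g => by simp [Finset.prod_mul_distrib] }
  have hker : ∀ f ∈ Φ.ker, ∀ j, ((f j : c.W) : G) ∈ centralizer (c.U : Set G) := by
    intro f hf j
    refine c.indep hno B hB hcard hinj (Finset.univ.erase j) j (Finset.notMem_erase _ _) _
      (mem_subgroupOf.1 (f j).2) (fun h => (f h : c.W)) (fun h _ => mem_subgroupOf.1 (f h).2) ?_
    have e : ((f j : c.W) * ∏ h ∈ Finset.univ.erase j, (f h : c.W)) = 1 := by
      exact (Finset.mul_prod_erase _ (fun h => (f h : c.W)) (Finset.mem_univ j)).trans hf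
    have e' := congrArg Subtype.val e
    rw [Subgroup.coe_mul] at e'
    rw [e']
    exact one_mem _
  have h5 : ∀ h, 5 * Nat.card C0 ≤ Nat.card (C h) := by
    intro h
    have hle : C0 ≤ C h := fun x hx => mem_subgroupOf.2 ⟨x.2, mem_centralizer_iff.2 fun b hb =>
      mem_centralizer_iff.1 (mem_subgroupOf.1 hx).2 b (hB h hb)⟩
    obtain ⟨k, hk⟩ := card_dvd_of_le hle
    rw [hk, mul_comm]
    refine Nat.mul_le_mul_left _ ?_
    have hkd : k ∣ Nat.card c.W := (Dvd.intro_left _ hk.symm).trans (Subgroup.card_subgroup_dvd_card _)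
    have hodd := (c.W_card hno).1.of_dvd_nat hkd
    have hk3 : k ≠ 3 := fun e => (c.W_card hno).2 (e ▸ hkd)
    have hk1 : k ≠ 1 := by
      intro e
      have heq : C0 = C h := eq_of_le_of_card_ge hle (by rw [hk, e, mul_one])
      refine hB0c fun x hx => ?_
      have hxh : (h : G) * x * (h : G)⁻¹ ∈ c.comp (B h) := by
        refine ⟨(mem_normalizer_iff.1 (c.normalizer_U_le_normalizer_W (c.H_le_normalizer_U h.2)) x).1
          hx.1, mem_centralizer_iff.2 ?_⟩
        rintro _ ⟨b, hb, rfl⟩
        have := mem_centralizer_iff.1 hx.2 b hb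
        show (h : G) * b * (h : G)⁻¹ * (h * x * (h : G)⁻¹) = h * x * (h : G)⁻¹ * (h * b * (h : G)⁻¹)
        calc (h : G) * b * (h : G)⁻¹ * (h * x * (h : G)⁻¹) = h * (b * x) * (h : G)⁻¹ := by group
          _ = h * (x * b) * (h : G)⁻¹ := by rw [this]
          _ = _ := by group
      have hc : ((⟨_, hxh.1⟩ : c.W) : G) ∈ c.comp c.U :=
        mem_subgroupOf.1 (show (⟨_, hxh.1⟩ : c.W) ∈ C0 from heq ▸ mem_subgroupOf.2 hxh)
      refine mem_centralizer_iff.2 fun v hv => ?_
      have := mem_centralizer_iff.1 hc.2 _ (c.H_normalizes_U h.2 hv)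
      calc v * x = (h : G)⁻¹ * (h * v * (h : G)⁻¹ * (h * x * (h : G)⁻¹)) * h := by group
        _ = (h : G)⁻¹ * (h * x * (h : G)⁻¹ * (h * v * (h : G)⁻¹)) * h := by rw [this]
        _ = _ := by group
    obtain ⟨l, rfl⟩ := hodd
    omega
  have h1 : (∏ h, Nat.card (C h)) ≤ Nat.card c.W * Nat.card C0 ^ Nat.card c.H := by
    rw [← Nat.card_pi, ← Φ.ker.card_mul_index, mul_comm, index_ker]
    refine Nat.mul_le_mul (Nat.card_le_card_of_injective _ Subtype.val_injective) ?_
    refine (Nat.card_le_card_of_injective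
      (fun f : Φ.ker => fun j : c.H => (⟨((f.1 j : C j) : c.W),
        mem_subgroupOf.2 ⟨(f.1 j).1.2, hker f.1 f.2 j⟩⟩ : C0)) ?_).trans ?_
    · intro f g e
      exact Subtype.ext (funext fun j => Subtype.ext (congrArg Subtype.val (congrFun e j) :))
    · rw [Nat.card_fun]
  have h2 : (5 * Nat.card C0) ^ Nat.card c.H ≤ ∏ h, Nat.card (C h) := by
    rw [Nat.card_eq_fintype_card (α := c.H), ← Finset.card_univ, ← Finset.prod_const]
    exact Finset.prod_le_prod' fun h _ => h5 h
  rw [mul_pow] at h2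
  exact Nat.le_of_mul_le_mul_right (h2.trans h1) (pow_pos Nat.card_pos _)

end Ctx

end CfsgLib.LocalEven.GoldS
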