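import Cfsg.Agent.Lib.LocalEven.GoldS.Local
import Cfsg.Agent.Lib.LocalEven.GoldS.AbChar
import Cfsg.Agent.Lib.Char.Virtual

/-!
Owner: helper24. Groups of Ree type without real elements of order three: exceptional characters of the
set of elements `r u`, `r ∈ W`, `1 ≠ u ∈ U`.
-/

set_option autoImplicit false
set_option linter.all false

open scoped ComplexConjugate

namespace CfsgLib.LocalEven.GoldS

open Subgroup PSLF CfsgLib.Char

namespace Ctx

variable {G : Type*} [Group G] [Fintype G] {F : Type*} [Field F] [Fintype F] [CharP F 3] (c : Ctx G F)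

/-- families of irreducible characters agreeing on `t` times odd elements vanish on `t` -/
def FamilyVanish : Prop :=
  ∀ S : Finset (Cfsg.IrrCharacter G), 5 ≤ S.card →
    (∀ χ ∈ S, ∀ χ' ∈ S, ∀ k : P2 F, Odd (orderOf k) →
      (χ : G → ℂ) (c.t * c.ι k) = (χ' : G → ℂ) (c.t * c.ι k)) →
    ∀ χ ∈ S, (χ : G → ℂ) c.t = 0

theorem le_A_left : c.W ≤ c.A := le_sup_left

theorem le_A_right : c.U ≤ c.A := le_sup_right

theorem A_conj_mem {g x : G} (hg : g ∈ normalizer (c.U : Set G)) (hx : x ∈ c.A) : g * x * g⁻¹ ∈ c.A := by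
  obtain ⟨r, hr, v, hv, rfl⟩ := c.mem_A.1 hx
  rw [show g * (r * v) * g⁻¹ = (g * r * g⁻¹) * (g * v * g⁻¹) by group]
  exact mul_mem (mem_sup_left (c.W_conj_mem hg hr)) (mem_sup_right ((mem_normalizer_iff.1 hg v).1 hv))

theorem A_odd_order (hno : NoReal G) {x : G} (hx : x ∈ c.A) : Odd (orderOf x) := by
  obtain ⟨r, hr, v, hv, rfl⟩ := c.mem_A.1 hx
  exact ((c.W_odd hno hr).mul (c.U_odd.of_dvd_nat (c.U.orderOf_dvd_natCard hv))).of_dvd_nat
    (show Commute r v from c.W_U_comm hno hr hv).orderOf_mul_dvd_mul_orderOf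

theorem conj_A_not_eq_t_mul (hno : NoReal G) {x : G} (hx : x ∈ c.A) (g : G) {k : P2 F}
    (hk : Odd (orderOf k)) : g * x * g⁻¹ ≠ c.t * c.ι k := by
  intro e
  have ho : Odd (orderOf (c.t * c.ι k)) := by
    rw [← e, show orderOf (g * x * g⁻¹) = orderOf x from (MulAut.conj g).orderOf_eq x]
    exact c.A_odd_order hno hx
  obtain ⟨l, hl⟩ := c.mem_K_of_odd (c.Ct.mul_mem c.t_mem_Ct (c.ι_mem_Ct k)) ho
  exact c.ι_ne _ _ hl

/-- characters not vanishing at `t` are constant on the cosets `uW` -/
theorem W_const (hno : NoReal G) (hfam : c.FamilyVanish) (χ : Cfsg.IrrCharacter G)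
    (hχt : (χ : G → ℂ) c.t ≠ 0) {r u : G} (hr : r ∈ c.W) (hu : u ∈ c.U) (hu1 : u ≠ 1) :
    (χ : G → ℂ) (r * u) = (χ : G → ℂ) u := by
  classical
  haveI : Fintype c.A := Fintype.ofFinite _
  haveI : Fintype (c.A →* ℂˣ) := Fintype.ofFinite _
  haveI : Fintype (Cfsg.IrrCharacter G) := Fintype.ofFinite _
  have hAc : ∀ a b : c.A, a * b = b * a := fun a b => Subtype.ext (c.A_comm hno a.2 b.2)
  obtain ⟨n, hn⟩ := c.exists_exponent hno
  -- the projection onto `U`
  let π : c.A →* c.U :=
    { toFun := fun x => ⟨(x : G) ^ n, by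
        obtain ⟨r, hr, v, hv, e⟩ := c.mem_A.1 x.2
        rw [e, hn r hr v hv]; exact hv⟩
      map_one' := Subtype.ext (one_pow _)
      map_mul' := fun a b => Subtype.ext ((show Commute (a : G) b from c.A_comm hno a.2 b.2).mul_pow n) }
  have hπW : ∀ x : c.A, (x : G) ∈ c.W → π x = 1 := fun x hx => Subtype.ext (by
    show (x : G) ^ n = 1
    have := hn x hx 1 (one_mem _)
    rwa [mul_one] at this)
  have hπ1 : ∀ x : c.A, π x = 1 → (x : G) ∈ c.W := by
    intro x hx
    obtain ⟨r, hr, v, hv, e⟩ := c.mem_A.1 x.2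
    have h1 : v = 1 := by
      have : (x : G) ^ n = 1 := congrArg Subtype.val hx
      rwa [e, hn r hr v hv] at this
    rw [e, h1, mul_one]; exact hr
  have hπU : ∀ v : c.U, π ⟨v, c.le_A_right v.2⟩ = v := fun v => Subtype.ext (by
    show (v : G) ^ n = v
    have := hn 1 (one_mem _) v v.2
    rwa [one_mul] at this)
  letI hUc : CommGroup c.U := { (inferInstance : Group c.U) with
    mul_comm := fun a b => Subtype.ext (c.U_comm a.2 b.2) }
  -- characters trivial on `W`
  let Triv : (c.A →* ℂˣ) → Prop := fun μ => ∀ x : c.A, (x : G) ∈ c.W → μ x = 1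
  let NT : (c.A →* ℂˣ) → Prop := fun l => ∃ x : c.A, (x : G) ∈ c.W ∧ l x ≠ 1
  let m : (c.A →* ℂˣ) → ℂ :=
    fun l => Cfsg.classInner (fun a : c.A => (χ : G → ℂ) a) (fun a => (l a : ℂ))
  -- the key step
  have key : ∀ l, NT l → ∀ μ, Triv μ → m (μ * l) = m l := by
    intro l hl μ0 hμ0
    by_contra hne
    refine hχt ?_
    let ι' := {μ : c.A →* ℂˣ // Triv μ ∧ μ ≠ 1}
    let f : ι' → c.A → ℂ := fun μ a => ((μ.1 * l) a : ℂ) - (l a : ℂ)
    let θ : ι' → G → ℂ := fun μ => Cfsg.indFun c.A (f μ)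
    have hfW : ∀ μ (a : c.A), (a : G) ∈ c.W → f μ a = 0 := by
      intro μ a ha
      show ((μ.1 a * l a : ℂˣ) : ℂ) - (l a : ℂ) = 0
      rw [μ.2.1 a ha, one_mul, sub_self]
    have hgen : ∀ μ, Cfsg.IsGeneralizedCharacter G (θ μ) := by
      intro μ
      refine IsGen.indFun ?_
      exact IsGen.sub (IsGen.of_irr (AbChar.linIrr (μ.1 * l)).2) (IsGen.of_irr (AbChar.linIrr l).2)
    have hres : ∀ μ (a : c.A), θ μ a = (Nat.card c.A : ℂ)⁻¹ *
        ∑ g ∈ Finset.univ.filter (fun g : G => g ∈ normalizer (c.U : Set G)),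
          Cfsg.extendByZero c.A (f μ) (g⁻¹ * a * g) := by
      intro μ a
      show (Nat.card c.A : ℂ)⁻¹ * ∑ g : G, Cfsg.extendByZero c.A (f μ) (g⁻¹ * a * g) = _
      congr 1
      rw [Finset.sum_filter]
      refine Finset.sum_congr rfl fun g _ => ?_
      by_cases hg : g ∈ normalizer (c.U : Set G)
      · rw [if_pos hg]
      rw [if_neg hg]
      by_cases hA : g⁻¹ * a * g ∈ c.A
      · rw [extendByZero_of_mem c.A _ hA]
        obtain ⟨r2, hr2, v2, hv2, e2⟩ := c.mem_A.1 hA
        by_cases hv21 : v2 = 1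
        · refine hfW μ _ ?_
          show g⁻¹ * a * g ∈ c.W
          rw [e2, hv21, mul_one]; exact hr2
        · exfalso
          obtain ⟨r1, hr1, v1, hv1, e1⟩ := c.mem_A.1 a.2
          refine hg (c.mem_normalizer_of_fusion hno hr2 hv2 hv21 hr1 hv1 ?_)
          rw [← e1, ← e2]; group
      · exact extendByZero_of_notMem c.A _ hA
    have hinner : ∀ μ ν, Cfsg.classInner (θ μ) (θ ν) = if μ = ν then 2 else 1 := by
      intro μ ν
      rw [frobenius_reciprocity c.A _ (IsGen.isClassFunction (hgen ν))]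
      simp only [Cfsg.classInner, hres, map_mul, map_inv₀, map_natCast, map_sum]
      have hg : ∀ g ∈ Finset.univ.filter (fun g : G => g ∈ normalizer (c.U : Set G)),
          (∑ a : c.A, f μ a * conj (Cfsg.extendByZero c.A (f ν) (g⁻¹ * a * g)))
            = if g ∈ c.A then (Nat.card c.A : ℂ) * (if μ = ν then 2 else 1) else 0 := by
        intro g hg
        have hgN : g ∈ normalizer (c.U : Set G) := (Finset.mem_filter.1 hg).2
        have hmem : ∀ a : c.A, g⁻¹ * a * g ∈ c.A := fun a => by
          have := c.A_conj_mem (inv_mem hgN) a.2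
          rwa [inv_inv] at this
        let τ : c.A →* c.A :=
          { toFun := fun a => ⟨g⁻¹ * a * g, hmem a⟩
            map_one' := Subtype.ext (show g⁻¹ * ((1 : c.A) : G) * g = 1 by simp)
            map_mul' := fun a b => Subtype.ext (by
              show g⁻¹ * ((a : G) * b) * g = g⁻¹ * a * g * (g⁻¹ * b * g)
              group) }
        have hext : ∀ a : c.A, Cfsg.extendByZero c.A (f ν) (g⁻¹ * a * g) = f ν (τ a) := fun a =>
          extendByZero_of_mem c.A _ (hmem a)
        have hlin : ∀ ψ ψ' : c.A →* ℂˣ,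
            ∑ a : c.A, (ψ a : ℂ) * conj (ψ' a : ℂ) = if ψ = ψ' then (Nat.card c.A : ℂ) else 0 := by
          intro ψ ψ'
          have h := AbChar.inner_lin ψ ψ'
          rw [Cfsg.classInner, inv_mul_eq_iff_eq_mul₀ (Nat.cast_ne_zero.mpr Nat.card_pos.ne')] at h
          rw [h]
          split_ifs <;> simp
        simp only [hext]
        show ∑ a : c.A, (((μ.1 * l) a : ℂ) - (l a : ℂ)) * conj ((((ν.1 * l).comp τ) a : ℂ) - ((l.comp τ) a : ℂ)) = _
        simp only [map_sub, sub_mul, mul_sub, Finset.sum_sub_distrib, hlin]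
        by_cases hgA : g ∈ c.A
        · have hτ : ∀ ψ : c.A →* ℂˣ, ψ.comp τ = ψ := fun ψ => MonoidHom.ext fun a => by
            show ψ (τ a) = ψ a
            congr 1
            refine Subtype.ext ?_
            show g⁻¹ * (a : G) * g = a
            rw [mul_assoc, c.A_comm hno a.2 hgA, inv_mul_cancel_left]
          have hne1 : ∀ ρ : ι', ρ.1 * l ≠ l := fun ρ e => ρ.2.2 (mul_right_cancel (e.trans (one_mul l).symm))
          rw [if_pos hgA, hτ, hτ, if_neg (hne1 μ), if_neg (fun e : l = ν.1 * l => hne1 ν e.symm), if_pos (rfl : l = l)]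
          by_cases hμν : μ = ν
          · subst hμν; rw [if_pos rfl, if_pos rfl]; ring
          · rw [if_neg (fun e => hμν (Subtype.ext (mul_right_cancel e))), if_neg hμν]; ring
        · rw [if_neg hgA]
          -- `g` moves the restriction of `l` to `W`
          obtain ⟨x0, hx0W, hx0⟩ := hl
          have hsep : ∀ ρ ρ' : c.A →* ℂˣ, Triv ρ → Triv ρ' → ρ * l ≠ (ρ' * l).comp τ := by
            intro ρ ρ' hρ hρ' e
            have hτW : ∀ x : c.A, (x : G) ∈ c.W → (τ x : G) ∈ c.W := fun x hx => by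
              show g⁻¹ * x * g ∈ c.W
              simpa using c.W_conj_mem (inv_mem hgN) hx
            let d : c.W → c.W := fun w =>
              ⟨g⁻¹ * w * g * (w : G)⁻¹, c.W.mul_mem (hτW ⟨w, c.le_A_left w.2⟩ w.2) (c.W.inv_mem w.2)⟩
            have hd : Function.Injective d := by
              intro w w' h'
              have h1 : g⁻¹ * w * g * (w : G)⁻¹ = g⁻¹ * w' * g * (w' : G)⁻¹ := congrArg Subtype.val h'
              have h2 : g⁻¹ * ((w' : G)⁻¹ * w) * g = (w' : G)⁻¹ * w := by
                calc g⁻¹ * ((w' : G)⁻¹ * w) * g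
                    = (g⁻¹ * w' * g)⁻¹ * (g⁻¹ * w * g * (w : G)⁻¹) * w := by group
                  _ = (g⁻¹ * w' * g)⁻¹ * (g⁻¹ * w' * g * (w' : G)⁻¹) * w := by rw [h1]
                  _ = _ := by group
              have hgi : g⁻¹ ∉ c.A := fun h => hgA (by simpa using c.A.inv_mem h)
              have := c.fpf_outside_A hno (inv_mem hgN) hgi (c.W.mul_mem (c.W.inv_mem w'.2) w.2)
                (by rw [inv_inv]; exact h2)
              exact Subtype.ext (inv_mul_eq_one.1 this).symm
            obtain ⟨w, hw⟩ := (Finite.injective_iff_surjective.1 hd) ⟨x0, hx0W⟩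
            let wA : c.A := ⟨w, c.le_A_left w.2⟩
            have hx0' : x0 = τ wA * wA⁻¹ := Subtype.ext (congrArg Subtype.val hw).symm
            refine hx0 ?_
            have e1 := DFunLike.congr_fun e wA
            simp only [MonoidHom.mul_apply, MonoidHom.comp_apply] at e1
            rw [hρ wA w.2, hρ' _ (hτW wA w.2), one_mul, one_mul] at e1
            rw [hx0', map_mul, map_inv, ← e1, mul_inv_cancel]
          have h1 : Triv 1 := fun x _ => rfl
          have hl1 : (1 : c.A →* ℂˣ) * l = l := one_mul l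
          rw [if_neg (hsep _ _ μ.2.1 ν.2.1)]
          have e2 := hsep _ _ μ.2.1 h1
          have e3 := hsep _ _ h1 ν.2.1
          have e4 := hsep _ _ h1 h1
          rw [hl1] at e2 e3 e4
          rw [if_neg e2, if_neg e3, if_neg e4]
          ring
      rw [show (∑ x : c.A, f μ x * ((Nat.card c.A : ℂ)⁻¹ *
            ∑ g ∈ Finset.univ.filter (fun g : G => g ∈ normalizer (c.U : Set G)),
              conj (Cfsg.extendByZero c.A (f ν) (g⁻¹ * x * g))))
          = (Nat.card c.A : ℂ)⁻¹ * ∑ g ∈ Finset.univ.filter (fun g : G => g ∈ normalizer (c.U : Set G)),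
              ∑ x : c.A, f μ x * conj (Cfsg.extendByZero c.A (f ν) (g⁻¹ * x * g)) by
        rw [Finset.sum_comm, Finset.mul_sum]
        refine Finset.sum_congr rfl fun x _ => ?_
        rw [Finset.mul_sum, Finset.mul_sum, Finset.mul_sum]
        exact Finset.sum_congr rfl fun g _ => by ring]
      rw [Finset.sum_congr rfl hg, ← Finset.sum_filter, Finset.filter_filter,
        Finset.filter_congr (q := fun g : G => g ∈ c.A) (fun g _ => ⟨fun h => h.2, fun h =>
          ⟨by
            obtain ⟨r, hr, v, hv, e⟩ := c.mem_A.1 h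
            rw [e]
            exact mul_mem (Subgroup.centralizer_le_normalizer _ (c.W_le_centralizer_U hno hr))
              (Subgroup.le_normalizer hv), h⟩⟩),
        Finset.sum_const, nsmul_eq_mul]
      rw [show (Finset.univ.filter (fun g : G => g ∈ c.A)).card = Nat.card c.A by
        rw [Nat.card_eq_fintype_card, Fintype.card_subtype]]
      have hA0 : (Nat.card c.A : ℂ) ≠ 0 := Nat.cast_ne_zero.mpr Nat.card_pos.ne'
      field_simp
    -- integral coordinates
    have hcoord : ∀ μ, ∃ v : Cfsg.IrrCharacter G → ℤ, θ μ = ∑ ψ, (v ψ : ℂ) • (ψ : G → ℂ) :=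
      fun μ => IsGen.exists_sum (hgen μ)
    choose v hv using hcoord
    have hvv : ∀ μ ν, ∑ ψ, v μ ψ * v ν ψ = if μ = ν then 2 else 1 := by
      intro μ ν
      have h := hinner μ ν
      rw [hv μ, hv ν, classInner_sum_left] at h
      simp only [classInner_smul_left, classInner_sum_right, classInner_smul_right,
        map_intCast, classInner_irr, mul_ite, mul_one, mul_zero, Finset.sum_ite_eq, Finset.mem_univ,
        if_true] at h
      have h2 : ((∑ ψ, v μ ψ * v ν ψ : ℤ) : ℂ) = ((if μ = ν then 2 else 1 : ℤ) : ℂ) := by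
        push_cast
        rw [← h]
        exact Finset.sum_congr rfl fun ψ _ => by ring
      exact_mod_cast h2
    have hzero : ∀ μ x, (∀ g : G, g⁻¹ * x * g ∈ c.A → g⁻¹ * x * g ∈ c.W) →
        ∑ ψ, (v μ ψ : ℂ) * (ψ : G → ℂ) x = 0 := by
      intro μ x hx
      have h0 : θ μ x = 0 := by
        show (Nat.card c.A : ℂ)⁻¹ * ∑ g : G, Cfsg.extendByZero c.A (f μ) (g⁻¹ * x * g) = 0
        rw [Finset.sum_eq_zero, mul_zero]
        intro g _
        by_cases hA : g⁻¹ * x * g ∈ c.A
        · rw [extendByZero_of_mem c.A _ hA]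
          exact hfW μ _ (hx g hA)
        · exact extendByZero_of_notMem c.A _ hA
      rw [hv μ] at h0
      simpa using h0
    -- two constituents of opposite sign
    have hpair : ∀ μ, ∃ a b, a ≠ b ∧ v μ a = 1 ∧ v μ b = -1 ∧ ∀ ψ, ψ ≠ a → ψ ≠ b → v μ ψ = 0 := by
      intro μ
      have h2 := hvv μ μ
      rw [if_pos rfl] at h2
      have hle : ∀ ψ, v μ ψ * v μ ψ ≤ 2 := fun ψ => by
        rw [← h2]
        exact Finset.single_le_sum (f := fun ψ => v μ ψ * v μ ψ) (fun i _ => mul_self_nonneg _)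
          (Finset.mem_univ ψ)
      have hval : ∀ ψ, v μ ψ = -1 ∨ v μ ψ = 0 ∨ v μ ψ = 1 := fun ψ => by
        have := hle ψ
        have h1 : v μ ψ ≤ 1 := by nlinarith
        have h1' : -1 ≤ v μ ψ := by nlinarith
        omega
      set P := Finset.univ.filter (fun ψ => v μ ψ = 1) with hP
      set N := Finset.univ.filter (fun ψ => v μ ψ = -1) with hN
      have hcard : P.card + N.card = 2 := by
        have e : ∀ ψ, v μ ψ * v μ ψ = (if v μ ψ = 1 then 1 else 0) + (if v μ ψ = -1 then 1 else 0) :=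
          fun ψ => by rcases hval ψ with e | e | e <;> simp [e]
        rw [Finset.sum_congr rfl (fun ψ _ => e ψ), Finset.sum_add_distrib, Finset.sum_boole,
          Finset.sum_boole] at h2
        exact_mod_cast h2
      have hdeg := hzero μ 1 (fun g _ => by simp)
      have hd : ∀ ψ : Cfsg.IrrCharacter G, ∃ d : ℕ, 0 < d ∧ (ψ : G → ℂ) 1 = d := fun ψ =>
        IsIrr.exists_degree ψ.2
      choose d hd0 hd1 using hd
      simp only [hd1] at hdeg
      have hdz : ∑ ψ, v μ ψ * (d ψ : ℤ) = 0 := by exact_mod_cast hdeg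
      have hsum : ∑ ψ, v μ ψ * (d ψ : ℤ) = (∑ ψ ∈ P, (d ψ : ℤ)) - ∑ ψ ∈ N, (d ψ : ℤ) := by
        rw [hP, hN, Finset.sum_filter, Finset.sum_filter, ← Finset.sum_sub_distrib]
        exact Finset.sum_congr rfl fun ψ _ => by rcases hval ψ with e | e | e <;> simp [e]
      rw [hsum] at hdz
      have hP0 : P.Nonempty := by
        by_contra h
        rw [Finset.not_nonempty_iff_eq_empty] at h
        rw [h, Finset.card_empty, zero_add] at hcard
        have hN0 : N.Nonempty := Finset.card_pos.1 (by omega)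
        have : 0 < ∑ ψ ∈ N, (d ψ : ℤ) := Finset.sum_pos (fun i _ => by exact_mod_cast hd0 i) hN0
        rw [h, Finset.sum_empty] at hdz
        omega
      have hN0 : N.Nonempty := by
        by_contra h
        rw [Finset.not_nonempty_iff_eq_empty] at h
        have : 0 < ∑ ψ ∈ P, (d ψ : ℤ) := Finset.sum_pos (fun i _ => by exact_mod_cast hd0 i) hP0
        rw [h, Finset.sum_empty] at hdz
        omega
      have hP1 := hP0.card_pos
      have hN1 := hN0.card_pos
      obtain ⟨a, ha⟩ := Finset.card_eq_one.1 (show P.card = 1 by omega)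
      obtain ⟨b, hb⟩ := Finset.card_eq_one.1 (show N.card = 1 by omega)
      have ha' : v μ a = 1 := (Finset.mem_filter.1 (ha.symm ▸ Finset.mem_singleton_self a : a ∈ P)).2
      have hb' : v μ b = -1 := (Finset.mem_filter.1 (hb.symm ▸ Finset.mem_singleton_self b : b ∈ N)).2
      refine ⟨a, b, fun e => by rw [e, hb'] at ha'; omega, ha', hb', fun ψ h1 h2 => ?_⟩
      rcases hval ψ with e | e | e
      · have : ψ ∈ N := Finset.mem_filter.2 ⟨Finset.mem_univ _, e⟩
        rw [hb, Finset.mem_singleton] at this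
        exact absurd this h2
      · exact e
      · have : ψ ∈ P := Finset.mem_filter.2 ⟨Finset.mem_univ _, e⟩
        rw [ha, Finset.mem_singleton] at this
        exact absurd this h1
    choose P N hPN hP hN hrest using hpair
    -- equal values at `t` times odd elements
    have heq : ∀ μ (k : P2 F), Odd (orderOf k) →
        (P μ : G → ℂ) (c.t * c.ι k) = (N μ : G → ℂ) (c.t * c.ι k) := by
      intro μ k hk
      have h0 := hzero μ (c.t * c.ι k) (fun g hg => absurd (show g * (g⁻¹ * (c.t * c.ι k) * g) * g⁻¹ = c.t * c.ι k by group)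
        (c.conj_A_not_eq_t_mul hno hg g hk))
      rw [Finset.sum_eq_add_of_mem (P μ) (N μ) (Finset.mem_univ _) (Finset.mem_univ _) (hPN μ)
        (fun ψ _ hψ => by rw [hrest μ ψ hψ.1 hψ.2]; simp), hP μ, hN μ] at h0
      push_cast at h0
      linear_combination h0
    -- the family
    have hUT : ∀ φ : c.U →* ℂˣ, Triv (φ.comp π) := fun φ x hx => by
      rw [MonoidHom.comp_apply, hπW x hx, map_one]
    haveI : Fintype (c.U →* ℂˣ) := Fintype.ofFinite _
    have hμne : μ0 ≠ 1 := fun e => hne (congrArg m (by rw [e]; exact one_mul l))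
    let μs : ι' := ⟨μ0, hμ0, hμne⟩
    set S : Finset (Cfsg.IrrCharacter G) := Finset.univ.image P ∪ Finset.univ.image N with hS
    have hinjPN : Function.Injective (fun μ : ι' => (P μ, N μ)) := by
      intro μ ν e
      simp only [Prod.mk.injEq] at e
      by_contra hμν
      have hveq : ∀ ψ, v μ ψ = v ν ψ := by
        intro ψ
        by_cases h1 : ψ = P μ
        · rw [h1, hP μ, e.1, hP ν]
        by_cases h2 : ψ = N μ
        · rw [h2, hN μ, e.2, hN ν]
        rw [hrest μ ψ h1 h2, hrest ν ψ (e.1 ▸ h1) (e.2 ▸ h2)]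
      have h1 := hvv μ ν
      have h2 := hvv μ μ
      rw [if_neg hμν] at h1
      rw [if_pos rfl] at h2
      simp only [← hveq] at h1
      omega
    have hcardι : Fintype.card F - 1 ≤ Fintype.card ι' := by
      rw [← c.card_U, ← AbChar.card_lin_comm (B := c.U), Nat.card_eq_fintype_card]
      have hinj : Function.Injective (fun φ : {φ : c.U →* ℂˣ // φ ≠ 1} =>
          (⟨φ.1.comp π, hUT φ.1, fun e => φ.2 (MonoidHom.ext fun v => by
            have := DFunLike.congr_fun e ⟨v, c.le_A_right v.2⟩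
            rwa [MonoidHom.comp_apply, hπU] at this)⟩ : ι')) := by
        intro φ ψ e
        refine Subtype.ext (MonoidHom.ext fun v => ?_)
        have := DFunLike.congr_fun (congrArg Subtype.val e) ⟨v, c.le_A_right v.2⟩
        simpa [MonoidHom.comp_apply, hπU] using this
      refine le_trans ?_ (Fintype.card_le_of_injective _ hinj)
      rw [Fintype.card_subtype_compl, Fintype.card_subtype_eq]
    have hS5 : 5 ≤ S.card := by
      by_contra h5
      have h1 : Fintype.card ι' ≤ (S ×ˢ S).card := by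
        rw [← Finset.card_univ, ← Finset.card_image_of_injective _ hinjPN]
        refine Finset.card_le_card fun p hp => ?_
        obtain ⟨μ, -, rfl⟩ := Finset.mem_image.1 hp
        exact Finset.mem_product.2
          ⟨Finset.mem_union_left _ (Finset.mem_image_of_mem _ (Finset.mem_univ _)),
            Finset.mem_union_right _ (Finset.mem_image_of_mem _ (Finset.mem_univ _))⟩
      rw [Finset.card_product] at h1
      have h2 : S.card * S.card ≤ 4 * 4 := Nat.mul_le_mul (by omega) (by omega)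
      have := c.hbig
      omega
    have hall : ∀ ψ ∈ S, ∀ k : P2 F, Odd (orderOf k) →
        (ψ : G → ℂ) (c.t * c.ι k) = (P μs : G → ℂ) (c.t * c.ι k) := by
      intro ψ hψ k hk
      obtain ⟨μ, hμ⟩ : ∃ μ, ψ = P μ ∨ ψ = N μ := by
        rcases Finset.mem_union.1 hψ with h | h <;> obtain ⟨μ, -, rfl⟩ := Finset.mem_image.1 h
        · exact ⟨μ, Or.inl rfl⟩
        · exact ⟨μ, Or.inr rfl⟩
      have hPμ : (ψ : G → ℂ) (c.t * c.ι k) = (P μ : G → ℂ) (c.t * c.ι k) := by
        rcases hμ with rfl | rfl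
        · rfl
        · exact (heq μ k hk).symm
      rw [hPμ]
      obtain ⟨z, hz1, hz2⟩ : ∃ z, v μ z ≠ 0 ∧ v μs z ≠ 0 := by
        by_contra hcon
        push Not at hcon
        have h0 : ∑ ψ, v μ ψ * v μs ψ = 0 := Finset.sum_eq_zero fun ψ _ => by
          by_cases h : v μ ψ = 0
          · rw [h, zero_mul]
          · rw [hcon ψ h, mul_zero]
        have := hvv μ μs
        rw [h0] at this
        split_ifs at this <;> omega
      have hz : ∀ ν, v ν z ≠ 0 → (z : G → ℂ) (c.t * c.ι k) = (P ν : G → ℂ) (c.t * c.ι k) := by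
        intro ν hν
        by_cases h1 : z = P ν
        · rw [h1]
        by_cases h2 : z = N ν
        · rw [h2]; exact (heq ν k hk).symm
        exact absurd (hrest ν z h1 h2) hν
      rw [← hz μ hz1, hz μs hz2]
    have hvan := hfam S hS5 (fun a ha b hb k hk => (hall a ha k hk).trans (hall b hb k hk).symm)
    -- `χ` lies in the family
    have hcoef : (v μs χ : ℂ) = Cfsg.classInner (θ μs) (χ : G → ℂ) := by
      rw [hv μs, classInner_sum_irr]
    have hmreal : ∀ ψ, conj (m ψ) = m ψ := fun ψ => by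
      obtain ⟨j, hj⟩ := IsChar.classInner_eq_natCast (IsChar.restrict c.A (IsIrr.isCharacter χ.2))
        (IsIrr.isCharacter (AbChar.linIrr ψ).2)
      have hj' : m ψ = j := hj
      rw [hj', map_natCast]
    have hcoef0 : v μs χ ≠ 0 := by
      intro e
      rw [e, Int.cast_zero, frobenius_reciprocity c.A _ (IsIrr.isClassFunction χ.2),
        show f μs = (fun a : c.A => ((μ0 * l) a : ℂ)) - (fun a : c.A => (l a : ℂ)) from rfl,
        classInner_sub_left, ← classInner_conj_symm (fun a : c.A => (χ : G → ℂ) a),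
        ← classInner_conj_symm (fun a : c.A => (χ : G → ℂ) a)] at hcoef
      refine hne ?_
      have := hmreal (μ0 * l)
      have := hmreal l
      linear_combination -hcoef - hmreal (μ0 * l) + hmreal l
    have hχS : χ ∈ S := by
      by_cases h1 : χ = P μs
      · exact Finset.mem_union_left _ (Finset.mem_image.2 ⟨μs, Finset.mem_univ _, h1.symm⟩)
      by_cases h2 : χ = N μs
      · exact Finset.mem_union_right _ (Finset.mem_image.2 ⟨μs, Finset.mem_univ _, h2.symm⟩)
      exact absurd (hrest μs χ h1 h2) hcoef0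
    exact hvan χ hχS
  -- conclusion by a shift
  let uA : c.A := ⟨u, c.le_A_right hu⟩
  let ruA : c.A := ⟨r * u, mul_mem (mem_sup_left hr) (mem_sup_right hu)⟩
  let rA : c.A := ⟨r, c.le_A_left hr⟩
  obtain ⟨φ, hφ⟩ := AbChar.exists_apply_ne_one (B := c.U) (b := ⟨u, hu⟩)
    (fun e => hu1 (congrArg Subtype.val e))
  set μ0 := φ.comp π with hμ0
  have hμ0T : Triv μ0 := fun x hx => by rw [hμ0, MonoidHom.comp_apply, hπW x hx, map_one]
  have hμ0u : μ0 uA ≠ 1 := by
    rw [hμ0, MonoidHom.comp_apply, show π uA = ⟨u, hu⟩ from hπU ⟨u, hu⟩]; exact hφ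
  set g : (c.A →* ℂˣ) → ℂ := fun l => m l * ((l ruA : ℂ) - (l uA : ℂ)) with hg
  have hdiff : (χ : G → ℂ) (r * u) - (χ : G → ℂ) u = ∑ l, g l := by
    have h1 := AbChar.fourier hAc (fun a : c.A => (χ : G → ℂ) a) ruA
    have h2 := AbChar.fourier hAc (fun a : c.A => (χ : G → ℂ) a) uA
    show (χ : G → ℂ) ((ruA : c.A) : G) - (χ : G → ℂ) ((uA : c.A) : G) = _
    rw [h1, h2, ← Finset.sum_sub_distrib]
    exact Finset.sum_congr rfl fun l _ => by rw [hg]; ring
  have hru : ruA = rA * uA := rfl
  have hshift : ∀ l, g (μ0 * l) = (μ0 uA : ℂ) * g l := by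
    intro l
    have hrW : ((rA : c.A) : G) ∈ c.W := hr
    by_cases hl : NT l
    · simp only [hg, key l hl μ0 hμ0T, hru, map_mul, MonoidHom.mul_apply, hμ0T rA hrW, Units.val_mul,
        Units.val_one]
      ring
    · have hl1 : l rA = 1 := by
        by_contra h
        exact hl ⟨rA, hrW, h⟩
      simp only [hg, hru, map_mul, MonoidHom.mul_apply, hμ0T rA hrW, hl1, one_mul, sub_self, mul_zero]
  have hS : ∑ l, g l = (μ0 uA : ℂ) * ∑ l, g l := by
    rw [Finset.mul_sum]
    exact (Fintype.sum_equiv (Equiv.mulLeft μ0) _ _ fun l => (hshift l).symm).symm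
  have hz : ∑ l, g l = 0 := by
    have h2 : ((μ0 uA : ℂ) - 1) * ∑ l, g l = 0 := by linear_combination -hS
    rcases mul_eq_zero.1 h2 with h | h
    · exact absurd (Units.ext (sub_eq_zero.1 h)) hμ0u
    · exact h
  rw [hz, sub_eq_zero] at hdiff
  exact hdiff

end Ctx

end CfsgLib.LocalEven.GoldS
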