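import Cfsg.Agent.Lib.PGroups.Basic
import Mathlib.GroupTheory.SpecificGroups.Cyclic

/-!
Owner: helper24. Small facts on `p`-subgroups used for groups of Ree type.
-/

set_option autoImplicit false
set_option linter.all false

namespace CfsgLib.LocalEven.GoldS

open Subgroup

variable {G : Type*} [Group G]

/-- a cyclic group has a single subgroup of each order -/
theorem mem_zpowers_of_cyclic [Finite G] {p : ℕ} (hp : p.Prime) {L : Subgroup G} [IsCyclic L]
    {x h : G} (hx : x ∈ L) (hxp : x ^ p = 1) (hh : h ∈ L) (hho : orderOf h = p) : x ∈ zpowers h := by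
  classical
  haveI : Fintype L := Fintype.ofFinite _
  set h' : L := ⟨h, hh⟩ with hh'
  set S : Finset L := Finset.univ.filter (fun a : L => a ^ p = 1) with hS
  have hsub : (Finset.univ.filter (fun a : L => a ∈ zpowers h')) ⊆ S := by
    intro a ha
    obtain ⟨i, rfl⟩ := (Finset.mem_filter.1 ha).2
    refine Finset.mem_filter.2 ⟨Finset.mem_univ _, Subtype.ext ?_⟩
    simp only [hh', SubmonoidClass.coe_pow, Subgroup.coe_zpow, Subgroup.coe_one]
    rw [← zpow_natCast, ← zpow_mul, mul_comm, zpow_mul, zpow_natCast, ← hho, pow_orderOf_eq_one,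
      one_zpow]
  have hcard : (Finset.univ.filter (fun a : L => a ∈ zpowers h')).card = p := by
    rw [← Fintype.card_subtype]
    exact (Nat.card_eq_fintype_card.symm.trans (Nat.card_zpowers h')).trans
      ((Subgroup.orderOf_mk h hh).trans hho)
  have heq := Finset.eq_of_subset_of_card_le hsub (by rw [hcard]; exact IsCyclic.card_pow_eq_one_le hp.pos)
  have : (⟨x, hx⟩ : L) ∈ S := Finset.mem_filter.2 ⟨Finset.mem_univ _, Subtype.ext (by simpa using hxp)⟩
  rw [← heq] at this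
  obtain ⟨i, hi⟩ := (Finset.mem_filter.1 this).2
  exact ⟨i, congrArg Subtype.val hi⟩

/-- a nontrivial invariant section of a `p`-group has a central element -/
theorem exists_rel_center [Finite G] {p : ℕ} [Fact p.Prime] {P D A : Subgroup G}
    (hP : IsPGroup p P) (hDA : D ≤ A) (hAP : A ≤ P) (hne : ¬ A ≤ D)
    (hDn : ∀ g ∈ P, ∀ d ∈ D, g * d * g⁻¹ ∈ D) (hAn : ∀ g ∈ P, ∀ a ∈ A, g * a * g⁻¹ ∈ A) :
    ∃ a ∈ A, a ∉ D ∧ ∀ g ∈ P, g * a * g⁻¹ * a⁻¹ ∈ D := by
  haveI : (D.subgroupOf P).Normal := ⟨fun d hd g => mem_subgroupOf.2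
    (hDn g g.2 d (mem_subgroupOf.1 hd))⟩
  set N := D.subgroupOf P with hN
  set π := QuotientGroup.mk' N with hπ
  haveI hAnn : (A.subgroupOf P).Normal := ⟨fun d hd g => mem_subgroupOf.2
    (hAn g g.2 d (mem_subgroupOf.1 hd))⟩
  haveI := hAnn.map π (QuotientGroup.mk'_surjective N)
  have hne' : (A.subgroupOf P).map π ≠ ⊥ := by
    intro h
    rw [Subgroup.map_eq_bot_iff, hπ, QuotientGroup.ker_mk'] at h
    exact hne fun a ha => mem_subgroupOf.1 (h (mem_subgroupOf.2 ha : (⟨a, hAP ha⟩ : P) ∈ _))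
  have h2 := PGroups.inf_center_ne_bot (hP.to_quotient N) hne'
  obtain ⟨⟨z, hzA, hzc⟩, hw⟩ := Subgroup.ne_bot_iff_exists_ne_one.1 h2
  have hz1 : z ≠ 1 := fun e => hw (Subtype.ext e)
  obtain ⟨a, ha, rfl⟩ := hzA
  refine ⟨a, mem_subgroupOf.1 ha, fun h => hz1 ((QuotientGroup.eq_one_iff _).2 (mem_subgroupOf.2 h)),
    fun g hg => ?_⟩
  have hc := Subgroup.mem_center_iff.1 hzc (π ⟨g, hg⟩)
  have : (⟨g, hg⟩ : P) * a * (⟨g, hg⟩ : P)⁻¹ * a⁻¹ ∈ N := by
    rw [← QuotientGroup.eq_one_iff]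
    show π _ = 1
    rw [map_mul, map_mul, map_mul, map_inv, map_inv, hc]
    group
  exact mem_subgroupOf.1 this

end CfsgLib.LocalEven.GoldS
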