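import Cfsg.Agent.Lib.LocalEven.GoldS.Closure
import Cfsg.Agent.Lib.LocalEven.GoldS.PGen
import Cfsg.Agent.Lib.Transfer.RankTwo

/-!
Owner: helper24. Groups of Ree type without real elements of order three: the torus acts without fixed
points on `W`.
-/

set_option autoImplicit false
set_option linter.all false

namespace CfsgLib.LocalEven.GoldS

open Subgroup PSLF

namespace Ctx

variable {G : Type*} [Group G] {F : Type*} [Field F] [Fintype F] [CharP F 3] (c : Ctx G F)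

theorem isCyclic_H : IsCyclic c.H := by
  haveI := isCyclic_Hs (F := F)
  exact isCyclic_of_surjective (c.ι.subgroupMap (Hs F)) (c.ι.subgroupMap_surjective _)

theorem odd_card_H : Odd (Nat.card c.H) := c.card_H_eq ▸ odd_card_Hs c.hq

theorem w_inv_H {h : G} (hh : h ∈ c.H) : c.w * h * c.w⁻¹ = h⁻¹ := by
  obtain ⟨a, ha, rfl⟩ := hh
  show c.ι (ww F) * c.ι a * (c.ι (ww F))⁻¹ = (c.ι a)⁻¹
  rw [← map_inv, ← map_mul, ← map_mul, ← map_inv, ww_inv ha]

variable [Finite G]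

include c in
/-- Sylow two-subgroups have exponent two -/
theorem sq_eq_one_of_two_element {x : G} {k : ℕ} (hx : x ^ (2 ^ k) = 1) : x ^ 2 = 1 := by
  haveI : Fact (Nat.Prime 2) := ⟨Nat.prime_two⟩
  obtain ⟨S, -, -, -, hSC⟩ := c.exists_sylow_eight
  have hp : IsPGroup 2 (zpowers x) := by
    obtain ⟨j, -, hj⟩ := (Nat.dvd_prime_pow Nat.prime_two).1 (orderOf_dvd_of_pow_eq_one hx)
    exact IsPGroup.of_card (n := j) (by rw [Nat.card_zpowers, hj])
  obtain ⟨T, hT⟩ := hp.exists_le_sylow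
  obtain ⟨g, hg⟩ := MulAction.exists_smul_eq G T S
  have hxC : g * x * g⁻¹ ∈ c.Ct := by
    refine hSC ?_
    rw [← hg, Sylow.coe_subgroup_smul]
    exact Subgroup.smul_mem_pointwise_smul _ _ _ (hT (mem_zpowers x))
  have key : ∀ k' : P2 F, (∃ j, k' ^ (2 ^ j) = 1) → k' * k' = 1 := by
    rintro k' ⟨j, hj⟩
    obtain ⟨i, -, hi⟩ := (Nat.dvd_prime_pow Nat.prime_two).1 (orderOf_dvd_of_pow_eq_one hj)
    obtain ⟨R, hR⟩ := (IsPGroup.of_card (p := 2) (n := i) (by rw [Nat.card_zpowers, hi]) :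
      IsPGroup 2 (zpowers k')).exists_le_sylow
    haveI hK := CfsgLib.Classical.Two.isKleinFour_sylow_PSL (q := Fintype.card F) rfl (Or.inl c.hq) R
    have := congrArg Subtype.val (IsKleinFour.mul_self (⟨k', hR (mem_zpowers k')⟩ : (R : Subgroup (P2 F))))
    exact this
  have hpow : (g * x * g⁻¹) ^ (2 ^ k) = 1 := by rw [conj_pow, hx]; group
  have h2 : (g * x * g⁻¹) ^ 2 = 1 := by
    obtain ⟨k', h | h⟩ := c.decomp hxC
    · rw [h] at hpow ⊢
      rw [← map_pow, pow_two, key k' ⟨k, c.inj (by rw [map_pow, hpow, map_one])⟩, map_one]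
    · rw [h] at hpow ⊢
      have hc : Commute c.t (c.ι k') := (c.ι_comm k').symm
      have ht2 : c.t ^ 2 = 1 := by rw [pow_two, c.t_sq]
      have h3 : c.ι k' ^ (2 ^ (k + 1)) = 1 := by
        have h4 : (c.t * c.ι k') ^ (2 ^ (k + 1)) = 1 := by rw [pow_succ, pow_mul, hpow, one_pow]
        rwa [hc.mul_pow, pow_succ' 2, pow_mul c.t, ht2, one_pow, one_mul, ← pow_succ'] at h4
      rw [hc.mul_pow, ht2, one_mul, ← map_pow, pow_two,
        key k' ⟨k + 1, c.inj (by rw [map_pow, h3, map_one])⟩, map_one]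
  rw [conj_pow, mul_inv_eq_one] at h2
  simpa using h2

/-- the main case: the two orders agree or `r` does not divide the order of the torus -/
theorem H_cent_W_core (hno : NoReal G) {r : ℕ} [Fact r.Prime] {h y : G} (hh : h ∈ c.H) (hh1 : h ≠ 1)
    (hy : y ∈ c.W) (hyo : orderOf y = r) (hc : h * y = y * h)
    (hcase : orderOf h = r ∨ ¬ r ∣ Nat.card c.H) : False := by
  classical
  haveI : Fact (Nat.Prime 2) := ⟨Nat.prime_two⟩
  have hrp : r.Prime := Fact.out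
  have hy1 : y ≠ 1 := fun e => hrp.ne_one (by rw [← hyo, e, orderOf_one])
  obtain ⟨hyi, hyodd, hy3⟩ := c.W_props hno hy
  have hr2 : r ≠ 2 := fun e => by rw [hyo, e] at hyodd; exact absurd hyodd (by decide)
  have hr3 : r ≠ 3 := fun e => hy3 (by rw [hyo, e])
  have htw : c.t * c.w = c.w * c.t := c.t_w
  have hw2 : c.w * c.w = 1 := by
    rw [← pow_two]; exact orderOf_dvd_iff_pow_eq_one.1 (dvd_of_eq c.orderOf_w)
  have hw' : c.w⁻¹ = c.w := inv_eq_of_mul_eq_one_right hw2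
  -- the centraliser of `h`
  set X : Subgroup G := centralizer ({h} : Set G) with hX
  have hhC : h ∈ c.Ct := c.H_le_Ct hh
  have hXmem : ∀ x, x ∈ X ↔ x * h = h * x := fun x => mem_centralizer_singleton_iff
  have hXH : ∀ k : P2 F, c.ι k * h = h * c.ι k → c.ι k ∈ c.H := by
    intro k hk
    obtain ⟨a, ha, rfl⟩ := hh
    rw [← map_mul, ← map_mul] at hk
    exact mem_map_of_mem _ (centralizer_Hs c.hq ha (fun e => hh1 (by rw [e, map_one])) (c.inj hk))
  have hXt : ∀ x ∈ X, x * c.t = c.t * x → x ∈ c.H ∨ c.t * x ∈ c.H := by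
    intro x hx hxt
    obtain ⟨k, h' | h'⟩ := c.decomp (c.mem_Ct.2 hxt)
    · exact Or.inl (h' ▸ hXH k (by rw [← h']; exact (hXmem x).1 hx))
    · refine Or.inr ?_
      have e : c.t * x = c.ι k := by rw [h', ← mul_assoc, c.t_sq, one_mul]
      rw [e]
      refine hXH k ?_
      rw [← e, mul_assoc, (hXmem x).1 hx, ← mul_assoc, ← c.mem_Ct.1 hhC, mul_assoc]
  have h2 : ∀ x ∈ X, x * c.t = c.t * x → (∃ k, orderOf x = 2 ^ k) → x = 1 ∨ x = c.t := by
    intro x hx hxt ⟨k, hk⟩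
    have hx2 : x ^ 2 = 1 := c.sq_eq_one_of_two_element (k := k) (by rw [← hk, pow_orderOf_eq_one])
    have key : ∀ z ∈ c.H, z ^ 2 = 1 → z = 1 := by
      intro z hz hz2
      rcases (Nat.dvd_prime Nat.prime_two).1 (orderOf_dvd_of_pow_eq_one hz2) with e | e
      · exact orderOf_eq_one_iff.1 e
      · have := c.odd_card_H.of_dvd_nat (c.H.orderOf_dvd_natCard hz)
        rw [e] at this; exact absurd this (by decide)
    rcases hXt x hx hxt with h' | h'
    · exact Or.inl (key x h' hx2)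
    · refine Or.inr ?_
      have := key _ h' (by rw [(show Commute c.t x from hxt.symm).mul_pow, pow_two, c.t_sq, hx2, one_mul])
      rw [← inv_eq_of_mul_eq_one_right this, c.t_inv]
  obtain ⟨O, hOX, hOodd, hmemO, -, -⟩ :=
    Ctx.exists_odd_part c.ht c.sylow_comm ((hXmem c.t).2 (c.mem_Ct.1 hhC).symm) h2
  have hOh : ∀ x ∈ O, x * h = h * x := fun x hx => (hXmem x).1 (hOX hx)
  have hfixO : ∀ f ∈ O, c.t * f = f * c.t → f ∈ c.H := by
    intro f hf hft
    obtain ⟨k, rfl⟩ := c.mem_K_of_odd (c.mem_Ct.2 hft.symm) ((hmemO f).1 hf).2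
    exact hXH k (hOh _ hf)
  have hconjO : ∀ g : G, (g * h * g⁻¹ = h ∨ g * h * g⁻¹ = h⁻¹) → g ∈ normalizer (O : Set G) := by
    intro g hg
    have key : ∀ g : G, (g * h * g⁻¹ = h ∨ g * h * g⁻¹ = h⁻¹) → ∀ x ∈ O, g * x * g⁻¹ ∈ O := by
      intro g hg x hx
      refine (hmemO _).2 ⟨(hXmem _).2 ?_, ?_⟩
      · have hcx : Commute x h := hOh x hx
        have hm := hcx.map (MulAut.conj g)
        rw [MulAut.conj_apply, MulAut.conj_apply] at hm
        rcases hg with e | e <;> rw [e] at hm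
        · exact hm.eq
        · simpa using hm.inv_right.eq
      · rw [show orderOf (g * x * g⁻¹) = orderOf x from (MulAut.conj g).orderOf_eq x]
        exact ((hmemO x).1 hx).2
    refine mem_normalizer_iff.2 fun x => ⟨key g hg x, fun hx => ?_⟩
    have hg' : g⁻¹ * h * g⁻¹⁻¹ = h ∨ g⁻¹ * h * g⁻¹⁻¹ = h⁻¹ := by
      rcases hg with e | e
      · left
        calc g⁻¹ * h * g⁻¹⁻¹ = g⁻¹ * (g * h * g⁻¹) * g⁻¹⁻¹ := by rw [e]
          _ = h := by group
      · right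
        calc g⁻¹ * h * g⁻¹⁻¹ = g⁻¹ * (g * h * g⁻¹)⁻¹ * g⁻¹⁻¹ := by simp [e]
          _ = h⁻¹ := by group
    simpa [mul_assoc] using key g⁻¹ hg' _ hx
  have htN : c.t ∈ normalizer (O : Set G) :=
    hconjO _ (Or.inl (commute_iff_conj.1 (c.mem_Ct.1 hhC).symm))
  have hwN : c.w ∈ normalizer (O : Set G) := hconjO _ (Or.inr (c.w_inv_H hh))
  -- the four group
  set A : Subgroup G := zpowers c.t ⊔ zpowers c.w with hA
  have hA2 : IsPGroup 2 A := by
    refine IsPGroup.to_sup_of_normal_right'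
      (IsPGroup.of_card (n := 1) (by rw [Nat.card_zpowers, c.ht, pow_one]))
      (IsPGroup.of_card (n := 1) (by rw [Nat.card_zpowers, c.orderOf_w, pow_one])) ?_
    rw [zpowers_le]
    refine Subgroup.centralizer_le_normalizer _ (mem_centralizer_iff.2 ?_)
    rintro _ ⟨i, rfl⟩
    exact (Commute.zpow_left (show Commute c.w c.t from htw.symm) i)
  have hAO : A ≤ normalizer (O : Set G) := sup_le (zpowers_le.2 htN) (zpowers_le.2 hwN)
  have hcopA : (Nat.card A).Coprime (Nat.card O) := by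
    obtain ⟨n, hn⟩ := IsPGroup.iff_card.1 hA2
    rw [hn]; exact Nat.Coprime.pow_left _ (Nat.coprime_two_left.2 hOodd)
  have hcopT : (Nat.card (zpowers c.t)).Coprime (Nat.card O) := by
    rw [Nat.card_zpowers, c.ht]; exact Nat.coprime_two_left.2 hOodd
  have hyO : y ∈ O := (hmemO y).2 ⟨(hXmem y).2 hc.symm, hyodd⟩
  have hyt : c.t ∈ normalizer ((zpowers y : Subgroup G) : Set G) := by
    refine mem_normalizer_iff_map_conj_eq.2 ?_
    show (zpowers y).map (MulAut.conj c.t).toMonoidHom = zpowers y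
    rw [MonoidHom.map_zpowers]
    show zpowers (c.t * y * c.t⁻¹) = zpowers y
    rw [hyi, zpowers_inv]
  obtain ⟨P0, hP0, hyP0, hTP0⟩ := InvCent.exists_invariant_sylP_ge (p := r) (zpowers_le.2 htN) hcopT
    hOodd (zpowers_le.2 hyO) (IsPGroup.of_card (n := 1) (by rw [Nat.card_zpowers, hyo, pow_one]))
    (zpowers_le.2 hyt)
  obtain ⟨P, hP, hAP⟩ := InvCent.exists_invariant_sylP (p := r) hAO hcopA hOodd
  have hTP : zpowers c.t ≤ normalizer (P : Set G) := le_sup_left.trans hAP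
  obtain ⟨g0, hg0, hg0P⟩ :=
    hP0.exists_centralizing_conj hP (zpowers_le.2 htN) hcopT hOodd hTP0 hTP
  have hg0t : c.t * g0 = g0 * c.t := mem_centralizer_iff.1 hg0.2 c.t (mem_zpowers _)
  have hg0H : g0 ∈ c.H := hfixO g0 hg0.1 hg0t
  obtain ⟨y, hy, hyo, hc, hy1, hyi, hyP⟩ : ∃ y', y' ∈ c.W ∧ orderOf y' = r ∧ h * y' = y' * h ∧
      y' ≠ 1 ∧ Inverted c.t y' ∧ y' ∈ P := by
    have hy'W : g0 * y * g0⁻¹ ∈ c.W :=
      (mem_normalizer_iff.1 (c.normalizer_U_le_normalizer_W (c.H_le_normalizer_U hg0H)) y).1 hy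
    refine ⟨g0 * y * g0⁻¹, hy'W, ((MulAut.conj g0).orderOf_eq y).trans hyo, ?_,
      fun e => hy1 (by simpa using e), c.W_inverted hno hy'W, ?_⟩
    · have h1 : g0 * h = h * g0 := c.H_comm hg0H hh
      calc h * (g0 * y * g0⁻¹) = g0 * (h * y) * g0⁻¹ := by rw [← mul_assoc, ← mul_assoc, ← h1]; group
        _ = g0 * (y * h) * g0⁻¹ := by rw [hc]
        _ = g0 * y * (h * g0⁻¹) := by group
        _ = g0 * y * (g0⁻¹ * h) := by
          rw [show h * g0⁻¹ = g0⁻¹ * h from ((show Commute g0 h from h1).inv_left).eq.symm]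
        _ = _ := by group
    · rw [← hg0P]; exact CIT.conj_mem_cj.2 (hyP0 (mem_zpowers y))
  have hPr := hP.isPGroup
  have hPpow : ∀ z ∈ P, ∃ k, orderOf z = r ^ k := fun z hz => by
    obtain ⟨k, hk⟩ := IsPGroup.iff_orderOf.1 hPr ⟨z, hz⟩
    exact ⟨k, by rwa [Subgroup.orderOf_mk] at hk⟩
  have htP : ∀ z ∈ P, c.t * z * c.t⁻¹ ∈ P := fun z hz =>
    (mem_normalizer_iff.1 (hTP (mem_zpowers c.t)) z).1 hz
  have hwP : ∀ z ∈ P, c.w * z * c.w⁻¹ ∈ P := fun z hz =>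
    (mem_normalizer_iff.1 (hAP (mem_sup_right (mem_zpowers c.w))) z).1 hz
  -- the two involutions
  have htw2 : orderOf (c.t * c.w) = 2 := by
    refine orderOf_eq_prime ?_ fun e => c.w_ne_t (by rw [← inv_eq_of_mul_eq_one_right e, c.t_inv])
    rw [(show Commute c.t c.w from htw).mul_pow, pow_two, pow_two, c.t_sq, hw2, one_mul]
  have vanish : ∀ b x : G, c.Good b → b ≠ 1 → (∃ k, orderOf b = r ^ k) → x ∈ P → x * b = b * x →
      Inverted c.t x → (c.w * x = x * c.w ∨ c.t * c.w * x = x * (c.t * c.w)) → x = 1 := by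
    intro b x hb hb1 hbr hx hxb hxi hv
    by_contra hx1
    have hg := c.good_step hno hb hb1 hbr hxb (hPpow x hx) hxi
    rcases hv with hv | hv
    · exact c.good_no_involution hno hg hx1 c.orderOf_w hv
    · exact c.good_no_involution hno hg hx1 htw2 hv
  have hinvw : ∀ z : G, Inverted c.t z → Inverted c.t (c.w * z * c.w⁻¹) := by
    intro z hz
    show c.t * (c.w * z * c.w⁻¹) * c.t⁻¹ = (c.w * z * c.w⁻¹)⁻¹
    rw [show c.t * (c.w * z * c.w⁻¹) * c.t⁻¹ = (c.t * c.w) * z * (c.t * c.w)⁻¹ by group, htw,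
      show c.w * c.t * z * (c.w * c.t)⁻¹ = c.w * (c.t * z * c.t⁻¹) * c.w⁻¹ by group, hz, conj_inv]
  have hinvmul : ∀ a b : G, Inverted c.t a → Inverted c.t b → a * b = b * a → Inverted c.t (a * b) := by
    intro a b ha hb hab
    show c.t * (a * b) * c.t⁻¹ = (a * b)⁻¹
    rw [show c.t * (a * b) * c.t⁻¹ = (c.t * a * c.t⁻¹) * (c.t * b * c.t⁻¹) by group, ha, hb, hab,
      mul_inv_rev]
  -- elements `x` with `x` and its `w`-conjugate commuting with each other and with `y`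
  have split : ∀ x ∈ P, Inverted c.t x → x * y = y * x →
      (c.w * x * c.w⁻¹) * x = x * (c.w * x * c.w⁻¹) → (c.w * x * c.w⁻¹) * y = y * (c.w * x * c.w⁻¹) →
      x = 1 := by
    intro x hx hxi hxy hcomm hwy
    set x' := c.w * x * c.w⁻¹ with hx'
    have ha : x * x' = 1 := by
      refine vanish y _ (c.good_of_mem_W hy) hy1 ⟨1, by rw [hyo, pow_one]⟩ (P.mul_mem hx (hwP x hx))
        ?_ (hinvmul _ _ hxi (hinvw x hxi) hcomm.symm) (Or.inl ?_)
      · rw [mul_assoc, hwy, ← mul_assoc, hxy, mul_assoc]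
      · rw [commute_iff_conj, show c.w * (x * x') * c.w⁻¹ = x' * (c.w * x' * c.w⁻¹) by rw [hx']; group,
          hx', show c.w * (c.w * x * c.w⁻¹) * c.w⁻¹ = (c.w * c.w) * x * (c.w * c.w)⁻¹ by group, hw2,
          one_mul, inv_one, mul_one]
        exact hcomm
    refine vanish y x (c.good_of_mem_W hy) hy1 ⟨1, by rw [hyo, pow_one]⟩ hx hxy hxi (Or.inr ?_)
    rw [commute_iff_conj, show c.t * c.w * x * (c.t * c.w)⁻¹ = c.t * (c.w * x * c.w⁻¹) * c.t⁻¹ by group,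
      ← hx', eq_inv_of_mul_eq_one_right ha, ← conj_inv, hxi, inv_inv]
  have hncomm : c.w * y * c.w⁻¹ * y ≠ y * (c.w * y * c.w⁻¹) := fun e =>
    hy1 (split y hyP hyi rfl e e)
  have hfixP : ∀ f ∈ P, c.t * f = f * c.t → f ∈ c.H := fun f hf hft => hfixO f (hP.le hf) hft
  have hPo : Odd (Nat.card P) := hOodd.of_dvd_nat (card_dvd_of_le hP.le)
  by_cases hrH : r ∣ Nat.card c.H
  swap
  · have hall : ∀ z ∈ P, Inverted c.t z := fun z hz => inverted_of_no_fixed c.t_sq hPo htP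
      (fun f hf hft => by
        obtain ⟨k, hk⟩ := hPpow f hf
        have hd : r ^ k ∣ Nat.card c.H := hk ▸ c.H.orderOf_dvd_natCard (hfixP f hf hft)
        rcases k with - | k
        · exact orderOf_eq_one_iff.1 (by simpa using hk)
        · exact absurd ((dvd_pow_self r k.succ_ne_zero).trans hd) hrH) hz
    exact hncomm (comm_of_inverted hall (hwP y hyP) hyP)
  have hho : orderOf h = r := hcase.resolve_right (fun h' => h' hrH)
  have hh' : ∀ z, z * h = h * z → ∀ a ∈ zpowers h, z * a = a * z := by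
    rintro z hz _ ⟨i, rfl⟩
    exact (show Commute z h from hz).zpow_right i
  have hhP : h ∈ P := by
    have hn : P ≤ normalizer ((zpowers h : Subgroup G) : Set G) := fun z hz =>
      Subgroup.centralizer_le_normalizer _ (mem_centralizer_iff.2 fun a ha =>
        (hh' z (hOh z (hP.le hz)) a ha).symm)
    have hhO : h ∈ O := (hmemO h).2 ⟨(hXmem h).2 rfl, c.odd_card_H.of_dvd_nat (c.H.orderOf_dvd_natCard hh)⟩
    have := hP.eq_of_le (le_sup_left (b := zpowers h)) (sup_le hP.le (zpowers_le.2 hhO))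
      (IsPGroup.to_sup_of_normal_right' hPr
        (IsPGroup.of_card (n := 1) (by rw [Nat.card_zpowers, hho, pow_one])) hn)
    rw [this]
    exact mem_sup_right (mem_zpowers h)
  have hfixr : ∀ f ∈ P, c.t * f = f * c.t → f ^ r = 1 → f ∈ zpowers h := fun f hf hft hfr => by
    haveI := c.isCyclic_H
    exact mem_zpowers_of_cyclic hrp (hfixP f hf hft) hfr hh hho
  -- the centre
  have hcentre : ∀ z ∈ P, z ^ r = 1 → (∀ p ∈ P, p * z = z * p) → z ∈ zpowers h := by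
    intro z hz hzr hzc
    let Zc : Subgroup G :=
      { carrier := {x | x ∈ P ∧ x ^ r = 1 ∧ ∀ p ∈ P, p * x = x * p}
        mul_mem' := by
          rintro a b ⟨ha, har, hac⟩ ⟨hb, hbr, hbc⟩
          refine ⟨P.mul_mem ha hb, ?_, fun p hp => ?_⟩
          · rw [(show Commute a b from hbc a ha).mul_pow, har, hbr, one_mul]
          · exact ((show Commute p a from hac p hp).mul_right (hbc p hp)).eq
        one_mem' := ⟨one_mem _, one_pow _, fun p _ => by simp⟩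
        inv_mem' := by
          rintro a ⟨ha, har, hac⟩
          exact ⟨P.inv_mem ha, by rw [inv_pow, har, inv_one],
            fun p hp => (show Commute p a from hac p hp).inv_right.eq⟩ }
    have hZt : ∀ x ∈ Zc, c.t * x * c.t⁻¹ ∈ Zc := by
      rintro x ⟨hx, hxr, hxc⟩
      refine ⟨htP x hx, by rw [conj_pow, hxr]; group, fun p hp => ?_⟩
      have hp' : c.t * p * c.t⁻¹ ∈ P := htP p hp
      have e := (show Commute (c.t * p * c.t⁻¹) x from hxc _ hp').map (MulAut.conj c.t)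
      rw [MulAut.conj_apply, MulAut.conj_apply, show c.t * (c.t * p * c.t⁻¹) * c.t⁻¹
        = (c.t * c.t) * p * (c.t * c.t)⁻¹ by group, c.t_sq, one_mul, inv_one, mul_one] at e
      exact e.eq
    obtain ⟨f, i, hf, hi, hft, hinv, rfl⟩ := exists_fixed_mul_inverted c.t_sq
      (hPo.of_dvd_nat (card_dvd_of_le (fun x (hx : x ∈ Zc) => hx.1))) hZt
      (show z ∈ Zc from ⟨hz, hzr, hzc⟩)
    have hi1 : i = 1 := by
      refine split i hi.1 hinv (hi.2.2 y hyP).symm (hi.2.2 _ (hwP i hi.1)) ?_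
      have hp' : c.w * y * c.w⁻¹ ∈ P := hwP y hyP
      have e := (show Commute (c.w * y * c.w⁻¹) i from hi.2.2 _ hp').map (MulAut.conj c.w)
      rw [MulAut.conj_apply, MulAut.conj_apply, show c.w * (c.w * y * c.w⁻¹) * c.w⁻¹
        = (c.w * c.w) * y * (c.w * c.w)⁻¹ by group, hw2, one_mul, inv_one, mul_one] at e
      exact e.eq.symm
    rw [hi1, mul_one]
    exact hfixr f hf.1 hft hf.2.1
  -- relative second centre
  let S : Subgroup G :=
    { carrier := {x | x ∈ P ∧ ∀ p ∈ P, x * p * x⁻¹ * p⁻¹ ∈ zpowers h}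
      mul_mem' := by
        rintro a b ⟨ha, hac⟩ ⟨hb, hbc⟩
        refine ⟨P.mul_mem ha hb, fun p hp => ?_⟩
        have e := hh' a (hOh a (hP.le ha)) _ (hbc p hp)
        rw [show a * b * p * (a * b)⁻¹ * p⁻¹
          = (a * (b * p * b⁻¹ * p⁻¹)) * a⁻¹ * (a * p * a⁻¹ * p⁻¹) by group, e, mul_inv_cancel_right]
        exact mul_mem (hbc p hp) (hac p hp)
      one_mem' := ⟨one_mem _, fun p _ => by simp⟩
      inv_mem' := by
        rintro a ⟨ha, hac⟩
        refine ⟨P.inv_mem ha, fun p hp => ?_⟩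
        have e := hh' a⁻¹ (hOh _ (O.inv_mem (hP.le ha))) _ (inv_mem (hac p hp))
        rw [show a⁻¹ * p * a⁻¹⁻¹ * p⁻¹ = a⁻¹ * (a * p * a⁻¹ * p⁻¹)⁻¹ * a by group, e, mul_assoc,
          inv_mul_cancel, mul_one]
        exact inv_mem (hac p hp) }
  obtain ⟨e0, he0, he0r, he0h⟩ : ∃ e0 ∈ S, e0 ^ r = 1 ∧ e0 ∉ zpowers h := by
    have hnc : ¬ IsCyclic P := fun hcyc => by
      haveI := hcyc
      haveI := IsCyclic.commutative (α := P)
      exact hncomm (congrArg Subtype.val (mul_comm' (⟨_, hwP y hyP⟩ : P) ⟨y, hyP⟩))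
    obtain ⟨A0, hA0n, hA0e, hA0c⟩ := Transfer.exists_normal_elementary_card_sq hr2 hPr hnc
    haveI := hA0n
    have hA0c' : Nat.card A0 ≠ 1 := by
      rw [hA0c]; exact (Nat.one_lt_pow (by norm_num) hrp.one_lt).ne'
    have h2 := PGroups.inf_center_ne_bot hPr (N := A0) (fun e => hA0c' (by rw [e, Subgroup.card_bot]))
    obtain ⟨⟨z, hzA, hzc⟩, hz1⟩ := Subgroup.ne_bot_iff_exists_ne_one.1 h2
    have hz1' : (z : G) ≠ 1 := fun e => hz1 (Subtype.ext (Subtype.ext e))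
    have hzr : (z : G) ^ r = 1 := congrArg Subtype.val (hA0e.2 z hzA)
    have hzh := hcentre z z.2 hzr fun p hp =>
      congrArg Subtype.val (Subgroup.mem_center_iff.1 hzc ⟨p, hp⟩)
    set A1 := A0.map P.subtype with hA1
    have hhA : zpowers h ≤ A1 := by
      have : zpowers (z : G) = zpowers h := eq_of_le_of_card_ge (zpowers_le.2 hzh) (by
        rw [Nat.card_zpowers, Nat.card_zpowers, hho, orderOf_eq_prime hzr hz1'])
      rw [← this, zpowers_le]
      exact ⟨z, hzA, rfl⟩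
    obtain ⟨a, ha, hah, hac⟩ := exists_rel_center hPr hhA (map_subtype_le _) (fun hle => by
        have := card_le_of_le hle
        rw [card_map_of_injective P.subtype_injective, hA0c, Nat.card_zpowers, hho] at this
        have h3 : r ^ 1 < r ^ 2 := Nat.pow_lt_pow_right hrp.one_lt (by norm_num)
        rw [pow_one] at h3; omega)
      (fun g hg d hd => by rw [hh' g (hOh g (hP.le hg)) d hd, mul_inv_cancel_right]; exact hd)
      (by
        rintro g hg _ ⟨d, hd, rfl⟩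
        exact ⟨⟨g, hg⟩ * d * ⟨g, hg⟩⁻¹, hA0n.conj_mem d hd _, rfl⟩)
    obtain ⟨a', ha', rfl⟩ := ha
    refine ⟨_, ⟨a'.2, fun p hp => ?_⟩, congrArg Subtype.val (hA0e.2 a' ha'), hah⟩
    have := inv_mem (hac p hp)
    simpa [mul_assoc] using this
  -- an eigenvector in the relative second centre
  obtain ⟨v, hvcase, c1, hc1S, hc1o, hvc1⟩ : ∃ v, (v = c.w ∨ v = c.t * c.w) ∧
      ∃ c1 ∈ S, orderOf c1 = r ∧ v * c1 = c1 * v := by
    by_contra hcon
    push Not at hcon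
    have hnf : ∀ v, (v = c.w ∨ v = c.t * c.w) → ∀ x ∈ S, v * x = x * v → x = 1 := by
      intro v hv x hx hvx
      by_contra hx1
      obtain ⟨k, hk⟩ := hPpow x hx.1
      rcases k with - | k
      · exact hx1 (orderOf_eq_one_iff.1 (by simpa using hk))
      · exact hcon v hv _ (S.pow_mem hx (orderOf x / r))
          (orderOf_pow_orderOf_div (orderOf_pos x).ne' (hk ▸ dvd_pow_self r k.succ_ne_zero))
          (Commute.pow_right hvx _)
    have hSt : ∀ g : G, (∀ z ∈ P, g * z * g⁻¹ ∈ P) → g * g = 1 →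
        (g * h * g⁻¹ = h ∨ g * h * g⁻¹ = h⁻¹) → ∀ x ∈ S, g * x * g⁻¹ ∈ S := by
      rintro g hgP hg2 hgh x ⟨hx, hxc⟩
      refine ⟨hgP x hx, fun p hp => ?_⟩
      have hp' := hxc _ (hgP p hp)
      have hmap : g * (x * (g * p * g⁻¹) * x⁻¹ * (g * p * g⁻¹)⁻¹) * g⁻¹ ∈ zpowers h := by
        obtain ⟨i, hi⟩ := hp'
        rw [← hi]
        show g * h ^ i * g⁻¹ ∈ _
        rw [← conj_zpow]
        rcases hgh with e | e <;> rw [e]
        · exact zpow_mem (mem_zpowers h) i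
        · exact zpow_mem (inv_mem (mem_zpowers h)) i
      have e2 : g⁻¹ = g := inv_eq_of_mul_eq_one_right hg2
      have e3 : g * (x * (g * p * g⁻¹) * x⁻¹ * (g * p * g⁻¹)⁻¹) * g⁻¹
          = g * x * g * p * g⁻¹ * x⁻¹ * g * p⁻¹ * (g * g)⁻¹ := by group
      rw [e3, hg2, inv_one, mul_one] at hmap
      have e4 : g * x * g⁻¹ * p * (g * x * g⁻¹)⁻¹ * p⁻¹
          = g * x * g * p * g⁻¹ * x⁻¹ * g * p⁻¹ := by
        rw [show g * x * g⁻¹ * p * (g * x * g⁻¹)⁻¹ * p⁻¹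
          = g * x * g⁻¹ * p * g * x⁻¹ * g⁻¹ * p⁻¹ by group]
        simp only [e2]
      rw [e4]; exact hmap
    have hSo : Odd (Nat.card S) := hPo.of_dvd_nat (card_dvd_of_le (fun x (hx : x ∈ S) => hx.1))
    have htwP : ∀ z ∈ P, c.t * c.w * z * (c.t * c.w)⁻¹ ∈ P := fun z hz => by
      rw [show c.t * c.w * z * (c.t * c.w)⁻¹ = c.t * (c.w * z * c.w⁻¹) * c.t⁻¹ by group]
      exact htP _ (hwP z hz)
    have htw2' : c.t * c.w * (c.t * c.w) = 1 := by
      rw [← pow_two]; exact orderOf_dvd_iff_pow_eq_one.1 (dvd_of_eq htw2)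
    have htwh : c.t * c.w * h * (c.t * c.w)⁻¹ = h⁻¹ := by
      rw [show c.t * c.w * h * (c.t * c.w)⁻¹ = c.t * (c.w * h * c.w⁻¹) * c.t⁻¹ by group, c.w_inv_H hh,
        commute_iff_conj.1 (c.mem_Ct.1 (c.Ct.inv_mem hhC)).symm]
    have h1 := inverted_of_no_fixed hw2 hSo (hSt _ hwP hw2 (Or.inr (c.w_inv_H hh))) (hnf _ (Or.inl rfl)) he0
    have h2 := inverted_of_no_fixed htw2' hSo (hSt _ htwP htw2' (Or.inr htwh)) (hnf _ (Or.inr rfl)) he0
    refine he0h (hfixr e0 he0.1 ?_ he0r)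
    unfold Inverted at h1 h2
    rw [show c.t * c.w * e0 * (c.t * c.w)⁻¹ = c.t * (c.w * e0 * c.w⁻¹) * c.t⁻¹ by group, h1] at h2
    rw [commute_iff_conj, show c.t * e0 * c.t⁻¹ = (c.t * e0⁻¹ * c.t⁻¹)⁻¹ by group, h2, inv_inv]
  have hv2 : orderOf v = 2 := by rcases hvcase with rfl | rfl <;> [exact c.orderOf_w; exact htw2]
  have hvv : v * v = 1 := by rw [← pow_two]; exact orderOf_dvd_iff_pow_eq_one.1 (dvd_of_eq hv2)
  have hvt : v * c.t = c.t * v := by
    rcases hvcase with rfl | rfl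
    · exact htw.symm
    · rw [mul_assoc, ← htw, ← mul_assoc, mul_assoc]
  have hvh : ∀ x ∈ c.H, v * x * v⁻¹ = x⁻¹ := by
    intro x hx
    rcases hvcase with rfl | rfl
    · exact c.w_inv_H hx
    · rw [show c.t * c.w * x * (c.t * c.w)⁻¹ = c.t * (c.w * x * c.w⁻¹) * c.t⁻¹ by group, c.w_inv_H hx,
        commute_iff_conj.1 (c.mem_Ct.1 (c.Ct.inv_mem (c.H_le_Ct hx))).symm]
  have hvP : ∀ z ∈ P, v * z * v⁻¹ ∈ P := by
    intro z hz
    rcases hvcase with rfl | rfl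
    · exact hwP z hz
    · rw [show c.t * c.w * z * (c.t * c.w)⁻¹ = c.t * (c.w * z * c.w⁻¹) * c.t⁻¹ by group]
      exact htP _ (hwP z hz)
  have hvanish : ∀ b x : G, c.Good b → b ≠ 1 → (∃ k, orderOf b = r ^ k) → x ∈ P → x * b = b * x →
      Inverted c.t x → v * x = x * v → x = 1 := by
    intro b x hb hb1 hbr hx hxb hxi hvx
    refine vanish b x hb hb1 hbr hx hxb hxi ?_
    rcases hvcase with rfl | rfl
    · exact Or.inl hvx
    · exact Or.inr hvx
  set Pv : Subgroup G := P ⊓ centralizer ({v} : Set G) with hPv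
  have hPvo : Odd (Nat.card Pv) := hPo.of_dvd_nat (card_dvd_of_le inf_le_left)
  have hPvt : ∀ z ∈ Pv, c.t * z * c.t⁻¹ ∈ Pv := by
    rintro z ⟨hz, hzv⟩
    refine ⟨htP z hz, mem_centralizer_singleton_iff.2 ?_⟩
    have e := (show Commute z v from mem_centralizer_singleton_iff.1 hzv).map (MulAut.conj c.t)
    rw [MulAut.conj_apply, MulAut.conj_apply, commute_iff_conj.1 hvt.symm] at e
    exact e.eq
  have hPvinv : ∀ z ∈ Pv, Inverted c.t z := fun z hz => inverted_of_no_fixed c.t_sq hPvo hPvt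
    (fun f hf hft => by
      have hfH := hfixP f hf.1 hft
      have e := hvh f hfH
      rw [commute_iff_conj.1 (mem_centralizer_singleton_iff.1 hf.2).symm] at e
      have hfo := hPvo.of_dvd_nat (Pv.orderOf_dvd_natCard hf)
      have h2 : f ^ 2 = 1 := by rw [pow_two]; nth_rewrite 2 [e]; exact mul_inv_cancel f
      rcases (Nat.dvd_prime Nat.prime_two).1 (orderOf_dvd_of_pow_eq_one h2) with e' | e'
      · exact orderOf_eq_one_iff.1 e'
      · rw [e'] at hfo; exact absurd hfo (by decide)) hz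
  haveI hPvc : IsCyclic Pv := by
    obtain ⟨c', hc'⟩ := c.exists_move hv2
    have hle : Pv ≤ c'.K := c'.le_K_of_odd (fun z hz => c'.mem_Ct.2 (by
      rw [hc']; exact mem_centralizer_singleton_iff.1 hz.2)) hPvo
    haveI := isCyclic_of_isPGroup r hr2 hr3 ((hPr.to_le (inf_le_left : Pv ≤ P)).comap_of_injective
      c'.ι c'.inj)
    have hmap : (Pv.comap c'.ι).map c'.ι = Pv := map_comap_eq_self hle
    haveI := isCyclic_of_surjective (c'.ι.subgroupMap (Pv.comap c'.ι)) (c'.ι.subgroupMap_surjective _)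
    exact isCyclic_of_surjective (MulEquiv.subgroupCongr hmap).toMonoidHom
      (MulEquiv.subgroupCongr hmap).surjective
  have hc1P : c1 ∈ P := hc1S.1
  have hc1v : c1 ∈ Pv := ⟨hc1P, mem_centralizer_singleton_iff.2 hvc1.symm⟩
  have hc1i : Inverted c.t c1 := hPvinv c1 hc1v
  have hc1r : c1 ^ r = 1 := by rw [← hc1o, pow_orderOf_eq_one]
  have hc11 : c1 ≠ 1 := fun e => hrp.ne_one (by rw [← hc1o, e, orderOf_one])
  have huniq : ∀ z ∈ P, v * z = z * v → z ^ r = 1 → z ∈ zpowers c1 := fun z hz hzv hzr =>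
    mem_zpowers_of_cyclic hrp (L := Pv) ⟨hz, mem_centralizer_singleton_iff.2 hzv.symm⟩ hzr hc1v hc1o
  have hhfix : ∀ a ∈ zpowers h, c.t * a * c.t⁻¹ = a := fun a ha =>
    commute_iff_conj.1 (c.mem_Ct.1 (c.H_le_Ct (zpowers_le.2 hh ha))).symm
  have hodd_one : ∀ a : G, a ∈ P → a = a⁻¹ → a = 1 := by
    intro a ha e
    have hao := hPo.of_dvd_nat (P.orderOf_dvd_natCard ha)
    have h2 : a ^ 2 = 1 := by rw [pow_two]; nth_rewrite 2 [e]; exact mul_inv_cancel a
    rcases (Nat.dvd_prime Nat.prime_two).1 (orderOf_dvd_of_pow_eq_one h2) with e' | e'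
    · exact orderOf_eq_one_iff.1 e'
    · rw [e'] at hao; exact absurd hao (by decide)
  have hc1h : c1 ∉ zpowers h := fun h' => hc11
    (hodd_one c1 hc1P ((hhfix c1 h').symm.trans hc1i))
  -- the centraliser of `c1` in `P`
  have hφmem : ∀ p ∈ P, p * c1 * p⁻¹ * c1⁻¹ ∈ zpowers h := fun p hp => by
    simpa [mul_assoc] using inv_mem (hc1S.2 p hp)
  let φ : P →* zpowers h :=
    { toFun := fun p => ⟨p * c1 * (p : G)⁻¹ * c1⁻¹, hφmem p p.2⟩
      map_one' := Subtype.ext (by simp)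
      map_mul' := fun p q => Subtype.ext (by
        show (p : G) * q * c1 * ((p : G) * q)⁻¹ * c1⁻¹
          = (p * c1 * (p : G)⁻¹ * c1⁻¹) * (q * c1 * (q : G)⁻¹ * c1⁻¹)
        have e := hh' p (hOh p (hP.le p.2)) _ (hφmem q q.2)
        have e2 : (p * c1 * (p : G)⁻¹ * c1⁻¹) * (q * c1 * (q : G)⁻¹ * c1⁻¹)
            = (q * c1 * (q : G)⁻¹ * c1⁻¹) * (p * c1 * (p : G)⁻¹ * c1⁻¹) := by
          obtain ⟨i, hi⟩ := hφmem p p.2
          obtain ⟨j, hj⟩ := hφmem q q.2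
          rw [← hi, ← hj]
          exact (Commute.refl h).zpow_zpow i j
        rw [e2, show (p : G) * q * c1 * ((p : G) * q)⁻¹ * c1⁻¹
          = (p * (q * c1 * (q : G)⁻¹ * c1⁻¹)) * (p : G)⁻¹ * (p * c1 * (p : G)⁻¹ * c1⁻¹) by group, e,
          mul_inv_cancel_right]) }
  set Q : Subgroup G := P ⊓ centralizer ({c1} : Set G) with hQ
  have hker : φ.ker = Q.subgroupOf P := by
    ext p
    rw [MonoidHom.mem_ker, mem_subgroupOf, hQ, mem_inf, mem_centralizer_singleton_iff]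
    constructor
    · intro e
      refine ⟨p.2, commute_iff_conj.2 ?_⟩
      exact mul_inv_eq_one.1 (congrArg Subtype.val e)
    · rintro ⟨-, e⟩
      exact Subtype.ext (mul_inv_eq_one.2 (commute_iff_conj.1 e))
  have hPQ : Nat.card P ≤ r * Nat.card Q := by
    rw [← φ.ker.card_mul_index, index_ker, hker, Fusion.card_subgroupOf_eq inf_le_left, mul_comm]
    exact Nat.mul_le_mul_right _ ((Nat.card_le_card_of_injective _ Subtype.val_injective).trans
      (by rw [Nat.card_zpowers, hho]))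
  have hQn : ∀ g ∈ P, ∀ q ∈ Q, g * q * g⁻¹ ∈ Q := by
    intro g hg q hq
    have h1 : (⟨q, hq.1⟩ : P) ∈ φ.ker := by rw [hker]; exact mem_subgroupOf.2 hq
    have h2 := (MonoidHom.normal_ker φ).conj_mem _ h1 ⟨g, hg⟩
    rw [hker] at h2
    exact mem_subgroupOf.1 h2
  have hyc1 : y * c1 * y⁻¹ * c1⁻¹ ≠ 1 := fun e => hc11
    (hvanish y c1 (c.good_of_mem_W hy) hy1 ⟨1, by rw [hyo, pow_one]⟩ hc1P
      (commute_iff_conj.2 (mul_inv_eq_one.1 e)).symm hc1i hvc1)
  have hhQ : h ∈ Q := ⟨hhP, mem_centralizer_singleton_iff.2 (hOh c1 (hP.le hc1P)).symm⟩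
  have hc1Q : c1 ∈ Q := ⟨hc1P, mem_centralizer_singleton_iff.2 rfl⟩
  let Z : Subgroup G :=
    { carrier := {z | z ∈ Q ∧ z ^ r = 1 ∧ ∀ p ∈ Q, p * z = z * p}
      mul_mem' := by
        rintro a b ⟨ha, har, hac⟩ ⟨hb, hbr, hbc⟩
        refine ⟨Q.mul_mem ha hb, ?_, fun p hp => ?_⟩
        · rw [(show Commute a b from hbc a ha).mul_pow, har, hbr, one_mul]
        · exact ((show Commute p a from hac p hp).mul_right (hbc p hp)).eq
      one_mem' := ⟨one_mem _, one_pow _, fun p _ => by simp⟩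
      inv_mem' := by
        rintro a ⟨ha, har, hac⟩
        exact ⟨Q.inv_mem ha, by rw [inv_pow, har, inv_one],
          fun p hp => (show Commute p a from hac p hp).inv_right.eq⟩ }
  set D : Subgroup G := zpowers h ⊔ zpowers c1 with hD
  have hhZ : h ∈ Z := ⟨hhQ, by rw [← hho, pow_orderOf_eq_one], fun p hp => hOh p (hP.le hp.1)⟩
  have hc1Z : c1 ∈ Z := ⟨hc1Q, hc1r, fun p hp => mem_centralizer_singleton_iff.1 hp.2⟩
  have hDZ : D ≤ Z := sup_le (zpowers_le.2 hhZ) (zpowers_le.2 hc1Z)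
  have hZcomm : ∀ a ∈ Z, ∀ b ∈ Z, a * b = b * a := fun a ha b hb => hb.2.2 a ha.1
  have hZconj : ∀ g : G, (∀ q ∈ Q, g * q * g⁻¹ ∈ Q) → (∀ q ∈ Q, g⁻¹ * q * g ∈ Q) →
      ∀ z ∈ Z, g * z * g⁻¹ ∈ Z := by
    rintro g hg hg' z ⟨hz, hzr, hzc⟩
    refine ⟨hg z hz, by rw [conj_pow, hzr]; group, fun p hp => ?_⟩
    have e := (show Commute (g⁻¹ * p * g) z from hzc _ (hg' p hp)).map (MulAut.conj g)
    rw [MulAut.conj_apply, MulAut.conj_apply, show g * (g⁻¹ * p * g) * g⁻¹ = p by group] at e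
    exact e.eq
  have hQconj : ∀ g : G, g * g = 1 → (∀ z ∈ P, g * z * g⁻¹ ∈ P) → (g * c1 * g⁻¹ = c1 ∨
      g * c1 * g⁻¹ = c1⁻¹) → (∀ q ∈ Q, g * q * g⁻¹ ∈ Q) ∧ (∀ q ∈ Q, g⁻¹ * q * g ∈ Q) := by
    intro g hg2 hgP hgc
    have h1 : ∀ q ∈ Q, g * q * g⁻¹ ∈ Q := by
      rintro q ⟨hq, hqc⟩
      refine ⟨hgP q hq, mem_centralizer_singleton_iff.2 ?_⟩
      have e := (show Commute q c1 from mem_centralizer_singleton_iff.1 hqc).map (MulAut.conj g)
      rw [MulAut.conj_apply, MulAut.conj_apply] at e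
      rcases hgc with e' | e' <;> rw [e'] at e
      · exact e.eq
      · simpa using e.inv_right.eq
    refine ⟨h1, fun q hq => ?_⟩
    have e : g⁻¹ = g := inv_eq_of_mul_eq_one_right hg2
    have := h1 q hq
    rw [e] at this ⊢
    exact this
  have hvc1' : v * c1 * v⁻¹ = c1 := commute_iff_conj.1 hvc1
  have hQt := hQconj c.t c.t_sq htP (Or.inr hc1i)
  have hQv := hQconj v hvv hvP (Or.inl hvc1')
  have hDn : ∀ g ∈ P, ∀ d ∈ D, g * d * g⁻¹ ∈ D := by
    intro g hg d hd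
    have hmap : D.map (MulAut.conj g).toMonoidHom ≤ D := by
      rw [hD, Subgroup.map_sup, MonoidHom.map_zpowers, MonoidHom.map_zpowers]
      refine sup_le (zpowers_le.2 ?_) (zpowers_le.2 ?_)
      · show g * h * g⁻¹ ∈ _
        rw [hOh g (hP.le hg), mul_inv_cancel_right]
        exact mem_sup_left (mem_zpowers h)
      · show g * c1 * g⁻¹ ∈ _
        rw [show g * c1 * g⁻¹ = (g * c1 * g⁻¹ * c1⁻¹) * c1 by group]
        exact mul_mem (mem_sup_left (hφmem g hg)) (mem_sup_right (mem_zpowers c1))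
    exact hmap (mem_map_of_mem _ hd)
  have hZD : Z ≤ D := by
    by_contra hne
    obtain ⟨z0, hz0, hz0D, hz0c⟩ := exists_rel_center hPr hDZ (fun z hz => hz.1.1) hne hDn
      (fun g hg a ha => hZconj g (hQn g hg) (fun q hq => by
        simpa using hQn g⁻¹ (P.inv_mem hg) q hq) a ha)
    let Z2 : Subgroup G :=
      { carrier := {z | z ∈ Z ∧ ∀ p ∈ P, p * z * p⁻¹ * z⁻¹ ∈ D}
        mul_mem' := by
          rintro a b ⟨ha, hac⟩ ⟨hb, hbc⟩
          refine ⟨Z.mul_mem ha hb, fun p hp => ?_⟩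
          have e := hZcomm a ha _ (hDZ (hbc p hp))
          rw [show p * (a * b) * p⁻¹ * (a * b)⁻¹
            = (p * a * p⁻¹ * a⁻¹) * ((a * (p * b * p⁻¹ * b⁻¹)) * a⁻¹) by group, e, mul_inv_cancel_right]
          exact mul_mem (hac p hp) (hbc p hp)
        one_mem' := ⟨one_mem _, fun p _ => by simp⟩
        inv_mem' := by
          rintro a ⟨ha, hac⟩
          refine ⟨Z.inv_mem ha, fun p hp => ?_⟩
          have e := hZcomm a⁻¹ (Z.inv_mem ha) _ (hDZ (inv_mem (hac p hp)))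
          rw [show p * a⁻¹ * p⁻¹ * a⁻¹⁻¹ = a⁻¹ * (p * a * p⁻¹ * a⁻¹)⁻¹ * a by group, e, mul_assoc,
            inv_mul_cancel, mul_one]
          exact inv_mem (hac p hp) }
    have hDconj : ∀ g : G, g * h * g⁻¹ ∈ D → g * c1 * g⁻¹ ∈ D → ∀ d ∈ D, g * d * g⁻¹ ∈ D := by
      intro g h1 h2 d hd
      have hmap : D.map (MulAut.conj g).toMonoidHom ≤ D := by
        rw [hD, Subgroup.map_sup, MonoidHom.map_zpowers, MonoidHom.map_zpowers]
        exact sup_le (zpowers_le.2 h1) (zpowers_le.2 h2)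
      exact hmap (mem_map_of_mem _ hd)
    have hZ2conj : ∀ g : G, (∀ q ∈ Q, g * q * g⁻¹ ∈ Q) → (∀ q ∈ Q, g⁻¹ * q * g ∈ Q) →
        g * g = 1 → (∀ p ∈ P, g * p * g⁻¹ ∈ P) → (∀ d ∈ D, g * d * g⁻¹ ∈ D) →
        ∀ z ∈ Z2, g * z * g⁻¹ ∈ Z2 := by
      rintro g hg hg' hg2 hgP hgD z ⟨hz, hzc⟩
      refine ⟨hZconj g hg hg' z hz, fun p hp => ?_⟩
      have e : g⁻¹ = g := inv_eq_of_mul_eq_one_right hg2
      have h1 := hgD _ (hzc _ (hgP p hp))
      have e3 : g * (g * p * g⁻¹ * z * (g * p * g⁻¹)⁻¹ * z⁻¹) * g⁻¹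
          = (g * g) * p * g⁻¹ * z * g * p⁻¹ * g⁻¹ * z⁻¹ * g⁻¹ := by group
      rw [e3, hg2, one_mul] at h1
      have e4 : p * (g * z * g⁻¹) * p⁻¹ * (g * z * g⁻¹)⁻¹
          = p * g⁻¹ * z * g * p⁻¹ * g⁻¹ * z⁻¹ * g⁻¹ := by
        rw [show p * (g * z * g⁻¹) * p⁻¹ * (g * z * g⁻¹)⁻¹
          = p * g * z * g⁻¹ * p⁻¹ * g * z⁻¹ * g⁻¹ by group]
        simp only [e]
      rw [e4]; exact h1
    have hvD : ∀ d ∈ D, v * d * v⁻¹ ∈ D := hDconj v
      (by rw [hvh h hh]; exact inv_mem (mem_sup_left (mem_zpowers h)))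
      (by rw [hvc1']; exact mem_sup_right (mem_zpowers c1))
    have htD : ∀ d ∈ D, c.t * d * c.t⁻¹ ∈ D := hDconj c.t
      (by rw [hhfix h (mem_zpowers h)]; exact mem_sup_left (mem_zpowers h))
      (by rw [hc1i]; exact inv_mem (mem_sup_right (mem_zpowers c1)))
    obtain ⟨f, i, hf, hi, hft, hinv, e⟩ := exists_fixed_mul_inverted c.t_sq
      (hPo.of_dvd_nat (card_dvd_of_le (fun x (hx : x ∈ Z2) => hx.1.1.1)))
      (hZ2conj c.t hQt.1 hQt.2 c.t_sq htP htD) (show z0 ∈ Z2 from ⟨hz0, hz0c⟩)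
    have hfD : f ∈ D := mem_sup_left (hfixr f hf.1.1.1 hft hf.1.2.1)
    have hiD : i ∉ D := fun h' => hz0D (e ▸ D.mul_mem hfD h')
    set i' := v * i * v⁻¹ with hi'
    have hi'Z : i' ∈ Z2 := hZ2conj v hQv.1 hQv.2 hvv hvP hvD i hi
    have hii' := hZcomm i hi.1 i' hi'Z.1
    have hi'inv : Inverted c.t i' := by
      show c.t * (v * i * v⁻¹) * c.t⁻¹ = (v * i * v⁻¹)⁻¹
      rw [show c.t * (v * i * v⁻¹) * c.t⁻¹ = (c.t * v) * i * (c.t * v)⁻¹ by group, ← hvt,
        show v * c.t * i * (v * c.t)⁻¹ = v * (c.t * i * c.t⁻¹) * v⁻¹ by group, hinv, conj_inv]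
    have hvi' : v * i' * v⁻¹ = i := by
      rw [hi', show v * (v * i * v⁻¹) * v⁻¹ = (v * v) * i * (v * v)⁻¹ by group, hvv]
      group
    have haD : i * i' ∈ D := by
      refine mem_sup_right (huniq _ (P.mul_mem hi.1.1.1 hi'Z.1.1.1) (commute_iff_conj.2 ?_) ?_)
      · rw [show v * (i * i') * v⁻¹ = (v * i * v⁻¹) * (v * i' * v⁻¹) by group, ← hi', hvi']
        exact hii'.symm
      · rw [(show Commute i i' from hii').mul_pow, hi.1.2.1, hi'Z.1.2.1, one_mul]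
    set c' := i * i'⁻¹ with hc'
    have hc'D : c' ∉ D := by
      intro h'
      have hsq : i * i ∈ D := by
        have := D.mul_mem h' haD
        rwa [hc', show i * i'⁻¹ * (i * i') = i * (i'⁻¹ * i) * i' by group,
          show i'⁻¹ * i = i * i'⁻¹ from ((show Commute i i' from hii').inv_right).eq.symm,
          show i * (i * i'⁻¹) * i' = i * i by group] at this
      obtain ⟨z, hz, hzz⟩ := exists_sq (x := i) (hPo.of_dvd_nat (P.orderOf_dvd_natCard hi.1.1.1))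
      obtain ⟨n, rfl⟩ := hz
      refine hiD ?_
      rw [← hzz, ← ((Commute.refl i).mul_zpow n)]
      exact zpow_mem hsq n
    have hc'Z : c' ∈ Z2 := Z2.mul_mem hi (Z2.inv_mem hi'Z)
    have hc'i : Inverted c.t c' :=
      hinvmul _ _ hinv hi'inv.inv ((show Commute i i' from hii').inv_right.eq)
    have hyD := hc'Z.2 y hyP
    have hnc : zpowers c1 ≤ normalizer ((zpowers h : Subgroup G) : Set G) := by
      rw [zpowers_le]
      exact Subgroup.centralizer_le_normalizer _ (mem_centralizer_iff.2 fun a ha =>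
        (hh' c1 (hOh c1 (hP.le hc1P)) a ha).symm)
    obtain ⟨a, ha, b, hb, hab⟩ :=
      (Core.mem_sup_iff_mul' hnc).1 ((sup_comm (zpowers h) (zpowers c1)).le hyD)
    have hbS : b ∈ S := zpowers_le.2 hc1S hb
    have hbi : Inverted c.t b := hc1i.mem_of_zpowers hb
    set β := y * b * y⁻¹ * b⁻¹ with hβdef
    have hβ : β ∈ zpowers h := by simpa [hβdef, mul_assoc] using inv_mem (hbS.2 y hyP)
    have hyh : y * h = h * y := hc.symm
    -- compare with the image under `t`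
    have e1 : y * c' * y⁻¹ = a * b * c' := by rw [← hab]; group
    have e1' : y⁻¹ * c'⁻¹ * y = a * b⁻¹ * c'⁻¹ := by
      have := congrArg (fun x => c.t * x * c.t⁻¹) e1
      rw [show c.t * (y * c' * y⁻¹) * c.t⁻¹
          = (c.t * y * c.t⁻¹) * (c.t * c' * c.t⁻¹) * (c.t * y * c.t⁻¹)⁻¹ by group, hyi, hc'i, inv_inv,
        show c.t * (a * b * c') * c.t⁻¹
          = (c.t * a * c.t⁻¹) * (c.t * b * c.t⁻¹) * (c.t * c' * c.t⁻¹) by group, hhfix a ha, hbi,
        hc'i] at this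
      exact this
    have hb2 : b⁻¹ * β⁻¹ * b⁻¹ = 1 := by
      have hya : y * a * y⁻¹ = a := by rw [hh' y hyh a ha, mul_inv_cancel_right]
      have hyb : y * b⁻¹ * y⁻¹ = b⁻¹ * β⁻¹ := by rw [hβdef]; group
      have hyc : y * c'⁻¹ * y⁻¹ = c'⁻¹ * (a * b)⁻¹ := by
        rw [← conj_inv, e1, mul_inv_rev]
      have e3 : c'⁻¹ = a * (b⁻¹ * β⁻¹) * (c'⁻¹ * (a * b)⁻¹) := by
        calc c'⁻¹ = y * (y⁻¹ * c'⁻¹ * y) * y⁻¹ := by group
          _ = y * (a * b⁻¹ * c'⁻¹) * y⁻¹ := by rw [e1']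
          _ = (y * a * y⁻¹) * (y * b⁻¹ * y⁻¹) * (y * c'⁻¹ * y⁻¹) := by group
          _ = _ := by rw [hya, hyb, hyc]
      have haZ : a ∈ Z := zpowers_le.2 hhZ ha
      have hbZ : b ∈ Z := zpowers_le.2 hc1Z hb
      have hβZ : β ∈ Z := zpowers_le.2 hhZ hβ
      set X1 := a * (b⁻¹ * β⁻¹) with hX1
      have hX1Z : X1 ∈ Z := Z.mul_mem haZ (Z.mul_mem (Z.inv_mem hbZ) (Z.inv_mem hβZ))
      rw [← mul_assoc X1, hZcomm X1 hX1Z _ (Z.inv_mem hc'Z.1), mul_assoc] at e3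
      have e4 : X1 * (a * b)⁻¹ = 1 := mul_left_cancel (a := c'⁻¹) (by rw [mul_one]; exact e3.symm)
      rw [hX1, show a * (b⁻¹ * β⁻¹) * (a * b)⁻¹ = a * (b⁻¹ * β⁻¹ * b⁻¹) * a⁻¹ by group] at e4
      have := congrArg (fun x => a⁻¹ * x * a) e4
      simpa [mul_assoc] using this
    have hb1 : b = 1 := by
      have e5 : β⁻¹ = b * b := by
        rw [show β⁻¹ = b * (b⁻¹ * β⁻¹ * b⁻¹) * b by group, hb2, mul_one]
      have hbb : c.t * (b * b) * c.t⁻¹ = b * b := by rw [← e5]; exact hhfix _ (inv_mem hβ)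
      have hbP : b ∈ P := zpowers_le.2 hc1P hb
      have hbo := hPo.of_dvd_nat (P.orderOf_dvd_natCard hbP)
      have h1 : b * b = 1 := by
        refine hodd_one _ (P.mul_mem hbP hbP) (hbb.symm.trans ?_)
        exact hinvmul b b hbi hbi rfl
      exact hodd_one b hbP (eq_inv_of_mul_eq_one_left h1)
    rw [hb1, mul_one] at hab
    -- a combination commuting with `y`
    set γ := y * c1 * y⁻¹ * c1⁻¹ with hγ
    have hγh : γ ∈ zpowers h := hφmem y hyP
    have hgen : zpowers γ = zpowers h := eq_of_le_of_card_ge (zpowers_le.2 hγh) (by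
      rw [Nat.card_zpowers, Nat.card_zpowers, hho]
      have hγr : γ ^ r = 1 := (zpowers_le.2 hhZ hγh).2.1
      rw [orderOf_eq_prime hγr hyc1])
    obtain ⟨n, hn⟩ : a ∈ zpowers γ := hgen ▸ ha
    set z := c' * (c1 ^ n)⁻¹ with hz
    have hzP : z ∈ P := P.mul_mem hc'Z.1.1.1 (P.inv_mem (P.zpow_mem hc1P n))
    have hzy : z * y = y * z := by
      refine (commute_iff_conj.2 ?_).symm
      have e5 : y * c1 ^ n * y⁻¹ = γ ^ n * c1 ^ n := by
        rw [← conj_zpow, show y * c1 * y⁻¹ = γ * c1 by rw [hγ]; group]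
        exact (show Commute γ c1 from (hh' c1 (hOh c1 (hP.le hc1P)) γ hγh).symm).mul_zpow n
      have e6 : y * c' * y⁻¹ = γ ^ n * c' := by
        have hn' : γ ^ n = a := hn
        rw [hn', ← hab]; group
      rw [hz, show y * (c' * (c1 ^ n)⁻¹) * y⁻¹ = (y * c' * y⁻¹) * (y * c1 ^ n * y⁻¹)⁻¹ by group, e5, e6]
      have hγn : γ ^ n ∈ Z := Z.zpow_mem (zpowers_le.2 hhZ hγh) n
      rw [hZcomm _ hγn _ hc'Z.1, hZcomm _ hγn _ (Z.zpow_mem hc1Z n)]
      group
    have hzi : Inverted c.t z := hinvmul _ _ hc'i (hc1i.zpow n).inv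
      (hZcomm _ hc'Z.1 _ (Z.inv_mem (Z.zpow_mem hc1Z n)))
    have hz1 : z ≠ 1 := by
      intro e'
      refine hc'D ?_
      rw [eq_of_mul_inv_eq_one e']
      exact mem_sup_right (zpow_mem (mem_zpowers c1) n)
    refine hc11 (hvanish z c1 ?_ hz1 (hPpow z hzP) hc1P ?_ hc1i hvc1)
    · exact c.good_step hno (c.good_of_mem_W hy) hy1 ⟨1, by rw [hyo, pow_one]⟩ hzy (hPpow z hzP) hzi
    · exact hZcomm c1 hc1Z z (Z.mul_mem hc'Z.1 (Z.inv_mem (Z.zpow_mem hc1Z n)))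
  -- fusion of `h` and `c1`
  obtain ⟨g, hg⟩ : ∃ g : G, zpowers (g * h * g⁻¹) = zpowers c1 := by
    obtain ⟨g0, hg0⟩ := c.exists_conj_t hv2
    set c' := c.move g0 with hc'
    have hcC : c1 ∈ c'.Ct := c'.mem_Ct.2 (by
      show c1 * (g0 * c.t * g0⁻¹) = g0 * c.t * g0⁻¹ * c1
      rw [hg0]; exact hvc1.symm)
    obtain ⟨k1, hk1⟩ := c'.mem_K_of_odd hcC (hPo.of_dvd_nat (P.orderOf_dvd_natCard hc1P))
    obtain ⟨k0, -, hk0⟩ := hh
    have ho0 : orderOf k0 = r := by rw [← orderOf_injective c.ι c.inj, hk0, hho]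
    have ho1 : orderOf k1 = r := by rw [← orderOf_injective c'.ι c'.inj, hk1, hc1o]
    obtain ⟨R0, hR0⟩ := (IsPGroup.of_card (p := r) (n := 1) (by rw [Nat.card_zpowers, ho0, pow_one]) :
      IsPGroup r (zpowers k0)).exists_le_sylow
    obtain ⟨R1, hR1⟩ := (IsPGroup.of_card (p := r) (n := 1) (by rw [Nat.card_zpowers, ho1, pow_one]) :
      IsPGroup r (zpowers k1)).exists_le_sylow
    haveI := isCyclic_of_isPGroup r hr2 hr3 R1.isPGroup'
    obtain ⟨x, hx⟩ := MulAction.exists_smul_eq (P2 F) R0 R1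
    have hxk : x * k0 * x⁻¹ ∈ (R1 : Subgroup (P2 F)) := by
      rw [← hx, Sylow.coe_subgroup_smul]
      exact Subgroup.smul_mem_pointwise_smul _ _ _ (hR0 (mem_zpowers k0))
    have hox : orderOf (x * k0 * x⁻¹) = r := ((MulAut.conj x).orderOf_eq k0).trans ho0
    have hmem := mem_zpowers_of_cyclic hrp hxk (by rw [← hox, pow_orderOf_eq_one]) (hR1 (mem_zpowers k1)) ho1
    refine ⟨g0 * c.ι x, ?_⟩
    have e : g0 * c.ι x * h * (g0 * c.ι x)⁻¹ = c'.ι (x * k0 * x⁻¹) := by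
      show _ = g0 * c.ι (x * k0 * x⁻¹) * g0⁻¹
      rw [map_mul, map_mul, map_inv, hk0]
      group
    rw [e]
    refine eq_of_le_of_card_ge ?_ ?_
    · rw [zpowers_le, ← hk1]
      obtain ⟨i, hi⟩ := hmem
      exact ⟨i, by rw [← hi, map_zpow]⟩
    · rw [Nat.card_zpowers, Nat.card_zpowers, hc1o, orderOf_injective c'.ι c'.inj, hox]
  set O2 := CIT.cj g O with hO2
  have hO2mem : ∀ z, z ∈ O2 ↔ z * c1 = c1 * z ∧ Odd (orderOf z) := by
    intro z
    rw [hO2, CIT.mem_cj, hmemO, hXmem,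
      show orderOf (g⁻¹ * z * g) = orderOf z by
        simpa using (MulAut.conj g⁻¹).orderOf_eq z]
    refine and_congr_left fun _ => ⟨fun e => ?_, fun e => ?_⟩
    · obtain ⟨i, hi⟩ : c1 ∈ zpowers (g * h * g⁻¹) := hg ▸ mem_zpowers c1
      rw [← hi]
      refine (Commute.zpow_right ?_ i).eq
      show z * (g * h * g⁻¹) = g * h * g⁻¹ * z
      calc z * (g * h * g⁻¹) = g * (g⁻¹ * z * g * h) * g⁻¹ := by group
        _ = g * (h * (g⁻¹ * z * g)) * g⁻¹ := by rw [e]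
        _ = _ := by group
    · obtain ⟨i, hi⟩ : g * h * g⁻¹ ∈ zpowers c1 := hg ▸ mem_zpowers _
      have e' : z * (g * h * g⁻¹) = g * h * g⁻¹ * z := by rw [← hi]; exact (Commute.zpow_right e i).eq
      calc g⁻¹ * z * g * h = g⁻¹ * (z * (g * h * g⁻¹)) * g := by group
        _ = g⁻¹ * (g * h * g⁻¹ * z) * g := by rw [e']
        _ = _ := by group
  have hQO2 : Q ≤ O2 := fun q hq =>
    (hO2mem q).2 ⟨mem_centralizer_singleton_iff.1 hq.2, hPo.of_dvd_nat (P.orderOf_dvd_natCard hq.1)⟩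
  obtain ⟨P3, hP3, hQP3⟩ := InvCent.exists_sylP_ge (p := r) hQO2 (hPr.to_le inf_le_left)
  have hP3c : Nat.card P3 = Nat.card P := by rw [hP3.card_eq (hP.cj g), CIT.card_cj]
  have hQlt : Q < P := lt_of_le_of_ne inf_le_left fun e => hyc1 (by
    have hyQ : y ∈ Q := e.ge hyP
    rw [mem_centralizer_singleton_iff.1 hyQ.2, mul_inv_cancel_right, mul_inv_cancel])
  have hQP3lt : Q.subgroupOf P3 < ⊤ := lt_of_le_of_ne le_top fun e => hQlt.ne
    (eq_of_le_of_card_ge inf_le_left (by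
      rw [← hP3c]
      exact card_le_of_le fun z hz => mem_subgroupOf.1 (e.ge (mem_top (⟨z, hz⟩ : P3)))))
  haveI := hP3.isPGroup.isNilpotent
  obtain ⟨n2, hn2, hn2Q⟩ :=
    SetLike.exists_of_lt (Group.normalizerCondition_of_isNilpotent (G := ↥P3) _ hQP3lt)
  have hn2Q' : (n2 : G) ∉ Q := fun h' => hn2Q (mem_subgroupOf.2 h')
  have hn2conj : ∀ q ∈ Q, (n2 : G) * q * (n2 : G)⁻¹ ∈ Q := fun q hq =>
    mem_subgroupOf.1 ((mem_normalizer_iff.1 hn2 ⟨q, hQP3 hq⟩).1 (mem_subgroupOf.2 hq))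
  have hn2conj' : ∀ q ∈ Q, (n2 : G)⁻¹ * q * (n2 : G) ∈ Q := fun q hq => by
    have := mem_subgroupOf.1 ((mem_normalizer_iff.1 (inv_mem hn2) ⟨q, hQP3 hq⟩).1 (mem_subgroupOf.2 hq))
    simpa using this
  have hn2c : (n2 : G) * c1 = c1 * n2 := ((hO2mem _).1 (hP3.le n2.2)).1
  have hn2h : (n2 : G) * h ≠ h * n2 := by
    intro hcm
    set Q2 := Q ⊔ zpowers (n2 : G) with hQ2
    have hQ2O : Q2 ≤ O := sup_le (inf_le_left.trans hP.le) (zpowers_le.2
      ((hmemO _).2 ⟨(hXmem _).2 hcm, ((hO2mem _).1 (hP3.le n2.2)).2⟩))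
    have hQ2r : IsPGroup r Q2 := hP3.isPGroup.to_le (sup_le hQP3 (zpowers_le.2 n2.2))
    obtain ⟨x, hx, hxle⟩ := hP.exists_conj_ge hQ2O hQ2r
    have hlt : Nat.card Q < Nat.card Q2 := by
      refine lt_of_le_of_ne (card_le_of_le le_sup_left) fun e => hn2Q' ?_
      rw [eq_of_le_of_card_ge le_sup_left e.ge]
      exact mem_sup_right (mem_zpowers _)
    have hcard : Nat.card P ≤ Nat.card Q2 := by
      obtain ⟨i, hi⟩ := IsPGroup.iff_card.1 (hPr.to_le (inf_le_left : Q ≤ P))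
      obtain ⟨j, hj⟩ := IsPGroup.iff_card.1 hQ2r
      rw [hi] at hlt hPQ
      rw [hj] at hlt ⊢
      refine hPQ.trans ?_
      rw [← pow_succ']
      exact Nat.pow_le_pow_right hrp.pos ((Nat.pow_lt_pow_iff_right hrp.one_lt).1 hlt)
    have heq : CIT.cj x Q2 = P := eq_of_le_of_card_ge hxle (by rw [CIT.card_cj]; exact hcard)
    have hc1Q2 : Q2 ≤ centralizer ({c1} : Set G) :=
      sup_le inf_le_right (zpowers_le.2 (mem_centralizer_singleton_iff.2 hn2c))
    have hzh := hcentre (x * c1 * x⁻¹)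
      (by rw [← heq]; exact CIT.conj_mem_cj.2 (mem_sup_left hc1Q))
      (by rw [conj_pow, hc1r]; group) (fun p hp => by
        have hp' : x⁻¹ * p * x ∈ Q2 := CIT.mem_cj.1 (heq ▸ hp)
        have e := (show Commute (x⁻¹ * p * x) c1 from
          mem_centralizer_singleton_iff.1 (hc1Q2 hp')).map (MulAut.conj x)
        rw [MulAut.conj_apply, MulAut.conj_apply, show x * (x⁻¹ * p * x) * x⁻¹ = p by group] at e
        exact e.eq)
    refine hc1h ?_
    obtain ⟨i, hi⟩ := hzh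
    have hxi : x * h ^ i = h ^ i * x := hh' x (hOh x hx) _ (zpow_mem (mem_zpowers h) i)
    have : c1 = h ^ i := by
      have hi' : h ^ i = x * c1 * x⁻¹ := hi
      have : x * c1 = x * h ^ i := by rw [hxi, hi']; group
      exact mul_left_cancel this
    rw [this]
    exact zpow_mem (mem_zpowers h) i
  have hn2D : ∀ d ∈ D, (n2 : G) * d * (n2 : G)⁻¹ ∈ D := fun d hd =>
    hZD (hZconj _ hn2conj hn2conj' d (hDZ hd))
  set ε := (n2 : G) * h * (n2 : G)⁻¹ * h⁻¹ with hε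
  have hεc : ε ∈ zpowers c1 := by
    set N := D ⊔ zpowers (n2 : G) with hN
    have hNP : N ≤ P3 := sup_le ((hDZ.trans fun z hz => hz.1).trans hQP3) (zpowers_le.2 n2.2)
    have hNn : ∀ d ∈ zpowers c1, ∀ g ∈ N, g * d * g⁻¹ ∈ zpowers c1 := by
      intro d hd g hg
      have hle : N ≤ centralizer ({d} : Set G) := by
        obtain ⟨i, rfl⟩ := hd
        refine sup_le (fun z hz => mem_centralizer_singleton_iff.2 ?_)
          (zpowers_le.2 (mem_centralizer_singleton_iff.2 ((show Commute (n2 : G) c1 from hn2c).zpow_right i).eq))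
        exact hZcomm z (hDZ hz) _ (Z.zpow_mem hc1Z i)
      rw [mem_centralizer_singleton_iff.1 (hle hg), mul_inv_cancel_right]
      exact hd
    have hND : N ≤ normalizer (D : Set G) := by
      refine sup_le Subgroup.le_normalizer (zpowers_le.2 (mem_normalizer_iff.2 fun d => ⟨hn2D d, fun hd => ?_⟩))
      have hL : D.map (MulAut.conj (n2 : G)).toMonoidHom = D :=
        eq_of_le_of_card_ge (by rintro _ ⟨w, hw, rfl⟩; exact hn2D w hw)
          (card_map_of_injective (MulAut.conj (n2 : G)).injective).ge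
      obtain ⟨w, hw, e'⟩ := hL.ge hd
      rwa [show d = w from (MulAut.conj (n2 : G)).injective e'.symm]
    obtain ⟨a, ha, hac, hag⟩ := exists_rel_center (hP3.isPGroup.to_le hNP)
      (D := zpowers c1) (A := D) le_sup_right le_sup_left
      (fun hle => by
        obtain ⟨i, hi⟩ := hle (mem_sup_left (mem_zpowers h))
        refine hh1 (hodd_one h hhP ((hhfix h (mem_zpowers h)).symm.trans ?_))
        exact (hc1i.mem_of_zpowers ⟨i, hi⟩))
      (fun g hg d hd => hNn d hd g hg)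
      (fun g hg d hd => (mem_normalizer_iff.1 (hND hg) d).1 hd)
    let M : Subgroup G :=
      { carrier := {d | d ∈ D ∧ (n2 : G) * d * (n2 : G)⁻¹ * d⁻¹ ∈ zpowers c1}
        mul_mem' := by
          rintro d e ⟨hd, hd'⟩ ⟨he, he'⟩
          refine ⟨D.mul_mem hd he, ?_⟩
          have e2 := hZcomm d (hDZ hd) _ (zpowers_le.2 hc1Z he')
          rw [show (n2 : G) * (d * e) * (n2 : G)⁻¹ * (d * e)⁻¹
            = ((n2 : G) * d * (n2 : G)⁻¹ * d⁻¹) * ((d * ((n2 : G) * e * (n2 : G)⁻¹ * e⁻¹)) * d⁻¹) by group,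
            e2, mul_inv_cancel_right]
          exact mul_mem hd' he'
        one_mem' := ⟨one_mem _, by simp⟩
        inv_mem' := by
          rintro d ⟨hd, hd'⟩
          refine ⟨D.inv_mem hd, ?_⟩
          have e2 := hZcomm d⁻¹ (Z.inv_mem (hDZ hd)) _ (zpowers_le.2 hc1Z (inv_mem hd'))
          rw [show (n2 : G) * d⁻¹ * (n2 : G)⁻¹ * d⁻¹⁻¹
            = d⁻¹ * ((n2 : G) * d * (n2 : G)⁻¹ * d⁻¹)⁻¹ * d by group, e2, mul_assoc, inv_mul_cancel,
            mul_one]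
          exact inv_mem hd' }
    have hMa : a ∈ M := ⟨ha, hag n2 (mem_sup_right (mem_zpowers _))⟩
    have hMc : zpowers c1 ≤ M := zpowers_le.2 ⟨mem_sup_right (mem_zpowers c1), by
      rw [hn2c, mul_inv_cancel_right, mul_inv_cancel]; exact one_mem _⟩
    have hnc : zpowers c1 ≤ normalizer ((zpowers h : Subgroup G) : Set G) := by
      rw [zpowers_le]
      exact Subgroup.centralizer_le_normalizer _ (mem_centralizer_iff.2 fun a ha =>
        (hh' c1 (hOh c1 (hP.le hc1P)) a ha).symm)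
    obtain ⟨a1, ha1, b1, hb1, e⟩ :=
      (Core.mem_sup_iff_mul' hnc).1 ((sup_comm (zpowers h) (zpowers c1)).le ha)
    have ha1M : a1 ∈ M := by
      have := M.mul_mem hMa (M.inv_mem (hMc hb1))
      rwa [e, mul_inv_cancel_right] at this
    have ha11 : a1 ≠ 1 := fun e' => hac (by rw [e, e', one_mul]; exact hb1)
    have : zpowers a1 = zpowers h := eq_of_le_of_card_ge (zpowers_le.2 ha1) (by
      rw [Nat.card_zpowers, Nat.card_zpowers, hho,
        orderOf_eq_prime (zpowers_le.2 hhZ ha1).2.1 ha11])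
    exact ((zpowers_le.2 ha1M : zpowers a1 ≤ M) (this ▸ mem_zpowers h)).2
  -- an element of order four
  have hγh : y * c1 * y⁻¹ * c1⁻¹ ∈ zpowers h := hφmem y hyP
  have hy0r : ∀ z ∈ zpowers h, z ≠ 1 → zpowers z = zpowers h := fun z hz hz1 =>
    eq_of_le_of_card_ge (zpowers_le.2 hz) (by
      rw [Nat.card_zpowers, Nat.card_zpowers, hho, orderOf_eq_prime (zpowers_le.2 hhZ hz).2.1 hz1])
  obtain ⟨a0, ha0h, ha0c⟩ : ∃ a0 : G, a0 * h * a0⁻¹ = h ∧ a0 * c1 * a0⁻¹ = h * c1 := by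
    obtain ⟨n, hn⟩ : h ∈ zpowers (y * c1 * y⁻¹ * c1⁻¹) := hy0r _ hγh hyc1 ▸ mem_zpowers h
    refine ⟨y ^ n, ?_, ?_⟩
    · rw [(((show Commute y h from hc.symm)).zpow_left n).eq, mul_inv_cancel_right]
    · have := congrArg (fun x : zpowers h => (x : G)) (map_zpow φ ⟨y, hyP⟩ n)
      have e' : (y ^ n) * c1 * (y ^ n)⁻¹ * c1⁻¹ = h := by
        refine Eq.trans ?_ hn
        simpa [φ] using this
      calc y ^ n * c1 * (y ^ n)⁻¹ = (y ^ n * c1 * (y ^ n)⁻¹ * c1⁻¹) * c1 := by group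
        _ = h * c1 := by rw [e']
  obtain ⟨b0, hb0c, hb0h⟩ : ∃ b0 : G, b0 * c1 * b0⁻¹ = c1 ∧ b0 * h * b0⁻¹ = c1⁻¹ * h := by
    have hε1 : ε ≠ 1 := fun e => hn2h (commute_iff_conj.2 (mul_inv_eq_one.1 e))
    have hεr : ε ^ r = 1 := (zpowers_le.2 hc1Z hεc).2.1
    have hεgen : zpowers ε = zpowers c1 := eq_of_le_of_card_ge (zpowers_le.2 hεc) (by
      rw [Nat.card_zpowers, Nat.card_zpowers, hc1o, orderOf_eq_prime hεr hε1])
    obtain ⟨n, hn⟩ : c1⁻¹ ∈ Submonoid.powers ε :=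
      (isOfFinOrder_of_finite ε).mem_powers_iff_mem_zpowers.2 (hεgen ▸ inv_mem (mem_zpowers c1))
    have hn2ε : (n2 : G) * ε = ε * n2 := by
      obtain ⟨i, hi⟩ := hεc
      rw [← hi]
      exact ((show Commute (n2 : G) c1 from hn2c).zpow_right i).eq
    have hit : ∀ j : ℕ, (n2 : G) ^ j * h * ((n2 : G) ^ j)⁻¹ = ε ^ j * h := by
      intro j
      induction j with
      | zero => simp
      | succ j ih =>
        have e2 : (n2 : G) * h * (n2 : G)⁻¹ = ε * h := by rw [hε]; group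
        have e3 : (n2 : G) * ε ^ j = ε ^ j * n2 := (show Commute (n2 : G) ε from hn2ε).pow_right j |>.eq
        rw [show (n2 : G) ^ (j + 1) * h * ((n2 : G) ^ (j + 1))⁻¹
          = (n2 : G) * ((n2 : G) ^ j * h * ((n2 : G) ^ j)⁻¹) * (n2 : G)⁻¹ by rw [pow_succ']; group, ih,
          ← mul_assoc, e3, mul_assoc, mul_assoc, ← mul_assoc (n2 : G), e2, ← mul_assoc, pow_succ]
    refine ⟨(n2 : G) ^ n, ?_, ?_⟩
    · rw [((show Commute (n2 : G) c1 from hn2c).pow_left n).eq, mul_inv_cancel_right]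
    · rw [hit n]
      exact congrArg (· * h) hn
  set g4 := a0 * b0 * a0 with hg4
  have hch : c1 * h = h * c1 := hOh c1 (hP.le hc1P)
  have e1 : g4 * h * g4⁻¹ = c1⁻¹ := by
    rw [hg4, show a0 * b0 * a0 * h * (a0 * b0 * a0)⁻¹
      = a0 * (b0 * (a0 * h * a0⁻¹) * b0⁻¹) * a0⁻¹ by group, ha0h, hb0h,
      show a0 * (c1⁻¹ * h) * a0⁻¹ = (a0 * c1 * a0⁻¹)⁻¹ * (a0 * h * a0⁻¹) by group, ha0c, ha0h,
      mul_inv_rev]
    group
  have e2 : g4 * c1 * g4⁻¹ = h := by
    rw [hg4, show a0 * b0 * a0 * c1 * (a0 * b0 * a0)⁻¹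
      = a0 * (b0 * (a0 * c1 * a0⁻¹) * b0⁻¹) * a0⁻¹ by group, ha0c,
      show b0 * (h * c1) * b0⁻¹ = (b0 * h * b0⁻¹) * (b0 * c1 * b0⁻¹) by group, hb0h, hb0c,
      show c1⁻¹ * h * c1 = h by rw [mul_assoc, ← hch, inv_mul_cancel_left], ha0h]
  have e3 : g4 ^ 2 * h * (g4 ^ 2)⁻¹ = h⁻¹ := by
    rw [pow_two, show g4 * g4 * h * (g4 * g4)⁻¹ = g4 * (g4 * h * g4⁻¹) * g4⁻¹ by group, e1, ← conj_inv, e2]
  obtain ⟨k, m, hm, hk⟩ := Nat.exists_eq_two_pow_mul_odd (orderOf_pos g4).ne'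
  have h5 : (g4 ^ m) ^ 2 = 1 := c.sq_eq_one_of_two_element (k := k)
    (by rw [← pow_mul, mul_comm, ← hk, pow_orderOf_eq_one])
  obtain ⟨l, hl⟩ := hm
  have e4 : (g4 ^ 2) ^ 2 * h * ((g4 ^ 2) ^ 2)⁻¹ = h := by
    rw [pow_two (g4 ^ 2), show g4 ^ 2 * g4 ^ 2 * h * (g4 ^ 2 * g4 ^ 2)⁻¹
      = g4 ^ 2 * (g4 ^ 2 * h * (g4 ^ 2)⁻¹) * (g4 ^ 2)⁻¹ by group, e3, ← conj_inv, e3, inv_inv]
  have e5 : (g4 ^ m) ^ 2 * h * ((g4 ^ m) ^ 2)⁻¹ = h⁻¹ := by
    have hcm : Commute ((g4 ^ 2) ^ 2) h := commute_iff_conj.2 e4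
    have e6 : (g4 ^ m) ^ 2 = g4 ^ 2 * ((g4 ^ 2) ^ 2) ^ l := by
      rw [hl, ← pow_mul, ← pow_mul, ← pow_mul, ← pow_add]
      congr 1
      ring
    rw [e6, show g4 ^ 2 * ((g4 ^ 2) ^ 2) ^ l * h * (g4 ^ 2 * ((g4 ^ 2) ^ 2) ^ l)⁻¹
      = g4 ^ 2 * (((g4 ^ 2) ^ 2) ^ l * h * (((g4 ^ 2) ^ 2) ^ l)⁻¹) * (g4 ^ 2)⁻¹ by group,
      (hcm.pow_left l).eq, mul_inv_cancel_right, e3]
  rw [h5, one_mul, inv_one, mul_one] at e5
  exact hh1 (hodd_one h hhP e5)

/-- the torus acts without fixed points on `W` -/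
theorem H_cent_W (hno : NoReal G) {h y : G} (hh : h ∈ c.H) (hh1 : h ≠ 1) (hy : y ∈ c.W)
    (hc : h * y = y * h) : y = 1 := by
  classical
  by_contra hy1
  obtain ⟨r, hr, hrd⟩ := Nat.exists_prime_and_dvd (fun e => hy1 (orderOf_eq_one_iff.1 e))
  haveI := Fact.mk hr
  set y0 := y ^ (orderOf y / r) with hy0
  have hy0o : orderOf y0 = r := orderOf_pow_orderOf_div (orderOf_pos y).ne' hrd
  have hy0W : y0 ∈ c.W := c.W.pow_mem hy _
  have hc0 : h * y0 = y0 * h := ((show Commute h y from hc).pow_right _).eq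
  by_cases hrH : r ∣ Nat.card c.H
  · obtain ⟨⟨h', hh'⟩, hh'o⟩ := exists_prime_orderOf_dvd_card' (G := c.H) r hrH
    rw [Subgroup.orderOf_mk] at hh'o
    let V : Subgroup G :=
      { carrier := {z | z ∈ c.W ∧ z ^ r = 1}
        mul_mem' := by
          rintro a b ⟨ha, har⟩ ⟨hb, hbr⟩
          exact ⟨c.W.mul_mem ha hb, by
            rw [(show Commute a b from c.W_comm hno ha hb).mul_pow, har, hbr, one_mul]⟩
        one_mem' := ⟨one_mem _, one_pow _⟩
        inv_mem' := by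
          rintro a ⟨ha, har⟩
          exact ⟨c.W.inv_mem ha, by rw [inv_pow, har, inv_one]⟩ }
    have hVh : ∀ z ∈ V, h' * z * h'⁻¹ ∈ V := fun z hz =>
      ⟨(mem_normalizer_iff.1 (c.normalizer_U_le_normalizer_W (c.H_le_normalizer_U hh')) z).1 hz.1,
        by rw [conj_pow, hz.2]; group⟩
    haveI : Fintype V := Fintype.ofFinite _
    let f : Function.End V := fun z => ⟨h' * z * h'⁻¹, hVh z z.2⟩
    have hit : ∀ (n : ℕ) (z : V), ((f^[n] z : V) : G) = h' ^ n * z * (h' ^ n)⁻¹ := by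
      intro n
      induction n with
      | zero => intro z; rw [Function.iterate_zero_apply, pow_zero]; group
      | succ n ih =>
        intro z
        rw [Function.iterate_succ', Function.comp_apply]
        show h' * ((f^[n] z : V) : G) * h'⁻¹ = _
        rw [ih, pow_succ']
        group
    have hf : f ^ r ^ 1 = 1 := by
      funext z
      have e : (f ^ r ^ 1) z = f^[r] z := by
        rw [pow_one]
        exact congrFun (hom_coe_pow (fun k : Function.End V => k) rfl (fun _ _ => rfl) f r) z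
      rw [e]
      refine Subtype.ext ?_
      rw [hit, ← hh'o, pow_orderOf_eq_one]
      simp
      rfl
    have hdvd : r ∣ Fintype.card V := by
      have := V.orderOf_dvd_natCard (show y0 ∈ V from ⟨hy0W, by rw [← hy0o, pow_orderOf_eq_one]⟩)
      rwa [hy0o, Nat.card_eq_fintype_card] at this
    have hmod := Equiv.Perm.card_fixedPoints_modEq (p := r) (n := 1) hf
    have hone : (⟨1, one_mem _⟩ : V) ∈ Function.fixedPoints f :=
      Subtype.ext (show h' * 1 * h'⁻¹ = 1 by group)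
    have hd2 : r ∣ Fintype.card (Function.fixedPoints f) :=
      (Nat.modEq_zero_iff_dvd).1 (hmod.symm.trans (Nat.modEq_zero_iff_dvd.2 hdvd))
    have hpos : 1 < Fintype.card (Function.fixedPoints f) := by
      have : 0 < Fintype.card (Function.fixedPoints f) := Fintype.card_pos_iff.2 ⟨⟨_, hone⟩⟩
      exact lt_of_lt_of_le hr.one_lt (Nat.le_of_dvd this hd2)
    obtain ⟨⟨⟨z, hzV⟩, hzf⟩, hzne⟩ :=
      Fintype.exists_ne_of_one_lt_card hpos (⟨_, hone⟩ : Function.fixedPoints f)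
    have hz1 : z ≠ 1 := fun e => hzne (Subtype.ext (Subtype.ext e))
    refine c.H_cent_W_core hno (r := r) hh' (fun e => hr.ne_one (by rw [← hh'o, e, orderOf_one])) hzV.1
      (orderOf_eq_prime hzV.2 hz1) (commute_iff_conj.2 (congrArg Subtype.val hzf)) (Or.inl hh'o)
  · exact c.H_cent_W_core hno (r := r) hh hh1 hy0W hy0o hc0 (Or.inr hrH)

end Ctx

end CfsgLib.LocalEven.GoldS
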