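import Cfsg.Agent.Lib.LocalEven.GoldS.FamSections
import Cfsg.Agent.Lib.Recog.PrimeGraph
import Cfsg.Agent.Lib.Classical.SL2Structure
import Mathlib.NumberTheory.LegendreSymbol.QuadraticChar.Basic

/-!
# Sections of the two-dimensional linear groups
-/

set_option autoImplicit false
set_option maxHeartbeats 1000000

namespace CfsgLib.LocalEven.GoldS

open Matrix Subgroup
open scoped MatrixGroups

variable {F : Type*} [Field F]

local notation "PSL₂" => Matrix.ProjectiveSpecialLinearGroup (Fin 2) F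

theorem mk_eq_one_iff_scalar {A : SL(2, F)} :
    (QuotientGroup.mk A : PSL₂) = 1 ↔ ∃ r : F, r ^ 2 = 1 ∧ (A : Matrix (Fin 2) (Fin 2) F) = r • 1 := by
  rw [QuotientGroup.eq_one_iff, Matrix.SpecialLinearGroup.mem_center_iff]
  simp only [Fintype.card_fin]
  constructor
  · rintro ⟨r, hr, h⟩; exact ⟨r, hr, by rw [← h, Matrix.smul_one_eq_diagonal]; rfl⟩
  · rintro ⟨r, hr, h⟩; exact ⟨r, hr, by rw [h, Matrix.smul_one_eq_diagonal]; rfl⟩

/-- An inverted element of order three. -/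
theorem involves_three_psl [Finite F] {a b : F} (hab : a ^ 2 + a * b + b ^ 2 = -1) :
    Cfsg.Involves (Equiv.Perm (Fin 3)) PSL₂ := by
  let Y : SL(2, F) := ⟨!![0, -1; 1, -1], by simp [Matrix.det_fin_two_of]⟩
  let S : SL(2, F) := ⟨!![a, b; a + b, -a], by rw [Matrix.det_fin_two_of]; linear_combination -hab⟩
  have hS : ((S : Matrix (Fin 2) (Fin 2) F)) * S = (-1 : F) • 1 := by
    ext i j; fin_cases i <;> fin_cases j <;> simp [S, Matrix.mul_apply, Fin.sum_univ_two]
    all_goals (first | linear_combination hab | ring)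
  have hY : Y * (Y * Y) = 1 := Subtype.ext (by
    rw [Matrix.SpecialLinearGroup.coe_mul, Matrix.SpecialLinearGroup.coe_mul]
    ext i j; fin_cases i <;> fin_cases j <;> simp [Y, Matrix.mul_apply, Fin.sum_univ_two])
  have hSY : S * Y = (Y * Y) * S := Subtype.ext (by
    rw [Matrix.SpecialLinearGroup.coe_mul, Matrix.SpecialLinearGroup.coe_mul, Matrix.SpecialLinearGroup.coe_mul]
    ext i j; fin_cases i <;> fin_cases j <;> simp [S, Y, Matrix.mul_apply, Fin.sum_univ_two] <;> abel)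
  have h1 : (QuotientGroup.mk Y : PSL₂) ≠ 1 := fun e => by
    obtain ⟨r, -, hr⟩ := mk_eq_one_iff_scalar.1 e
    have := congrFun₂ hr 1 0
    simp [Y] at this
  refine CfsgLib.LocalEven.SFreeOffender.involves_three_of_inverted (a := (QuotientGroup.mk S : PSL₂))
    (y := (QuotientGroup.mk Y : PSL₂)) ?_ ?_ ?_ h1
  · rw [← QuotientGroup.mk_mul, mk_eq_one_iff_scalar]
    exact ⟨-1, by norm_num, by rw [Matrix.SpecialLinearGroup.coe_mul, hS]⟩
  · rw [mul_inv_eq_iff_eq_mul, ← QuotientGroup.mk_inv, ← QuotientGroup.mk_mul, ← QuotientGroup.mk_mul,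
      inv_eq_of_mul_eq_one_right hY, hSY]
  · rw [pow_three, ← QuotientGroup.mk_mul, ← QuotientGroup.mk_mul, hY, QuotientGroup.mk_one]

/-- The form `a² + ab + b²` takes the value minus one outside characteristic three. -/
theorem exists_norm_neg_one [Fintype F] (h3 : (3 : F) ≠ 0) : ∃ a b : F, a ^ 2 + a * b + b ^ 2 = -1 := by
  by_cases h2 : (2 : F) = 0
  · exact ⟨1, 0, by linear_combination h2⟩
  have hodd : Fintype.card F % 2 = 1 := by
    obtain ⟨p, hp⟩ := CharP.exists F
    have hp2 : p ≠ 2 := fun e => h2 (by subst e; exact_mod_cast CharP.cast_eq_zero F 2)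
    exact FiniteField.odd_card_of_char_ne_two (by rw [ringChar.eq F p]; exact hp2)
  open Polynomial in
  obtain ⟨x, y, hxy⟩ := FiniteField.exists_root_sum_quadratic (f := (X ^ 2 + C (4 : F) : F[X]))
    (g := (C (3 : F) * X ^ 2 : F[X])) (degree_X_pow_add_C (by norm_num) _)
    (by rw [degree_C_mul h3, degree_X_pow]; rfl) hodd
  simp at hxy
  refine ⟨(x - y) / 2, y, ?_⟩
  field_simp
  linear_combination hxy

/-- No involution inverts an element of order three when `q` is an odd power of three. -/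
theorem not_involves_three_psl [Fintype F] {n : ℕ} (hF : Fintype.card F = 3 ^ (2 * n + 1)) :
    ¬ Cfsg.Involves (Equiv.Perm (Fin 3)) PSL₂ := by
  classical
  intro hi
  haveI : Fact (Nat.Prime 3) := ⟨by norm_num⟩
  have h3 : (3 : F) = 0 := by
    haveI := charP_of_card_eq_prime_pow hF
    exact_mod_cast CharP.cast_eq_zero F 3
  have h8 : Fintype.card F % 8 = 3 := by
    rw [hF, pow_succ, pow_mul, Nat.mul_mod, Nat.pow_mod]; norm_num
  have hm1 : ¬ IsSquare (-1 : F) := by
    rw [FiniteField.isSquare_neg_one_iff]; omega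
  haveI : Fact (Nat.Prime 2) := ⟨Nat.prime_two⟩
  obtain ⟨s, y, hs, hy, hsy⟩ := exists_inverted_three (G := PSL₂) (fun P x hx => by
    haveI := CfsgLib.Classical.Two.isKleinFour_sylow_PSL rfl (Or.inl h8) P
    exact congrArg Subtype.val (IsKleinFour.mul_self (⟨x, hx⟩ : (P : Subgroup PSL₂)))) hi
  obtain ⟨S, rfl⟩ := QuotientGroup.mk_surjective s
  obtain ⟨Y₀, rfl⟩ := QuotientGroup.mk_surjective y
  obtain ⟨Y, hYY, hY3⟩ : ∃ Y : SL(2, F), (QuotientGroup.mk Y : PSL₂) = QuotientGroup.mk Y₀ ∧ Y ^ 3 = 1 := by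
    have hy3 : (QuotientGroup.mk (Y₀ ^ 3) : PSL₂) = 1 := by rw [QuotientGroup.mk_pow, ← hy, pow_orderOf_eq_one]
    obtain ⟨r, hr, he⟩ := mk_eq_one_iff_scalar.1 hy3
    rcases sq_eq_one_iff.1 hr with rfl | rfl
    · exact ⟨Y₀, rfl, Subtype.ext (by rw [he, one_smul]; rfl)⟩
    · refine ⟨-Y₀, ?_, Subtype.ext ?_⟩
      · rw [QuotientGroup.eq, Matrix.SpecialLinearGroup.mem_center_iff]
        refine ⟨-1, by norm_num, ?_⟩
        rw [Matrix.SpecialLinearGroup.coe_mul]
        have : (((-Y₀)⁻¹ : SL(2, F)) : Matrix (Fin 2) (Fin 2) F) = -((Y₀⁻¹ : SL(2, F)) : Matrix (Fin 2) (Fin 2) F) := by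
          rw [Matrix.SpecialLinearGroup.coe_inv, Matrix.SpecialLinearGroup.coe_inv,
            Matrix.SpecialLinearGroup.coe_neg, Matrix.adjugate_fin_two, Matrix.adjugate_fin_two]
          ext i j; fin_cases i <;> fin_cases j <;> simp
        rw [this, neg_mul, ← Matrix.SpecialLinearGroup.coe_mul, inv_mul_cancel, Matrix.SpecialLinearGroup.coe_one]
        ext i j; by_cases hij : i = j <;> simp [hij, Matrix.one_apply]
      · rw [Matrix.SpecialLinearGroup.coe_pow, Matrix.SpecialLinearGroup.coe_neg, Odd.neg_pow (by decide),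
          ← Matrix.SpecialLinearGroup.coe_pow, he]
        simp
  rw [← hYY] at hy hsy
  have hY1 : Y ≠ 1 := by
    rintro rfl
    rw [QuotientGroup.mk_one, orderOf_one] at hy
    exact absurd hy (by norm_num)
  set N : Matrix (Fin 2) (Fin 2) F := (Y : Matrix (Fin 2) (Fin 2) F) - 1 with hN
  have hN3 : N ^ 3 = 0 := by
    have hY3' : (Y : Matrix (Fin 2) (Fin 2) F) ^ 3 = 1 := by
      rw [← Matrix.SpecialLinearGroup.coe_pow, hY3]; rfl
    rw [hN, sub_pow_three_aux h3, hY3', sub_self]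
  have hd0 : N.det = 0 := by
    have := congrArg Matrix.det hN3
    rwa [det_pow, det_zero, pow_eq_zero_iff (by norm_num)] at this
  have hdY : (Y : Matrix (Fin 2) (Fin 2) F) = N + 1 := by rw [hN]; abel
  have hdet1 : (N + 1).det = 1 := by rw [← hdY]; exact Y.2
  simp only [Matrix.det_fin_two, Matrix.add_apply, Matrix.one_apply_eq,
    Matrix.one_apply_ne (show (0 : Fin 2) ≠ 1 by decide), Matrix.one_apply_ne (show (1 : Fin 2) ≠ 0 by decide),
    add_zero] at hdet1 hd0
  have htr : N 1 1 = -N 0 0 := by linear_combination hdet1 - hd0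
  have hs2 : (QuotientGroup.mk (S * S) : PSL₂) = 1 := by
    have h' := pow_orderOf_eq_one (QuotientGroup.mk S : PSL₂)
    rw [hs, pow_two] at h'
    rw [QuotientGroup.mk_mul, h']
  obtain ⟨r, hr, hS2⟩ := mk_eq_one_iff_scalar.1 hs2
  obtain ⟨c, hc, hsc⟩ := mk_eq_one_iff_scalar.1 (show (QuotientGroup.mk (S * Y * S⁻¹ * Y) : PSL₂) = 1 by
    rw [QuotientGroup.mk_mul, QuotientGroup.mk_mul, QuotientGroup.mk_mul, QuotientGroup.mk_inv, hsy, inv_mul_cancel])
  have hW : S * Y * S⁻¹ * Y = 1 := by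
    rcases sq_eq_one_iff.1 hc with rfl | rfl
    · exact Subtype.ext (by rw [hsc, one_smul]; rfl)
    exfalso
    have e1 : S * Y * S⁻¹ = (S * Y * S⁻¹ * Y) * Y⁻¹ := by group
    have e2 : ((S * Y * S⁻¹ : SL(2, F)) : Matrix (Fin 2) (Fin 2) F) ^ 3 =
        ((-1 : F) • ((Y⁻¹ : SL(2, F)) : Matrix (Fin 2) (Fin 2) F)) ^ 3 := by
      rw [e1, Matrix.SpecialLinearGroup.coe_mul (S * Y * S⁻¹ * Y), hsc, smul_mul_assoc, one_mul]
    rw [smul_pow, ← Matrix.SpecialLinearGroup.coe_pow, ← Matrix.SpecialLinearGroup.coe_pow, conj_pow, hY3,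
      inv_pow, hY3, inv_one, mul_one, mul_inv_cancel, Matrix.SpecialLinearGroup.coe_one] at e2
    have e3 := congrFun₂ e2 0 0
    simp [Matrix.one_apply] at e3
    exact one_ne_zero (α := F) (by linear_combination h3 - e3)
  have hYY3 : Y * (Y * Y) = 1 := by rw [← pow_three, hY3]
  have hSY : S * Y = Y * Y * S := by
    calc S * Y = S * Y * S⁻¹ * Y * (Y⁻¹ * S) := by group
      _ = _ := by rw [hW, one_mul, inv_eq_of_mul_eq_one_right hYY3]
  have hanti : (S : Matrix (Fin 2) (Fin 2) F) * N = -(N * (S : Matrix (Fin 2) (Fin 2) F)) := by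
    have e := congrArg (fun Z : SL(2, F) => (Z : Matrix (Fin 2) (Fin 2) F)) hSY
    simp only [Matrix.SpecialLinearGroup.coe_mul, hdY] at e
    have hN2 : N * N = 0 := by
      ext i j
      fin_cases i <;> fin_cases j <;> simp [Matrix.mul_apply, Fin.sum_univ_two, htr]
      · linear_combination -hd0 + N 0 0 * htr
      · ring
      · ring
      · linear_combination -hd0 + N 0 0 * htr
    rw [mul_add, mul_one, add_mul, mul_add, mul_add, hN2, mul_one, one_mul, mul_one, zero_add, add_mul, add_mul,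
      one_mul] at e
    have e' : (S : Matrix (Fin 2) (Fin 2) F) * N = N * (S : Matrix (Fin 2) (Fin 2) F) + N * S :=
      add_right_cancel (e.trans (by abel))
    rw [e']
    have : (3 : F) • (N * (S : Matrix (Fin 2) (Fin 2) F)) = 0 := by rw [h3, zero_smul]
    linear_combination (norm := module) this
  have hS0 : (S : Matrix (Fin 2) (Fin 2) F) 1 1 = -(S : Matrix (Fin 2) (Fin 2) F) 0 0 ∧ r = -1 := by
    rw [Matrix.SpecialLinearGroup.coe_mul] at hS2
    have e00 := congrFun₂ hS2 0 0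
    have e01 := congrFun₂ hS2 0 1
    have e10 := congrFun₂ hS2 1 0
    have e11 := congrFun₂ hS2 1 1
    have hdS := S.2
    rw [Matrix.det_fin_two] at hdS
    simp [Matrix.mul_apply, Fin.sum_univ_two] at e00 e01 e10 e11
    by_cases ht : (S : Matrix (Fin 2) (Fin 2) F) 0 0 + (S : Matrix (Fin 2) (Fin 2) F) 1 1 = 0
    · exact ⟨by linear_combination ht, by linear_combination -e00 - hdS + (S : Matrix (Fin 2) (Fin 2) F) 0 0 * ht⟩
    exfalso
    have b0 : (S : Matrix (Fin 2) (Fin 2) F) 0 1 = 0 := mul_right_cancel₀ ht (by linear_combination e01)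
    have c0 : (S : Matrix (Fin 2) (Fin 2) F) 1 0 = 0 := mul_right_cancel₀ ht (by linear_combination e10)
    have ad : (S : Matrix (Fin 2) (Fin 2) F) 0 0 = (S : Matrix (Fin 2) (Fin 2) F) 1 1 :=
      sub_eq_zero.1 (mul_right_cancel₀ ht (by linear_combination e00 - e11))
    have : (QuotientGroup.mk S : PSL₂) = 1 := mk_eq_one_iff_scalar.2
      ⟨(S : Matrix (Fin 2) (Fin 2) F) 0 0, by rw [b0, c0] at hdS; linear_combination hdS + (S : Matrix (Fin 2) (Fin 2) F) 0 0 * ad,
        by ext i j; fin_cases i <;> fin_cases j <;> simp [b0, c0, ad]⟩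
    rw [this, orderOf_one] at hs
    exact absurd hs (by norm_num)
  obtain ⟨hSd, rfl⟩ := hS0
  rw [Matrix.SpecialLinearGroup.coe_mul] at hS2
  set A := (S : Matrix (Fin 2) (Fin 2) F)
  have eS := congrFun₂ hS2 0 0
  have eN := congrFun₂ hanti 0 0
  simp [Matrix.mul_apply, Fin.sum_univ_two] at eS eN
  have hN0 : N 0 0 * N 0 0 + N 0 1 * N 1 0 = 0 := by linear_combination -hd0 + N 0 0 * htr
  refine hm1 ?_
  by_cases hb : N 0 1 = 0
  · rw [hb, zero_mul, add_zero, mul_self_eq_zero] at hN0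
    have hc : N 1 0 ≠ 0 := by
      intro hc
      refine hY1 (Subtype.ext ?_)
      rw [hdY, show N = 0 by ext i j; fin_cases i <;> fin_cases j <;> simp [hb, hc, hN0, htr], zero_add]
      rfl
    have hA : A 0 1 = 0 := by
      have : A 0 1 * N 1 0 = 0 := by rw [hb, hN0] at eN; linear_combination eN
      exact (mul_eq_zero.1 this).resolve_right hc
    exact ⟨A 0 0, by rw [hA] at eS; linear_combination -eS⟩
  · refine ⟨A 0 0 - A 0 1 * N 0 0 / N 0 1, ?_⟩
    field_simp
    linear_combination -(N 0 1) ^ 2 * eS + (N 0 1) * A 0 1 * eN - A 0 1 ^ 2 * hN0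
where
  sub_pow_three_aux (h3 : (3 : F) = 0) {Y : Matrix (Fin 2) (Fin 2) F} : (Y - 1) ^ 3 = Y ^ 3 - 1 := by
    have e : (Y - 1) ^ 3 = Y ^ 3 - 1 - (3 : F) • (Y ^ 2 - Y) := by
      simp only [pow_three, pow_two, sub_mul, mul_sub, one_mul, mul_one]; module
    rw [e, h3, zero_smul, sub_zero]

variable [Fintype F] [CharP F 2]

/-- In characteristic two the 2-elements are involutions. -/
theorem sq_one_psl {x : PSL₂} {k : ℕ} (hx : x ^ 2 ^ k = 1) : x * x = 1 := by
  obtain ⟨e⟩ := CfsgLib.Recog.AffineTwo.psl_equiv_sl F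
  refine e.injective ?_
  rw [map_mul, map_one]
  set A := e x with hA
  have hA' : (A : Matrix (Fin 2) (Fin 2) F) ^ 2 ^ k = 1 := by
    rw [← Matrix.SpecialLinearGroup.coe_pow, hA, ← map_pow, hx, map_one]; rfl
  have h0 : ((A : Matrix (Fin 2) (Fin 2) F) + 1) ^ 2 ^ k = 0 := by
    haveI : Fact (Nat.Prime 2) := ⟨Nat.prime_two⟩
    rw [add_pow_char_pow_of_commute 2 k (Commute.one_right _), hA', one_pow]
    ext i j; simp [CharTwo.add_self_eq_zero, Matrix.one_apply]
  have hd : ((A : Matrix (Fin 2) (Fin 2) F) + 1).det = 0 := by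
    have := congrArg Matrix.det h0
    rwa [det_pow, det_zero, pow_eq_zero_iff (pow_ne_zero _ two_ne_zero)] at this
  have hdA := A.2
  have two : (2 : F) = 0 := CharTwo.two_eq_zero
  rw [Matrix.det_fin_two] at hd hdA
  simp [Matrix.one_apply] at hd
  have ht : (A : Matrix (Fin 2) (Fin 2) F) 1 1 = (A : Matrix (Fin 2) (Fin 2) F) 0 0 := by
    linear_combination hd - hdA - two * (1 + (A : Matrix (Fin 2) (Fin 2) F) 0 0)
  refine Subtype.ext ?_
  rw [Matrix.SpecialLinearGroup.coe_mul, Matrix.SpecialLinearGroup.coe_one]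
  ext i j
  fin_cases i <;> fin_cases j <;> simp [Matrix.mul_apply, Fin.sum_univ_two, ht]
  · linear_combination hdA + two * ((A : Matrix (Fin 2) (Fin 2) F) 0 1 * (A : Matrix (Fin 2) (Fin 2) F) 1 0) -
      (A : Matrix (Fin 2) (Fin 2) F) 0 0 * ht
  · linear_combination two * ((A : Matrix (Fin 2) (Fin 2) F) 0 1 * (A : Matrix (Fin 2) (Fin 2) F) 0 0)
  · linear_combination two * ((A : Matrix (Fin 2) (Fin 2) F) 1 0 * (A : Matrix (Fin 2) (Fin 2) F) 0 0)
  · linear_combination hdA + two * ((A : Matrix (Fin 2) (Fin 2) F) 0 1 * (A : Matrix (Fin 2) (Fin 2) F) 1 0) -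
      (A : Matrix (Fin 2) (Fin 2) F) 0 0 * ht

end CfsgLib.LocalEven.GoldS
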