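import Cfsg.Agent.Lib.LocalEven.SFour
import Cfsg.Agent.Lib.LocalEven.OffenderStep
import Cfsg.Agent.Lib.Fusion.Sections
import Cfsg.Agent.Lib.Core.Cores

/-!
# Sections isomorphic to the symmetric groups of degree three and four
-/

set_option autoImplicit false

namespace CfsgLib.LocalEven.GoldS

open Subgroup
open scoped commutatorElement

universe u v

variable {G : Type u} [Group G] [Finite G]

omit [Finite G] in
/-- A section gives a subgroup with a surjection. -/
theorem exists_hom_of_involves {S : Type v} [Group S] (h : Cfsg.Involves S G) :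
    ∃ (K : Subgroup G) (π : K →* S), Function.Surjective π := by
  obtain ⟨K, R, hn, ⟨e⟩⟩ := h
  exact ⟨K, e.toMonoidHom.comp (QuotientGroup.mk' _), e.surjective.comp (QuotientGroup.mk'_surjective _)⟩

theorem card_dvd_of_involves {S : Type v} [Group S] (h : Cfsg.Involves S G) : Nat.card S ∣ Nat.card G := by
  obtain ⟨K, π, hπ⟩ := exists_hom_of_involves h
  exact (Subgroup.card_dvd_of_surjective π hπ).trans (Subgroup.card_subgroup_dvd_card K)

omit [Finite G] in
theorem involves_congr {H : Type v} [Group H] {S : Type*} [Group S] (e : G ≃* H) (h : Cfsg.Involves S G) :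
    Cfsg.Involves S H := by
  obtain ⟨K, π, hπ⟩ := exists_hom_of_involves h
  exact Fusion.involves_of_surjective (e.toMonoidHom.comp K.subtype) (e.injective.comp K.subtype_injective) π hπ

/-- Groups with abelian Sylow 2-subgroups do not involve the symmetric group of degree four. -/
theorem not_involves_four_of_comm_sylow (h : ∀ S : Sylow 2 G, IsMulCommutative (S : Subgroup G)) :
    ¬ Cfsg.Involves (Equiv.Perm (Fin 4)) G := by
  classical
  intro hi
  haveI : Fact (Nat.Prime 2) := ⟨Nat.prime_two⟩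
  obtain ⟨K, π, hπ⟩ := exists_hom_of_involves hi
  obtain ⟨P⟩ : Nonempty (Sylow 2 K) := inferInstance
  obtain ⟨S, hS⟩ := (P.2.map K.subtype).exists_le_sylow
  have hc := h S
  have hcomm : ∀ a ∈ (P : Subgroup K), ∀ b ∈ (P : Subgroup K), a * b = b * a := fun a ha b hb => by
    have := hc.is_comm.comm ⟨(a : G), hS ⟨a, ha, rfl⟩⟩ ⟨(b : G), hS ⟨b, hb, rfl⟩⟩
    exact Subtype.ext (congrArg (fun z : (S : Subgroup G) => (z : G)) this)
  set g : Equiv.Perm (Fin 4) := Equiv.swap 0 1 * Equiv.swap 1 2 * Equiv.swap 2 3 with hg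
  have hg4 : orderOf g = 2 ^ 2 := orderOf_eq_prime_pow (p := 2) (n := 1) (by decide) (by decide)
  have hgp : IsPGroup 2 (zpowers g) := IsPGroup.of_card (n := 2) (by rw [Nat.card_zpowers, hg4])
  obtain ⟨Q, hQ⟩ := hgp.exists_le_sylow
  obtain ⟨x, hx⟩ := MulAction.exists_smul_eq (Equiv.Perm (Fin 4)) (P.mapSurjective hπ) Q
  have hQc : ∀ y ∈ (Q : Subgroup (Equiv.Perm (Fin 4))), y * g = g * y := by
    intro y hy
    have hgQ := hQ (mem_zpowers g)
    rw [← hx, Sylow.coe_subgroup_smul, pointwise_smul_def] at hy hgQ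
    obtain ⟨y', hy', rfl⟩ := hy
    obtain ⟨g', hg', e⟩ := hgQ
    rw [← e]
    obtain ⟨a, ha, rfl⟩ := hy'
    obtain ⟨b, hb, rfl⟩ := hg'
    show MulAut.conj x (π a) * MulAut.conj x (π b) = MulAut.conj x (π b) * MulAut.conj x (π a)
    rw [← map_mul, ← map_mul, ← map_mul, ← map_mul, hcomm a ha b hb]
  have h8 : Nat.card (Q : Subgroup (Equiv.Perm (Fin 4))) = 8 := by
    rw [Q.card_eq_multiplicity, show Nat.card (Equiv.Perm (Fin 4)) = 24 by
      rw [Nat.card_eq_fintype_card, Fintype.card_perm]; rfl,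
      show (24 : ℕ).factorization 2 = 3 by
        rw [Nat.factorization_def 24 Nat.prime_two, show (24 : ℕ) = 2 ^ 3 * 3 from rfl,
          padicValNat.mul (by norm_num) (by norm_num), padicValNat.prime_pow,
          padicValNat.eq_zero_of_not_dvd (by norm_num)]]
    rfl
  have hle : Nat.card (Q : Subgroup (Equiv.Perm (Fin 4))) ≤ Nat.card {y : Equiv.Perm (Fin 4) // y * g = g * y} :=
    Nat.card_le_card_of_injective (fun y => ⟨y.1, hQc y.1 y.2⟩) (fun a b e => Subtype.ext (congrArg (fun z : {y : Equiv.Perm (Fin 4) // y * g = g * y} => z.1) e))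
  rw [h8, Nat.card_eq_fintype_card, show Fintype.card {y : Equiv.Perm (Fin 4) // y * g = g * y} = 4 by
    rw [hg]; decide +kernel] at hle
  omega

/-- If every 2-local subgroup is 2-by-abelian the symmetric group of degree four is no image of a subgroup. -/
theorem not_surjective_four {A : Type v} [CommGroup A]
    (h : ∀ T : Subgroup G, IsPGroup 2 T → T ≠ ⊥ → ∃ χ : ↥(normalizer (T : Set G)) →* A, IsPGroup 2 χ.ker)
    (H : Subgroup G) (f : H →* Equiv.Perm (Fin 4)) (hf : Function.Surjective f) : False := by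
  classical
  haveI : Fact (Nat.Prime 2) := ⟨Nat.prime_two⟩
  obtain ⟨ψ, -, -, hψ4, -⟩ := exists_four_to_three
  set V := ψ.ker with hV
  have hVp : IsPGroup 2 V := IsPGroup.of_card (n := 2) (by rw [hψ4]; norm_num)
  let M := V.comap f
  obtain ⟨T⟩ : Nonempty (Sylow 2 M) := inferInstance
  set T' := (T : Subgroup M).map M.subtype
  let fM : M →* V := (f.comp M.subtype).codRestrict V fun x => x.2
  have hfM : Function.Surjective fM := fun v => by
    obtain ⟨x, hx⟩ := hf v.1
    exact ⟨⟨x, show f x ∈ V from hx ▸ v.2⟩, Subtype.ext hx⟩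
  have hTV : (T : Subgroup M).map fM = ⊤ :=
    ((T.mapSurjective hfM).3 (hVp.to_subgroup ⊤) le_top).symm
  set T'' := T'.map H.subtype
  have hT1 : T'' ≠ ⊥ := by
    intro h0
    rw [Subgroup.map_eq_bot_iff_of_injective _ H.subtype_injective,
      Subgroup.map_eq_bot_iff_of_injective _ M.subtype_injective] at h0
    rw [h0, Subgroup.map_bot] at hTV
    have hc : Nat.card (⊥ : Subgroup V) = Nat.card (⊤ : Subgroup V) := by rw [hTV]
    rw [Subgroup.card_bot, Subgroup.card_top, hψ4] at hc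
    omega
  obtain ⟨χ, hχ⟩ := h T'' ((T.2.map _).map _) hT1
  set N := normalizer (T' : Set H)
  have hNN : ∀ n : N, ((n : H) : G) ∈ normalizer (T'' : Set G) := fun n =>
    (Subgroup.le_normalizer_map H.subtype) ⟨n.1, n.2, rfl⟩
  let ι : N →* ↥(normalizer (T'' : Set G)) := (H.subtype.comp N.subtype).codRestrict _ hNN
  let χ' := χ.comp ι
  have hχ' : IsPGroup 2 χ'.ker := by
    refine hχ.of_injective ((ι.comp χ'.ker.subtype).codRestrict χ.ker fun x => x.2) fun x y e => ?_
    have e' := congrArg (fun z : χ.ker => ((z.1 : ↥(normalizer (T'' : Set G))) : G)) e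
    exact Subtype.ext (Subtype.ext (Subtype.ext e'))
  let g : N →* Equiv.Perm (Fin 4) := f.comp N.subtype
  have hg : Function.Surjective g := by
    intro q
    obtain ⟨x, rfl⟩ := hf q
    have hx : x ∈ N ⊔ M := by
      rw [Sylow.normalizer_sup_eq_top T]
      trivial
    rw [← SetLike.mem_coe, Subgroup.mul_normal, Set.mem_mul] at hx
    obtain ⟨a, ha, b, hb, rfl⟩ := hx
    obtain ⟨t, ht, hte⟩ : fM ⟨b, hb⟩ ∈ (T : Subgroup M).map fM := hTV ▸ Subgroup.mem_top _
    refine ⟨⟨a * (t : H), N.mul_mem ha (Subgroup.le_normalizer ⟨t, ht, rfl⟩)⟩, ?_⟩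
    show f (a * (t : H)) = f (a * b)
    rw [map_mul, map_mul]
    exact congrArg (fun z => f a * z) (congrArg Subtype.val hte)
  obtain ⟨a, ha⟩ := hg (Equiv.swap 0 1)
  obtain ⟨b, hb⟩ := hg (Equiv.swap 1 2)
  have hk : ⁅a, b⁆ ∈ χ'.ker := by
    rw [MonoidHom.mem_ker, map_commutatorElement, commutatorElement_eq_one_iff_mul_comm, mul_comm]
  obtain ⟨k, hk'⟩ := hχ' ⟨_, hk⟩
  have h1 : (g ⁅a, b⁆) ^ 2 ^ k = 1 := by
    rw [← map_pow, show ⁅a, b⁆ ^ 2 ^ k = 1 from congrArg Subtype.val hk', map_one]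
  rw [map_commutatorElement, ha, hb] at h1
  have h3 : orderOf ⁅(Equiv.swap 0 1 : Equiv.Perm (Fin 4)), (Equiv.swap 1 2 : Equiv.Perm (Fin 4))⁆ = 3 := by
    haveI : Fact (Nat.Prime 3) := ⟨by norm_num⟩
    exact orderOf_eq_prime (by decide) (by decide)
  have := orderOf_dvd_of_pow_eq_one h1
  rw [h3] at this
  exact absurd (Nat.Prime.dvd_of_dvd_pow Nat.prime_three this) (by norm_num)

/-- A section isomorphic to the symmetric group of degree three gives an inverted element of order three, if all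
2-elements are involutions. -/
theorem exists_inverted_three (h : ∀ S : Sylow 2 G, ∀ x ∈ (S : Subgroup G), x * x = 1)
    (hi : Cfsg.Involves (Equiv.Perm (Fin 3)) G) :
    ∃ s y : G, orderOf s = 2 ∧ orderOf y = 3 ∧ s * y * s⁻¹ = y⁻¹ := by
  classical
  haveI : Fact (Nat.Prime 2) := ⟨Nat.prime_two⟩
  haveI : Fact (Nat.Prime 3) := ⟨by norm_num⟩
  obtain ⟨K, π, hπ⟩ := exists_hom_of_involves hi
  obtain ⟨t, z, ⟨k, htk⟩, ⟨j, hzj⟩, htz, hz1⟩ := exists_inverting_lift π hπ (p := 3) (by norm_num)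
    (xb := Equiv.swap 0 1) (yb := Equiv.swap 0 1 * Equiv.swap 1 2)
    ⟨1, orderOf_eq_prime (by decide) (by decide)⟩ (by decide) (by decide)
  have hz : z ≠ 1 := fun e => hz1 (by rw [e, map_one])
  have hj : 1 ≤ j := by
    by_contra hj
    exact hz (orderOf_eq_one_iff.1 (by rw [hzj, show j = 0 by omega, pow_zero]))
  have hp : IsPGroup 2 (zpowers (t : G)) := IsPGroup.of_card (n := k) (by
    rw [Nat.card_zpowers, Subgroup.orderOf_coe, htk])
  obtain ⟨S, hS⟩ := hp.exists_le_sylow
  have ht2 := h S _ (hS (mem_zpowers (t : G)))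
  have hpow : orderOf (z ^ 3 ^ (j - 1)) = 3 := by
    rw [orderOf_pow_of_dvd (pow_ne_zero _ (by norm_num)) (hzj ▸ pow_dvd_pow 3 (by omega)), hzj,
      Nat.pow_div (by omega) (by norm_num), show j - (j - 1) = 1 by omega, pow_one]
  refine ⟨t, (z : G) ^ 3 ^ (j - 1), ?_, ?_, ?_⟩
  · refine orderOf_eq_prime (by rw [pow_two, ht2]) fun e => ?_
    have e' : t = 1 := Subtype.ext e
    rw [e', one_mul, inv_one, mul_one] at htz
    have : z ^ 2 = 1 := by rw [pow_two]; nth_rw 2 [htz]; exact mul_inv_cancel z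
    have hd := orderOf_dvd_of_pow_eq_one this
    rw [hzj] at hd
    have := (dvd_pow_self 3 (by omega : j ≠ 0)).trans hd
    norm_num at this
  · rw [← Subgroup.coe_pow, Subgroup.orderOf_coe, hpow]
  · rw [← conj_pow, ← inv_pow]
    exact congrArg (· ^ 3 ^ (j - 1)) (congrArg Subtype.val htz)

end CfsgLib.LocalEven.GoldS
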