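import Cfsg.Agent.Lib.LocalEven.GoldS.FPF

/-!
Owner: helper24. Groups of Ree type without real elements of order three: summary of the local structure.
-/

set_option autoImplicit false
set_option linter.all false

namespace CfsgLib.LocalEven.GoldS

open Subgroup PSLF

namespace Ctx

variable {G : Type*} [Group G] {F : Type*} [Field F] [Fintype F] [CharP F 3] (c : Ctx G F)

theorem one_lt_card_H : 1 < Nat.card c.H := by
  have := card_Hs (F := F)
  have := c.hbig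
  rw [c.card_H_eq]
  omega

theorem t_conj_H {h : G} (hh : h ∈ c.H) : c.t * h * c.t⁻¹ = h :=
  commute_iff_conj.1 (c.mem_Ct.1 (c.H_le_Ct hh)).symm

variable [Finite G]

theorem W_conj_mem {n x : G} (hn : n ∈ normalizer (c.U : Set G)) (hx : x ∈ c.W) :
    n * x * n⁻¹ ∈ c.W :=
  (mem_normalizer_iff.1 (c.normalizer_U_le_normalizer_W hn) x).1 hx

/-- `U` centralises `W` -/
theorem W_le_centralizer_U (hno : NoReal G) : c.W ≤ centralizer (c.U : Set G) := by
  classical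
  by_contra hne
  obtain ⟨B0, hB0, hc0, hB0c⟩ := c.exists_component hno le_rfl c.U_le_normalizer_W hne
  rw [SetLike.not_le_iff_exists] at hB0c
  obtain ⟨x, ⟨hxW, hxB⟩, hxU⟩ := hB0c
  haveI : Fintype c.H := Fintype.ofFinite _
  letI : CommGroup c.W := { (inferInstance : Group c.W) with
    mul_comm := fun a b => Subtype.ext (c.W_comm hno a.2 b.2) }
  let f : c.H → c.W := fun h => ⟨(h : G) * x * (h : G)⁻¹, c.W_conj_mem (c.H_le_normalizer_U h.2) hxW⟩
  set z := ∏ h, f h with hz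
  obtain ⟨h1, hh1, hh11⟩ : ∃ h ∈ c.H, h ≠ 1 := by
    by_contra h
    push Not at h
    have := card_le_of_le (show c.H ≤ ⊥ from fun y hy => mem_bot.2 (h y hy))
    rw [Subgroup.card_bot] at this
    have := c.one_lt_card_H
    omega
  let cj : c.W →* c.W :=
    { toFun := fun a => ⟨h1 * a * h1⁻¹, c.W_conj_mem (c.H_le_normalizer_U hh1) a.2⟩
      map_one' := Subtype.ext (by simp)
      map_mul' := fun a b => Subtype.ext (by
        show h1 * ((a : G) * b) * h1⁻¹ = (h1 * a * h1⁻¹) * (h1 * b * h1⁻¹)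
        group) }
  have hfix : cj z = z := by
    rw [hz, map_prod]
    refine Fintype.prod_equiv (Equiv.mulLeft (⟨h1, hh1⟩ : c.H)) _ _ fun h => Subtype.ext ?_
    show h1 * ((h : G) * x * (h : G)⁻¹) * h1⁻¹ = (h1 * h) * x * (h1 * h : G)⁻¹
    group
  have hz1 : (z : G) = 1 := c.H_cent_W hno hh1 hh11 z.2
    (commute_iff_conj.2 (congrArg Subtype.val hfix))
  let B : c.H → Subgroup G := fun h => B0.map (MulAut.conj (h : G)).toMonoidHom
  have hB : ∀ h, B h ≤ c.U := by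
    rintro h _ ⟨b, hb, rfl⟩
    exact c.H_normalizes_U h.2 (hB0 hb)
  have hcard : ∀ h, Nat.card (B h) * 3 = Fintype.card F := fun h => by
    rw [card_map_of_injective (MulAut.conj (h : G)).injective]; exact hc0
  have hinj : Function.Injective B := by
    intro h h' e
    by_contra hne'
    refine c.not_invariant_hyperplane (h := (h' : G)⁻¹ * h) (c.H.mul_mem (c.H.inv_mem h'.2) h.2)
      (fun e' => hne' (Subtype.ext (inv_mul_eq_one.1 e').symm)) hB0 hc0 fun v hv => ?_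
    obtain ⟨w, hw, e'⟩ := (e ▸ mem_map_of_mem _ hv : (MulAut.conj (h : G)).toMonoidHom v ∈ B h')
    have e'' : (h' : G) * w * (h' : G)⁻¹ = h * v * (h : G)⁻¹ := e'
    rwa [show (h' : G)⁻¹ * h * v * ((h' : G)⁻¹ * h)⁻¹ = (h' : G)⁻¹ * (h * v * (h : G)⁻¹) * h' by group,
      ← e'', show (h' : G)⁻¹ * ((h' : G) * w * (h' : G)⁻¹) * h' = w by group]
  have hf : ∀ h : c.H, (f h : G) ∈ c.comp (B h) := by
    intro h
    refine ⟨(f h).2, mem_centralizer_iff.2 ?_⟩
    rintro _ ⟨b, hb, rfl⟩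
    have hxb := mem_centralizer_iff.1 hxB b hb
    show (h : G) * b * (h : G)⁻¹ * (h * x * (h : G)⁻¹) = h * x * (h : G)⁻¹ * (h * b * (h : G)⁻¹)
    calc (h : G) * b * (h : G)⁻¹ * (h * x * (h : G)⁻¹) = h * (b * x) * (h : G)⁻¹ := by group
      _ = h * (x * b) * (h : G)⁻¹ := by rw [hxb]
      _ = _ := by group
  refine hxU ?_
  have hf1 : (f 1 : G) = x := by
    show ((1 : c.H) : G) * x * ((1 : c.H) : G)⁻¹ = x
    simp
  refine hf1 ▸ c.indep hno B hB hcard hinj (Finset.univ.erase 1) 1 (Finset.notMem_erase _ _) _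
    (hf 1) f (fun h _ => hf h) ?_
  have e := congrArg Subtype.val ((Finset.mul_prod_erase _ f (Finset.mem_univ (1 : c.H))).trans hz.symm)
  rw [Subgroup.coe_mul, hz1] at e
  rw [e]
  exact one_mem _

theorem W_U_comm (hno : NoReal G) {r v : G} (hr : r ∈ c.W) (hv : v ∈ c.U) : r * v = v * r :=
  (mem_centralizer_iff.1 (c.W_le_centralizer_U hno hr) v hv).symm

/-- the centraliser of a root element -/
theorem cent_root (hno : NoReal G) {u x : G} (hu : u ∈ c.U) (hu1 : u ≠ 1) (hx : x * u = u * x) :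
    ∃ r ∈ c.W, ∃ v ∈ c.U, x = r * v ∨ x = r * v * c.t := by
  obtain ⟨R, -, -, -, hcov⟩ := c.exists_R hno hu hu1
  rcases hcov x hx with ho | ho
  · obtain ⟨r, hr, -, v, hv, e⟩ := c.cent_U_odd hno hu hu1 hx ho
    exact ⟨r, hr, v, hv, Or.inl e⟩
  · have hxt : x * c.t * u = u * (x * c.t) := by
      rw [mul_assoc, commute_iff_conj.2 (c.t_conj_U hu), ← mul_assoc, hx, mul_assoc]
    obtain ⟨r, hr, -, v, hv, e⟩ := c.cent_U_odd hno hu hu1 hxt ho
    refine ⟨r, hr, v, hv, Or.inr ?_⟩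
    rw [← e, mul_assoc, c.t_sq, mul_one]

/-- an exponent selecting the `U`-part in `W × U` -/
theorem exists_exponent (hno : NoReal G) :
    ∃ n : ℕ, ∀ r ∈ c.W, ∀ v ∈ c.U, (r * v) ^ n = v := by
  have h3 : Nat.Coprime 3 (Nat.card c.W) := Nat.prime_three.coprime_iff_not_dvd.2 (c.W_card hno).2
  obtain ⟨n, hn1, hn2⟩ := Nat.chineseRemainder h3 1 0
  refine ⟨n, fun r hr v hv => ?_⟩
  rw [(show Commute r v from c.W_U_comm hno hr hv).mul_pow]
  have e1 : r ^ n = 1 := orderOf_dvd_iff_pow_eq_one.1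
    ((c.W.orderOf_dvd_natCard hr).trans (Nat.modEq_zero_iff_dvd.1 hn2))
  have e2 : v ^ n = v := by
    have hv3 := c.U_cube hv
    have hn : n % 3 = 1 := hn1
    rw [← Nat.mod_add_div n 3, pow_add, pow_mul, hv3, one_pow, mul_one, hn, pow_one]
  rw [e1, e2, one_mul]

theorem eq_of_mul_eq (hno : NoReal G) {r r' v v' : G} (hr : r ∈ c.W) (hr' : r' ∈ c.W) (hv : v ∈ c.U)
    (hv' : v' ∈ c.U) (h : r * v = r' * v') : r = r' ∧ v = v' := by
  obtain ⟨n, hn⟩ := c.exists_exponent hno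
  have e : v = v' := by rw [← hn r hr v hv, h, hn r' hr' v' hv']
  subst e
  exact ⟨mul_right_cancel h, rfl⟩

/-- elements of `N(U)` -/
theorem normalizer_U_decomp (hno : NoReal G) {n : G} (hn : n ∈ normalizer (c.U : Set G)) :
    ∃ r ∈ c.W, ∃ v ∈ c.U, ∃ h ∈ c.H, n = r * v * h ∨ n = r * v * (c.t * h) := by
  obtain ⟨u, hu, hu1⟩ : ∃ u ∈ c.U, u ≠ 1 := ⟨c.ι (PSLF.u 1), mem_map_of_mem _ (u_mem 1),
    fun e => one_ne_zero (α := F) (u_eq_one (c.inj (e.trans (map_one c.ι).symm)))⟩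
  have hu' : n * u * n⁻¹ ∈ c.U := (mem_normalizer_iff.1 hn u).1 hu
  have hu'1 : n * u * n⁻¹ ≠ 1 := fun e => hu1 (by simpa using e)
  obtain ⟨r, hri, hro, hru, hk, hku⟩ := c.exists_fusion hno hu hu' hu'1 rfl
  have hrW : r ∈ c.W := c.isGen_mem_W ⟨_, hu', hu'1, hru, hro, c.inverted_not_three hno hri⟩
  obtain ⟨_, ⟨s, rfl⟩, rfl⟩ := hu
  have hs : s ≠ 0 := fun h => hu1 (by rw [h, u_zero, map_one])
  have key : ∀ k : P2 F, c.ι k * c.ι (PSLF.u s) * (c.ι k)⁻¹ = n * c.ι (PSLF.u s) * n⁻¹ →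
      ∃ v ∈ c.U, ∃ h ∈ c.H, c.ι k = v * h := by
    intro k hk'
    obtain ⟨b, hb, e⟩ := hu'
    have : k * PSLF.u s * k⁻¹ = b := c.inj (by rw [map_mul, map_mul, map_inv, hk', e])
    obtain ⟨a, ha, h, hh, rfl⟩ := Bs_decomp (normalizer_Us hs (this ▸ hb))
    exact ⟨_, mem_map_of_mem _ ha, _, mem_map_of_mem _ hh, map_mul _ _ _⟩
  obtain ⟨k, hk' | hk'⟩ := c.decomp hk
  · rw [hk'] at hku
    obtain ⟨v, hv, h, hh, e⟩ := key k hku
    refine ⟨r, hrW, v, hv, h, hh, Or.inl ?_⟩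
    rw [mul_assoc, ← e, ← hk', mul_inv_cancel_left]
  · rw [hk'] at hku
    have hku' : c.ι k * c.ι (PSLF.u s) * (c.ι k)⁻¹ = n * c.ι (PSLF.u s) * n⁻¹ := by
      calc c.ι k * c.ι (PSLF.u s) * (c.ι k)⁻¹
          = c.t⁻¹ * (c.t * c.ι k * c.ι (PSLF.u s) * (c.t * c.ι k)⁻¹) * c.t := by group
        _ = c.t⁻¹ * (n * c.ι (PSLF.u s) * n⁻¹) * c.t := by rw [hku]
        _ = _ := by
          rw [mul_assoc, ← commute_iff_conj.2 (c.t_conj_U hu'), inv_mul_cancel_left]
    obtain ⟨v, hv, h, hh, e⟩ := key k hku'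
    refine ⟨r, hrW, v, hv, h, hh, Or.inr ?_⟩
    have e2 : c.t * c.ι k = v * (c.t * h) := by
      rw [e, ← mul_assoc, commute_iff_conj.2 (c.t_conj_U hv), mul_assoc]
    rw [mul_assoc, ← e2, ← hk', mul_inv_cancel_left]

/-- the odd part `W × U` of `N(U)` -/
def A : Subgroup G := c.W ⊔ c.U

theorem mem_A {x : G} : x ∈ c.A ↔ ∃ r ∈ c.W, ∃ v ∈ c.U, x = r * v := by
  rw [A, sup_comm, Core.mem_sup_iff_mul' c.U_le_normalizer_W]

theorem A_comm (hno : NoReal G) {x y : G} (hx : x ∈ c.A) (hy : y ∈ c.A) : x * y = y * x := by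
  obtain ⟨r, hr, v, hv, rfl⟩ := c.mem_A.1 hx
  obtain ⟨r', hr', v', hv', rfl⟩ := c.mem_A.1 hy
  have h1 : Commute r r' := c.W_comm hno hr hr'
  have h2 : Commute r v' := c.W_U_comm hno hr hv'
  have h3 : Commute v r' := (c.W_U_comm hno hr' hv).symm
  have h4 : Commute v v' := c.U_comm hv hv'
  exact ((h1.mul_right h2).mul_left (h3.mul_right h4)).eq

/-- elements of `N(U)` outside `A` act without fixed points on `W` -/
theorem fpf_outside_A (hno : NoReal G) {n y : G} (hn : n ∈ normalizer (c.U : Set G)) (hnA : n ∉ c.A)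
    (hy : y ∈ c.W) (hfix : n * y * n⁻¹ = y) : y = 1 := by
  obtain ⟨r, hr, v, hv, h, hh, e⟩ := c.normalizer_U_decomp hno hn
  have hcancel : ∀ z ∈ c.W, r * v * z * (r * v)⁻¹ = z := by
    intro z hz
    rw [c.A_comm hno (c.mem_A.2 ⟨r, hr, v, hv, rfl⟩) (c.mem_A.2 ⟨z, hz, 1, one_mem _, (mul_one z).symm⟩),
      mul_inv_cancel_right]
  rcases e with rfl | rfl
  · have h1 : h ≠ 1 := fun e' => hnA (c.mem_A.2 ⟨r, hr, v, hv, by rw [e', mul_one]⟩)
    rw [show r * v * h * y * (r * v * h)⁻¹ = r * v * (h * y * h⁻¹) * (r * v)⁻¹ by group,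
      hcancel _ (c.W_conj_mem (c.H_le_normalizer_U hh) hy)] at hfix
    exact c.H_cent_W hno hh h1 hy (commute_iff_conj.2 hfix)
  · have hyh : h * y * h⁻¹ ∈ c.W := c.W_conj_mem (c.H_le_normalizer_U hh) hy
    rw [show r * v * (c.t * h) * y * (r * v * (c.t * h))⁻¹
        = r * v * (c.t * (h * y * h⁻¹) * c.t⁻¹) * (r * v)⁻¹ by group, c.W_inverted hno hyh,
      hcancel _ (c.W.inv_mem hyh)] at hfix
    have e1 : h * y * h⁻¹ = y⁻¹ := by rw [← hfix, inv_inv, hfix]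
    by_cases h2 : h ^ 2 = 1
    · have h1 : h = 1 := by
        rcases (Nat.dvd_prime Nat.prime_two).1 (orderOf_dvd_of_pow_eq_one h2) with e' | e'
        · exact orderOf_eq_one_iff.1 e'
        · have := c.odd_card_H.of_dvd_nat (c.H.orderOf_dvd_natCard hh)
          rw [e'] at this; exact absurd this (by decide)
      rw [h1, one_mul, inv_one, mul_one] at e1
      have hyo := c.W_odd hno hy
      have hy2 : y ^ 2 = 1 := by rw [pow_two]; nth_rewrite 2 [e1]; exact mul_inv_cancel y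
      rcases (Nat.dvd_prime Nat.prime_two).1 (orderOf_dvd_of_pow_eq_one hy2) with e' | e'
      · exact orderOf_eq_one_iff.1 e'
      · rw [e'] at hyo; exact absurd hyo (by decide)
    · refine c.H_cent_W hno (c.H.pow_mem hh 2) h2 hy (commute_iff_conj.2 ?_)
      rw [pow_two, show h * h * y * (h * h)⁻¹ = h * (h * y * h⁻¹) * h⁻¹ by group, e1, ← conj_inv, e1,
        inv_inv]

/-- fusion of elements with nontrivial `U`-part -/
theorem mem_normalizer_of_fusion (hno : NoReal G) {g r u r' u' : G} (hr : r ∈ c.W) (hu : u ∈ c.U)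
    (hu1 : u ≠ 1) (hr' : r' ∈ c.W) (hu' : u' ∈ c.U) (h : g * (r * u) * g⁻¹ = r' * u') :
    g ∈ normalizer (c.U : Set G) := by
  obtain ⟨m, hm⟩ := c.exists_exponent hno
  have hgu : g * u * g⁻¹ = u' := by rw [← hm r hr u hu, ← conj_pow, h, hm r' hr' u' hu']
  have hu'1 : u' ≠ 1 := fun e => hu1 (by rw [← hgu] at e; simpa using e)
  obtain ⟨r0, hri, hro, hru, hk, hku⟩ := c.exists_fusion hno hu hu' hu'1 hgu
  have hrW : r0 ∈ c.W := c.isGen_mem_W ⟨_, hu', hu'1, hru, hro, c.inverted_not_three hno hri⟩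
  have hrN : r0 ∈ normalizer (c.U : Set G) :=
    Subgroup.centralizer_le_normalizer _ (c.W_le_centralizer_U hno hrW)
  obtain ⟨_, ⟨s, rfl⟩, rfl⟩ := hu
  have hs : s ≠ 0 := fun h => hu1 (by rw [h, u_zero, map_one])
  have key : ∀ k : P2 F, c.ι k * c.ι (PSLF.u s) * (c.ι k)⁻¹ = u' →
      c.ι k ∈ normalizer (c.U : Set G) := by
    intro k hk'
    obtain ⟨b, hb, e⟩ := hu'
    have : k * PSLF.u s * k⁻¹ = b := c.inj (by rw [map_mul, map_mul, map_inv, hk', e])
    obtain ⟨a, ha, h, hh, rfl⟩ := Bs_decomp (normalizer_Us hs (this ▸ hb))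
    rw [map_mul]
    exact mul_mem (Subgroup.le_normalizer (mem_map_of_mem _ ha))
      (c.H_le_normalizer_U (mem_map_of_mem _ hh))
  have hkN : r0⁻¹ * g ∈ normalizer (c.U : Set G) := by
    obtain ⟨k, hk' | hk'⟩ := c.decomp hk
    · rw [hk'] at hku ⊢
      exact key k hku
    · rw [hk'] at hku ⊢
      refine mul_mem c.t_mem_normalizer_U (key k ?_)
      calc c.ι k * c.ι (PSLF.u s) * (c.ι k)⁻¹
          = c.t⁻¹ * (c.t * c.ι k * c.ι (PSLF.u s) * (c.t * c.ι k)⁻¹) * c.t := by group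
        _ = c.t⁻¹ * u' * c.t := by rw [hku]
        _ = _ := by rw [mul_assoc, ← commute_iff_conj.2 (c.t_conj_U hu'), inv_mul_cancel_left]
  have := mul_mem hrN hkN
  rwa [mul_inv_cancel_left] at this

/-- no product of two conjugates of a root element is `t` -/
theorem no_triple (hno : NoReal G) {u g g' : G} (hu : u ∈ c.U) (hu1 : u ≠ 1)
    (h : g * u * g⁻¹ * (g' * u * g'⁻¹) = c.t) : False := by
  set x := g * u * g⁻¹ with hx
  set y := g' * u * g'⁻¹ with hy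
  have hx3 : x ^ 3 = 1 := by rw [hx, conj_pow, c.U_cube hu]; group
  have hy3 : y ^ 3 = 1 := by rw [hy, conj_pow, c.U_cube hu]; group
  have e : y = x⁻¹ * c.t := by rw [← h, inv_mul_cancel_left]
  set s := x⁻¹ * c.t * x with hs
  set s' := x * c.t * x⁻¹ with hs'
  -- the product of the three conjugates of `t` is trivial
  have hprod : s * s' * c.t = 1 := by
    have h3 : y * y * y = 1 := by rw [← pow_two, ← pow_succ]; exact hy3
    rw [e] at h3
    have hxx : x⁻¹ * x⁻¹ = x := by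
      have : x * x * x = 1 := by rw [← pow_two, ← pow_succ]; exact hx3
      rw [← mul_inv_rev]
      exact inv_eq_of_mul_eq_one_right this
    calc s * s' * c.t = x⁻¹ * c.t * (x * x) * c.t * x⁻¹ * c.t := by rw [hs, hs']; group
      _ = x⁻¹ * c.t * (x⁻¹) * c.t * x⁻¹ * c.t := by
        rw [show x * x = x⁻¹ from by rw [eq_comm, inv_eq_iff_mul_eq_one, ← pow_two, ← pow_succ']; exact hx3]
      _ = x⁻¹ * c.t * (x⁻¹ * c.t) * (x⁻¹ * c.t) := by group
      _ = 1 := h3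
  -- hence `y` is conjugate to `x⁻¹` by `s`
  have hs2 : s * s = 1 := by rw [hs, show x⁻¹ * c.t * x * (x⁻¹ * c.t * x) = x⁻¹ * (c.t * c.t) * x by group, c.t_sq]; group
  have hs'2 : s' * s' = 1 := by rw [hs', show x * c.t * x⁻¹ * (x * c.t * x⁻¹) = x * (c.t * c.t) * x⁻¹ by group, c.t_sq]; group
  have hst : s' = s * c.t := by
    have h1 : s * s' = c.t := by rw [eq_inv_of_mul_eq_one_left hprod, c.t_inv]
    rw [← h1, ← mul_assoc, hs2, one_mul]
  have hcomm : s * c.t = c.t * s := by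
    have h1 : s * c.t * (s * c.t) = 1 := by rw [← hst]; exact hs'2
    have h2 := eq_inv_of_mul_eq_one_left h1
    rw [mul_inv_rev, c.t_inv, inv_eq_of_mul_eq_one_right hs2] at h2
    exact h2
  have hxs : x * s * x⁻¹ = c.t := by rw [hs]; group
  have hxs' : x⁻¹ * s' * x = c.t := by rw [hs']; group
  have hsx : x⁻¹ * s * x = s' := by
    have e1 : x⁻¹ * s * x = x * c.t * x⁻¹ := by
      rw [hs]
      have hxx : x⁻¹ * x⁻¹ = x := by
        have : x * x * x = 1 := by rw [← pow_two, ← pow_succ]; exact hx3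
        rw [← mul_inv_rev]
        exact inv_eq_of_mul_eq_one_right this
      calc x⁻¹ * (x⁻¹ * c.t * x) * x = (x⁻¹ * x⁻¹) * c.t * ((x⁻¹ * x⁻¹)⁻¹) := by
            simp only [mul_inv_rev, inv_inv, mul_assoc]
        _ = _ := by rw [hxx]
    exact e1
  have hconj : s' * x⁻¹ * s'⁻¹ = y := by
    rw [e, inv_eq_of_mul_eq_one_right hs'2]
    have e3 : x * s' * x⁻¹ = s := by
      have := congrArg (fun z => x * z * x⁻¹) hsx
      simpa [mul_assoc] using this.symm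
    calc s' * x⁻¹ * s' = x⁻¹ * ((x * s' * x⁻¹) * s') := by group
      _ = x⁻¹ * (s * (s * c.t)) := by rw [e3, hst]
      _ = x⁻¹ * c.t := by rw [← mul_assoc s, hs2, one_mul]
  refine c.root_not_conj_inv hno (g := (s' * g)⁻¹ * g') hu hu1 ?_
  rw [show (s' * g)⁻¹ * g' * u * ((s' * g)⁻¹ * g')⁻¹ = g⁻¹ * (s'⁻¹ * (g' * u * g'⁻¹) * s') * g by group,
    ← hy, ← hconj, show s'⁻¹ * (s' * x⁻¹ * s'⁻¹) * s' = x⁻¹ by group, hx]
  group

end Ctx

end CfsgLib.LocalEven.GoldS
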