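import Cfsg.Agent.Lib.LocalEven.GoldS.Comp
import Cfsg.Agent.Lib.Classical.SmallIso

/-!
Owner: helper24. Groups of Ree type without real elements of order three: centralisers of elements of `W`.
-/

set_option autoImplicit false
set_option linter.all false

namespace CfsgLib.LocalEven.GoldS

open Subgroup PSLF

theorem pow_six_lt_five_pow {n : ℕ} (hn : 13 ≤ n) : (2 * n + 1) ^ 6 < 5 ^ n := by
  induction n, hn using Nat.le_induction with
  | base => norm_num
  | succ m hm ih =>
    have h1 : (27 * (2 * (m + 1) + 1)) ^ 6 ≤ (29 * (2 * m + 1)) ^ 6 :=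
      Nat.pow_le_pow_left (by omega) 6
    rw [mul_pow, mul_pow] at h1
    rw [pow_succ 5 m]
    nlinarith [pow_pos (show 0 < 2 * m + 1 by omega) 6]

namespace Ctx

variable {G : Type*} [Group G] {F : Type*} [Field F] [Fintype F] [CharP F 3] (c : Ctx G F)

theorem eq_one_of_sq_mem_Bs (hq : Fintype.card F % 8 = 3) {k : P2 F} (hk : k ∈ Bs F)
    (h2 : k * k = 1) : k = 1 := by
  obtain ⟨a, ha, h, hh, rfl⟩ := Bs_decomp hk
  set a' := h * a * h⁻¹ with ha'
  have haU : a * a' ∈ Us F := (Us F).mul_mem ha (Hs_normalizes hh ha)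
  have e : a * h * (a * h) = a * a' * (h * h) := by rw [ha']; group
  rw [e] at h2
  have hhU : h * h ∈ Us F := by
    rw [eq_inv_of_mul_eq_one_right h2]
    exact (Us F).inv_mem haU
  have h6 : h ^ 6 = 1 := by
    rw [show 6 = 2 * 3 from rfl, pow_mul, pow_two]
    exact Us_cube hhU
  have hd : orderOf h ∣ 6 := orderOf_dvd_of_pow_eq_one h6
  have hd2 : orderOf h ∣ Nat.card (Hs F) := (Hs F).orderOf_dvd_natCard hh
  have hc := card_Hs (F := F)
  have h3 : ¬ 3 ∣ Nat.card (Hs F) := by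
    obtain ⟨n, -, hn⟩ := FiniteField.card F 3
    have : 3 ∣ Fintype.card F := hn ▸ dvd_pow_self 3 n.pos.ne'
    omega
  have hodd := odd_card_Hs (F := F) hq
  have h1 : h = 1 := by
    refine orderOf_eq_one_iff.1 (Nat.eq_one_of_dvd_coprimes ?_ hd hd2)
    rw [show 6 = 2 * 3 from rfl, Nat.coprime_mul_iff_left]
    exact ⟨Nat.coprime_two_left.2 hodd, Nat.prime_three.coprime_iff_not_dvd.2 h3⟩
  subst h1
  rw [mul_one, mul_one] at h2
  rw [show a' = a by rw [ha']; group] at h2
  rw [mul_one]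
  have := Us_cube ha
  rw [pow_succ, pow_two, h2, one_mul] at this
  exact this

theorem mem_Us_of_cube {k : P2 F} (hk : k ∈ Bs F) (h3 : k ^ 3 = 1) : k ∈ Us F := by
  obtain ⟨a, ha, h, hh, rfl⟩ := Bs_decomp hk
  have hH3 : ¬ 3 ∣ Nat.card (Hs F) := by
    have hc := card_Hs (F := F)
    obtain ⟨n, -, hn⟩ := FiniteField.card F 3
    have : 3 ∣ Fintype.card F := hn ▸ dvd_pow_self 3 n.pos.ne'
    have := Fintype.one_lt_card (α := F)
    omega
  have e : (a * h) ^ 3 = a * (h * a * h⁻¹) * (h * h * a * (h * h)⁻¹) * h ^ 3 := by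
    rw [pow_succ (a * h), pow_two]; group
  have hmem : h ^ 3 ∈ Us F := by
    have hX : a * (h * a * h⁻¹) * (h * h * a * (h * h)⁻¹) ∈ Us F :=
      (Us F).mul_mem ((Us F).mul_mem ha (Hs_normalizes hh ha))
        (Hs_normalizes ((Hs F).mul_mem hh hh) ha)
    rw [e] at h3
    rw [eq_inv_of_mul_eq_one_right h3]
    exact (Us F).inv_mem hX
  have h9 : h ^ (3 ^ 2) = 1 := by
    rw [pow_succ 3 1, pow_one, pow_mul]
    exact Us_cube hmem
  obtain ⟨i, -, hi⟩ := (Nat.dvd_prime_pow Nat.prime_three).1 (orderOf_dvd_of_pow_eq_one h9)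
  rcases i with - | i
  · have h1 : h = 1 := orderOf_eq_one_iff.1 (by simpa using hi)
    rw [h1, mul_one]; exact ha
  · exact absurd ((dvd_pow_self 3 i.succ_ne_zero).trans
      ((dvd_of_eq hi.symm).trans ((Hs F).orderOf_dvd_natCard hh))) hH3

variable [Finite G]

include c

theorem two_mul_card_P2 : 2 * Nat.card (P2 F) = Fintype.card F * (Fintype.card F ^ 2 - 1) := by
  have := Classical.Two.card_PSL_two (F := F)
  have h2 : Nat.gcd 2 (Fintype.card F - 1) = 2 :=
    Nat.gcd_eq_left (by have := c.hq; omega)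
  rwa [h2] at this

theorem card_P2_ge : 2 * Fintype.card F ≤ Nat.card (P2 F) := by
  have h := c.two_mul_card_P2
  have hb := c.hbig
  have h2 : 4 ≤ Fintype.card F ^ 2 - 1 := by
    have : 27 ^ 2 ≤ Fintype.card F ^ 2 := Nat.pow_le_pow_left hb 2
    omega
  nlinarith

theorem exists_move {z : G} (hz : orderOf z = 2) : ∃ c' : Ctx G F, c'.t = z := by
  obtain ⟨g, hg⟩ := c.exists_conj_t hz
  exact ⟨c.move g, hg⟩

theorem card_inter_le_P2 {y z : G} (hz : orderOf z = 2) (hzy : z * y ≠ y * z) :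
    Nat.card (centralizer ({y} : Set G) ⊓ centralizer ({z} : Set G) : Subgroup G)
      ≤ Nat.card (P2 F) := by
  obtain ⟨c', rfl⟩ := c.exists_move hz
  exact Nat.card_le_card_of_injective _ (c'.π_injOn (L := centralizer ({y} : Set G) ⊓ c'.Ct)
    inf_le_right fun h => hzy (mem_centralizer_singleton_iff.1 h.1))

theorem card_inter_le_two_q {y z : G} (hy1 : y ≠ 1) (hyo : Odd (orderOf y)) (hz : orderOf z = 2)
    (hzy : z * y = y * z) :
    Nat.card (centralizer ({y} : Set G) ⊓ centralizer ({z} : Set G) : Subgroup G)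
      ≤ 2 * Fintype.card F := by
  obtain ⟨c', rfl⟩ := c.exists_move hz
  have hy : y ∈ c'.Ct := c'.mem_Ct.2 hzy.symm
  obtain ⟨y0, hy0⟩ := c'.mem_K_of_odd hy hyo
  have hy2 : y0 * y0 ≠ 1 := by
    intro h
    have : y ^ 2 = 1 := by rw [← hy0, ← map_pow, pow_two, h, map_one]
    rcases (Nat.dvd_prime Nat.prime_two).1 (orderOf_dvd_of_pow_eq_one this) with e | e
    · exact hy1 (orderOf_eq_one_iff.1 e)
    · rw [e] at hyo; exact absurd hyo (by decide)
  set L : Subgroup G := centralizer ({y} : Set G) ⊓ centralizer ({c'.t} : Set G) with hL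
  have hLC : L ≤ c'.Ct := inf_le_right
  set f := c'.π.comp (Subgroup.inclusion hLC) with hf
  have hrange : f.range ≤ centralizer ({y0} : Set (P2 F)) := by
    rintro _ ⟨x, rfl⟩
    refine mem_centralizer_singleton_iff.2 ?_
    have h1 : (⟨x, hLC x.2⟩ : c'.Ct) * ⟨c'.ι y0, c'.ι_mem_Ct y0⟩
        = ⟨c'.ι y0, c'.ι_mem_Ct y0⟩ * ⟨x, hLC x.2⟩ :=
      Subtype.ext (show (x : G) * c'.ι y0 = c'.ι y0 * x by
        rw [hy0]; exact mem_centralizer_singleton_iff.1 x.2.1)
    have h2 := congrArg c'.π h1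
    rw [map_mul, map_mul, c'.π_ι] at h2
    exact h2
  have hker : Nat.card f.ker ≤ 2 := by
    have hsub : (Subtype.val '' ((f.ker : Set L))) ⊆ ({1, c'.t} : Set G) := by
      rintro _ ⟨x, hx, rfl⟩
      exact c'.π_ker (x := ⟨x, hLC x.2⟩) hx
    have := Set.ncard_le_ncard hsub
    rw [Set.ncard_image_of_injective _ Subtype.val_injective] at this
    refine le_trans ?_ (this.trans (Set.ncard_insert_le _ _ |>.trans (by rw [Set.ncard_singleton])))
    rw [← Nat.card_coe_set_eq]
    exact le_rfl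
  have := card_centralizer_le hy2
  calc Nat.card L = Nat.card f.ker * f.ker.index := f.ker.card_mul_index.symm
    _ = Nat.card f.ker * Nat.card f.range := by rw [index_ker]
    _ ≤ 2 * Fintype.card F := Nat.mul_le_mul hker ((card_le_of_le hrange).trans this)

/-- no element of `W` is centralised by `K` -/
theorem not_K_le_centralizer {y : G} (hy1 : y ≠ 1) (hyo : Odd (orderOf y))
    (h : c.K ≤ centralizer ({y} : Set G)) : False := by
  have hw : orderOf c.w = 2 := (orderOf_injective c.ι c.inj _).trans orderOf_ww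
  obtain ⟨c', hc'⟩ := c.exists_move hw
  obtain ⟨z, s, hz, hs, hzs1, hzs2⟩ := exists_noncomm_centralizer_ww c.hq c.hbig
  have hy : y ∈ c'.Ct := c'.mem_Ct.2 (by
    rw [hc']; exact (mem_centralizer_singleton_iff.1 (h ⟨ww F, rfl⟩)).symm)
  obtain ⟨y0, hy0⟩ := c'.mem_K_of_odd hy hyo
  have hy2 : y0 * y0 ≠ 1 := by
    intro h'
    have : y ^ 2 = 1 := by rw [← hy0, ← map_pow, pow_two, h', map_one]
    rcases (Nat.dvd_prime Nat.prime_two).1 (orderOf_dvd_of_pow_eq_one this) with e | e
    · exact hy1 (orderOf_eq_one_iff.1 e)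
    · rw [e] at hyo; exact absurd hyo (by decide)
  have hmem : ∀ a : P2 F, a * ww F = ww F * a → c.ι a ∈ c'.Ct := fun a ha =>
    c'.mem_Ct.2 (by rw [hc']; show c.ι a * c.ι (ww F) = c.ι (ww F) * c.ι a; rw [← map_mul, ha, map_mul])
  have hcomm : ∀ (a : P2 F) (ha : a * ww F = ww F * a),
      c'.π ⟨c.ι a, hmem a ha⟩ * y0 = y0 * c'.π ⟨c.ι a, hmem a ha⟩ := by
    intro a ha
    have h1 : (⟨c.ι a, hmem a ha⟩ : c'.Ct) * ⟨c'.ι y0, c'.ι_mem_Ct y0⟩
        = ⟨c'.ι y0, c'.ι_mem_Ct y0⟩ * ⟨c.ι a, hmem a ha⟩ :=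
      Subtype.ext (show c.ι a * c'.ι y0 = c'.ι y0 * c.ι a by
        rw [hy0]; exact mem_centralizer_singleton_iff.1 (h ⟨a, rfl⟩))
    have h2 := congrArg c'.π h1
    rwa [map_mul, map_mul, c'.π_ι] at h2
  have hab := comm_of_centralize hy2 (hcomm z hz) (hcomm s hs)
  set Z : c'.Ct := ⟨c.ι z, hmem z hz⟩ with hZ
  set S : c'.Ct := ⟨c.ι s, hmem s hs⟩ with hS
  have hk : c'.π (Z * S * Z⁻¹ * S⁻¹) = 1 := by
    rw [map_mul, map_mul, map_mul, map_inv, map_inv, hab]; group
  have e : ((Z * S * Z⁻¹ * S⁻¹ : c'.Ct) : G) = c.ι (z * s * z⁻¹ * s⁻¹) := by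
    rw [hZ, hS]; simp
  rcases c'.π_ker hk with h1 | h1
  · exact hzs1 (c.inj (e.symm.trans (h1.trans (map_one c.ι).symm)))
  · exact hzs2 (c.inj (e.symm.trans (h1.trans hc')))

theorem card_involutions_Ct :
    Nat.card {z : G // orderOf z = 2 ∧ z * c.t = c.t * z}
      ≤ Fintype.card F * (Fintype.card F - 1) + 1 := by
  classical
  have hπ : ∀ z : {z : G // orderOf z = 2 ∧ z * c.t = c.t * z},
      ∃ x : (Bool × {k : P2 F // orderOf k = 2}) ⊕ Unit,
        (z : G) = Sum.elim (fun p => if p.1 then c.ι p.2 else c.t * c.ι p.2) (fun _ => c.t) x := by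
    rintro ⟨z, hz2, hzt⟩
    have hz1 : z ^ 2 = 1 := orderOf_dvd_iff_pow_eq_one.1 (dvd_of_eq hz2)
    have hz0 : z ≠ 1 := fun h => by simp [h] at hz2
    obtain ⟨k, h | h⟩ := c.decomp (c.mem_Ct.2 hzt)
    · refine ⟨Sum.inl (true, ⟨k, ?_⟩), h⟩
      rw [← orderOf_injective c.ι c.inj, ← h]; exact hz2
    · by_cases hk : k = 1
      · exact ⟨Sum.inr (), h.trans (by rw [hk, map_one, mul_one]; rfl)⟩
      · refine ⟨Sum.inl (false, ⟨k, ?_⟩), h⟩
        refine orderOf_eq_prime ?_ hk
        refine c.inj ?_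
        rw [map_pow, map_one, show c.ι k = c.t * z by rw [h, ← mul_assoc, c.t_sq, one_mul],
          (show Commute c.t z from hzt.symm).mul_pow, hz1, pow_two, c.t_sq, one_mul]
  choose f hf using hπ
  have hinj : Function.Injective f := fun a b e => Subtype.ext (by rw [hf a, hf b, e])
  refine (Nat.card_le_card_of_injective f hinj).trans ?_
  rw [Nat.card_sum, Nat.card_prod, Nat.card_unique (α := Unit), Nat.card_eq_fintype_card (α := Bool),
    Fintype.card_bool]
  have := card_involutions_le (F := F) c.hq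
  omega

/-- the centraliser of a nontrivial element of `W` has odd order -/
theorem odd_centralizer_W (hno : NoReal G) {y : G} (hy : y ∈ c.W) (hy1 : y ≠ 1) :
    Odd (Nat.card (centralizer ({y} : Set G))) := by
  classical
  haveI : Fact (Nat.Prime 2) := ⟨Nat.prime_two⟩
  rw [← Nat.not_even_iff_odd, even_iff_two_dvd]
  intro h2
  have hyo := c.W_odd hno hy
  have hyi := c.W_inverted hno hy
  have hyt : c.t * y ≠ y * c.t := fun h => hy1 (eq_one_of_fixed_inverted hyo h hyi)
  set Y : Subgroup G := centralizer ({y} : Set G) with hY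
  let X : Subgroup G :=
    { carrier := {x | x * y * x⁻¹ = y ∨ x * y * x⁻¹ = y⁻¹}
      mul_mem' := by
        intro a b ha hb
        rcases hb with hb | hb <;> rcases ha with ha | ha
        · left; rw [show a * b * y * (a * b)⁻¹ = a * (b * y * b⁻¹) * a⁻¹ by group, hb, ha]
        · right; rw [show a * b * y * (a * b)⁻¹ = a * (b * y * b⁻¹) * a⁻¹ by group, hb, ha]
        · right; rw [show a * b * y * (a * b)⁻¹ = a * (b * y * b⁻¹) * a⁻¹ by group, hb, ← conj_inv, ha]
        · left; rw [show a * b * y * (a * b)⁻¹ = a * (b * y * b⁻¹) * a⁻¹ by group, hb, ← conj_inv, ha,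
            inv_inv]
      one_mem' := Or.inl (by group)
      inv_mem' := by
        intro a ha
        rcases ha with ha | ha
        · left
          calc a⁻¹ * y * a⁻¹⁻¹ = a⁻¹ * (a * y * a⁻¹) * a⁻¹⁻¹ := by rw [ha]
            _ = y := by group
        · right
          calc a⁻¹ * y * a⁻¹⁻¹ = a⁻¹ * (a * y * a⁻¹)⁻¹ * a⁻¹⁻¹ := by simp [ha]
            _ = y⁻¹ := by group }
  have hXmem : ∀ x, x ∈ X ↔ (x * y * x⁻¹ = y ∨ x * y * x⁻¹ = y⁻¹) := fun x => Iff.rfl
  have htX : c.t ∈ X := Or.inr hyi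
  have hYmem : ∀ x, x ∈ Y ↔ x * y = y * x := fun x => mem_centralizer_singleton_iff
  have hYX : Y ≤ X := fun x hx => Or.inl (commute_iff_conj.1 ((hYmem x).1 hx))
  have hcov : ∀ x ∈ X, x ∈ Y ∨ x * c.t ∈ Y := by
    intro x hx
    rcases hx with hx | hx
    · exact Or.inl ((hYmem x).2 (commute_iff_conj.2 hx))
    · refine Or.inr ((hYmem _).2 (commute_iff_conj.2 ?_))
      rw [show x * c.t * y * (x * c.t)⁻¹ = x * (c.t * y * c.t⁻¹) * x⁻¹ by group, hyi, ← conj_inv, hx,
        inv_inv]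
  -- an involution of `C(y)` commuting with `t`
  obtain ⟨w0, hw2, hwY, hwt⟩ : ∃ w0, orderOf w0 = 2 ∧ w0 ∈ Y ∧ w0 * c.t = c.t * w0 := by
    obtain ⟨T, hT⟩ := (IsPGroup.of_card (p := 2) (n := 1)
      (by rw [Nat.card_zpowers, Subgroup.orderOf_mk, c.ht, pow_one]) :
      IsPGroup 2 (zpowers (⟨c.t, htX⟩ : X))).exists_le_sylow
    obtain ⟨S, hS⟩ := (T.isPGroup'.map X.subtype).exists_le_sylow
    haveI := c.sylow_comm S
    have h4 : 4 ∣ Nat.card X := by
      have hne : Y.subgroupOf X ≠ ⊤ := fun e => hyt ((hYmem _).1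
        (mem_subgroupOf.1 (e.ge (mem_top (⟨c.t, htX⟩ : X)))))
      have hi : (Y.subgroupOf X).index = 2 := by
        rw [Subgroup.index_eq_two_iff]
        refine ⟨⟨c.t, htX⟩, fun b => ?_⟩
        simp only [mem_subgroupOf, Subgroup.coe_mul]
        rcases hcov b b.2 with h | h
        · refine Or.inr ⟨h, fun h' => hyt ((hYmem _).1 ?_)⟩
          exact (Subgroup.mul_mem_cancel_left Y h).1 h'
        · refine Or.inl ⟨h, fun h' => hyt ((hYmem _).1 ?_)⟩
          exact (Subgroup.mul_mem_cancel_left Y h').1 h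
      rw [← (Y.subgroupOf X).card_mul_index, hi, Fusion.card_subgroupOf_eq hYX]
      obtain ⟨j, hj⟩ := h2
      exact ⟨j, by rw [hj]; ring⟩
    have hT4 : 4 ≤ Nat.card (T : Subgroup X) :=
      Nat.le_of_dvd Nat.card_pos (T.pow_dvd_card_of_pow_dvd_card (n := 2) h4)
    obtain ⟨v, hv, hv1, hvt⟩ : ∃ v ∈ (T : Subgroup X), (v : G) ≠ 1 ∧ (v : G) ≠ c.t := by
      by_contra h
      push Not at h
      have hsub : Subtype.val '' ((T : Subgroup X) : Set X) ⊆ ({1, c.t} : Set G) := by
        rintro _ ⟨v, hv, rfl⟩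
        by_cases h1 : (v : G) = 1
        · exact Or.inl h1
        · exact Or.inr (h v hv h1)
      have := Set.ncard_le_ncard hsub
      rw [Set.ncard_image_of_injective _ Subtype.val_injective, ← Nat.card_coe_set_eq,
        SetLike.coe_sort_coe] at this
      have h2' := Set.ncard_insert_le (1 : G) {c.t}
      rw [Set.ncard_singleton] at h2'
      omega
    have hcm : (v : G) * c.t = c.t * v := congrArg Subtype.val (mul_comm'
      (⟨v, hS ⟨v, hv, rfl⟩⟩ : (S : Subgroup G)) ⟨c.t, hS ⟨⟨c.t, htX⟩, hT (mem_zpowers _), rfl⟩⟩)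
    obtain ⟨x, hxT, hx1, hxY, hxc⟩ :
        ∃ x : X, x ∈ (T : Subgroup X) ∧ (x : G) ≠ 1 ∧ (x : G) ∈ Y ∧ (x : G) * c.t = c.t * x := by
      rcases hcov v v.2 with h | h
      · exact ⟨v, hv, hv1, h, hcm⟩
      · refine ⟨v * ⟨c.t, htX⟩, (T : Subgroup X).mul_mem hv (hT (mem_zpowers _)), ?_, h, ?_⟩
        · show (v : G) * c.t ≠ 1
          intro e
          exact hvt (by rw [eq_inv_of_mul_eq_one_left e, c.t_inv])
        · show (v : G) * c.t * c.t = c.t * ((v : G) * c.t)
          rw [← mul_assoc c.t, ← hcm]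
    obtain ⟨k, hk⟩ := IsPGroup.iff_orderOf.1 T.isPGroup' ⟨x, hxT⟩
    rw [Subgroup.orderOf_mk, ← Subgroup.orderOf_coe] at hk
    rcases k with - | k
    · exact absurd (orderOf_eq_one_iff.1 (by simpa using hk)) hx1
    refine ⟨(x : G) ^ (orderOf (x : G) / 2), orderOf_pow_orderOf_div (orderOf_pos _).ne'
      (hk ▸ dvd_pow_self 2 k.succ_ne_zero), Y.pow_mem hxY _, (Commute.pow_left hxc _)⟩
  have hwt' : w0 ≠ c.t := fun h => hyt ((hYmem _).1 (h ▸ hwY))
  by_cases hUY : c.U ≤ Y
  · -- closure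
    obtain ⟨k, hk⟩ := c.decomp (c.mem_Ct.2 hwt)
    have hk1 : k ≠ 1 := by
      rintro rfl
      rw [map_one, mul_one] at hk
      rcases hk with h | h
      · simp [h] at hw2
      · exact hwt' h
    have hkk : k * k = 1 := by
      refine c.inj ?_
      rw [map_mul, map_one]
      have h1 : w0 * w0 = 1 := by
        rw [← pow_two]; exact orderOf_dvd_iff_pow_eq_one.1 (dvd_of_eq hw2)
      rcases hk with rfl | rfl
      · exact h1
      · calc c.ι k * c.ι k = (c.t * c.t) * (c.ι k * c.ι k) := by rw [c.t_sq, one_mul]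
          _ = c.t * (c.t * c.ι k) * c.ι k := by group
          _ = c.t * (c.ι k * c.t) * c.ι k := by rw [c.ι_comm]
          _ = c.t * c.ι k * (c.t * c.ι k) := by group
          _ = 1 := h1
    have hkB : k ∉ Bs F := fun h => hk1 (eq_one_of_sq_mem_Bs c.hq h hkk)
    have hu : c.ι (u (1 : F)) ∈ c.U := mem_map_of_mem _ (u_mem 1)
    have hconj : c.ι (k * u 1 * k⁻¹) ∈ Y := by
      have hmem := Y.mul_mem (Y.mul_mem hwY (hUY hu)) (Y.inv_mem hwY)
      rw [map_mul, map_mul, map_inv]
      rcases hk with rfl | rfl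
      · exact hmem
      · convert hmem using 1
        calc c.ι k * c.ι (u 1) * (c.ι k)⁻¹
            = c.ι k * c.ι (u 1) * (c.ι k)⁻¹ * (c.t * c.t⁻¹) := by group
          _ = c.t * (c.ι k * c.ι (u 1) * (c.ι k)⁻¹) * c.t⁻¹ := by
            rw [← mul_assoc, ← map_inv, ← map_mul, ← map_mul, c.ι_comm, map_mul, map_mul, map_inv]
          _ = _ := by group
    have hnB : k * u 1 * k⁻¹ ∉ Bs F := by
      intro h
      refine hkB (normalizer_Us one_ne_zero (mem_Us_of_cube h ?_))
      rw [conj_pow, Us_cube (u_mem 1)]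
      group
    exact c.not_K_le_centralizer hy1 hyo (c.K_le_of_mem hUY hconj hnB)
  -- counting
  have hne : ¬ c.W ≤ centralizer (c.U : Set G) := fun h => hUY fun v hv =>
    (hYmem v).2 (mem_centralizer_iff.1 (h hy) v hv)
  have hlow := c.five_pow_le_card_W hno hne
  have hWY : c.W ≤ Y := fun x hx => (hYmem x).2 (c.W_comm hno hx hy)
  haveI : Fintype Y := Fintype.ofFinite _
  haveI : Fintype {z : G // orderOf z = 2 ∧ z * c.t = c.t * z} := Fintype.ofFinite _
  haveI : Fintype G := Fintype.ofFinite _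
  set φ : Y → G := fun x => (x : G) * w0 * (x : G)⁻¹ with hφ
  have hfib : Nat.card Y ≤ 2 * Fintype.card F * (Finset.univ.image φ).card := by
    rw [Nat.card_eq_fintype_card, ← Finset.card_univ]
    refine Finset.card_le_mul_card_image _ _ fun a ha => ?_
    obtain ⟨x0, -, rfl⟩ := Finset.mem_image.1 ha
    refine le_trans ?_ (c.card_inter_le_two_q hy1 hyo hw2 ((hYmem w0).1 hwY))
    rw [Nat.card_eq_fintype_card]
    refine (Finset.card_le_card_of_injOn (fun x : Y => (x0 : G)⁻¹ * x)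
      (t := Finset.univ.filter (fun g : G => g ∈ Y ⊓ centralizer ({w0} : Set G))) ?_ ?_).trans
      (le_of_eq (Fintype.card_of_subtype _ (fun g => by simp [hY])).symm)
    · intro x hx
      have hx' : (x : G) * w0 * (x : G)⁻¹ = x0 * w0 * (x0 : G)⁻¹ := (Finset.mem_filter.1 hx).2
      refine Finset.mem_coe.2 (Finset.mem_filter.2 ⟨Finset.mem_univ _,
        Y.mul_mem (Y.inv_mem x0.2) x.2, mem_centralizer_singleton_iff.2 ?_⟩)
      calc (x0 : G)⁻¹ * x * w0 = (x0 : G)⁻¹ * (x * w0 * (x : G)⁻¹) * x := by group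
        _ = (x0 : G)⁻¹ * (x0 * w0 * (x0 : G)⁻¹) * x := by rw [hx']
        _ = _ := by group
    · intro a _ b _ e
      exact Subtype.ext (mul_left_cancel e)
  have himg : (Finset.univ.image φ).card ≤
      (Fintype.card F * (Fintype.card F - 1) + 1) * Nat.card (P2 F) := by
    have hsub : Finset.univ.image φ ⊆
        (Finset.univ : Finset {z : G // orderOf z = 2 ∧ z * c.t = c.t * z}).biUnion
          (fun z => Finset.univ.filter (fun g : G => g ∈ Y ⊓ centralizer ({(z : G)} : Set G))) := by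
      intro a ha
      obtain ⟨x, -, rfl⟩ := Finset.mem_image.1 ha
      have haY : φ x ∈ Y := Y.mul_mem (Y.mul_mem x.2 hwY) (Y.inv_mem x.2)
      have ha2 : φ x * φ x = 1 := by
        have h1 : w0 * w0 = 1 := by
          rw [← pow_two]; exact orderOf_dvd_iff_pow_eq_one.1 (dvd_of_eq hw2)
        show (x : G) * w0 * (x : G)⁻¹ * (x * w0 * (x : G)⁻¹) = 1
        calc (x : G) * w0 * (x : G)⁻¹ * (x * w0 * (x : G)⁻¹) = x * (w0 * w0) * (x : G)⁻¹ := by group
          _ = 1 := by rw [h1]; group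
      set a := φ x with haφ
      set d := a * c.t with hd
      have hdinv : Inverted c.t d := by
        show c.t * (a * c.t) * c.t⁻¹ = (a * c.t)⁻¹
        rw [mul_inv_rev, c.t_inv, inv_eq_of_mul_eq_one_right ha2, mul_assoc, mul_assoc, c.t_sq,
          mul_one]
      rcases Nat.even_or_odd (orderOf d) with he | ho
      · set z := d ^ (orderOf d / 2) with hz
        have hzo : orderOf z = 2 :=
          orderOf_pow_orderOf_div (orderOf_pos d).ne' (even_iff_two_dvd.1 he)
        have hz' : z⁻¹ = z := inv_eq_of_mul_eq_one_right (by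
          rw [← pow_two]; exact orderOf_dvd_iff_pow_eq_one.1 (dvd_of_eq hzo))
        have hzt : z * c.t = c.t * z := by
          have : c.t * z * c.t⁻¹ = z := (hdinv.pow _).trans hz'
          exact (commute_iff_conj.2 this).symm
        refine Finset.mem_biUnion.2 ⟨⟨z, hzo, hzt⟩, Finset.mem_univ _,
          Finset.mem_filter.2 ⟨Finset.mem_univ _, haY, mem_centralizer_singleton_iff.2 ?_⟩⟩
        show a * z = z * a
        have ha' : a = d * c.t := by rw [hd, mul_assoc, c.t_sq, mul_one]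
        rw [ha']
        exact (Commute.mul_left (show Commute d z from Commute.self_pow d _) hzt.symm).eq
      · exfalso
        obtain ⟨r, hr, hrr⟩ := exists_sq ho
        have hrX : r ∈ X := (zpowers_le.2 (X.mul_mem (hYX haY) htX)) hr
        have hrt := conj_of_sq (hdinv.mem_of_zpowers hr) hrr
        rw [hd, mul_assoc a c.t c.t, c.t_sq, mul_one] at hrt
        refine hyt ?_
        have hca : a * y = y * a := (hYmem a).1 haY
        have hcr : Commute a (r * y * r⁻¹) := by
          rcases hrX with h | h <;> rw [h]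
          · exact hca
          · exact (show Commute a y from hca).inv_right
        calc c.t * y = r⁻¹ * ((r * c.t * r⁻¹) * (r * y * r⁻¹)) * r := by group
          _ = r⁻¹ * ((r * y * r⁻¹) * (r * c.t * r⁻¹)) * r := by rw [hrt, hcr.eq]
          _ = _ := by group
    refine (Finset.card_le_card hsub).trans (Finset.card_biUnion_le.trans ?_)
    refine (Finset.sum_le_card_nsmul _ _ (Nat.card (P2 F)) fun z _ => ?_).trans ?_
    · rw [← Fintype.card_of_subtype _ (fun g => by simp :
        ∀ g : G, g ∈ Finset.univ.filter (fun g : G => g ∈ Y ⊓ centralizer ({(z : G)} : Set G)) ↔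
          g ∈ Y ⊓ centralizer ({(z : G)} : Set G)), ← Nat.card_eq_fintype_card]
      by_cases hzy : (z : G) * y = y * z
      · exact (c.card_inter_le_two_q hy1 hyo z.2.1 hzy).trans c.card_P2_ge
      · exact c.card_inter_le_P2 z.2.1 hzy
    · rw [smul_eq_mul, Finset.card_univ, ← Nat.card_eq_fintype_card]
      exact Nat.mul_le_mul_right _ c.card_involutions_Ct
  have h1 := (hlow.trans (card_le_of_le hWY)).trans (hfib.trans (Nat.mul_le_mul_left _ himg))
  have hH : 2 * Nat.card c.H + 1 = Fintype.card F := by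
    rw [c.card_H_eq]
    have := card_Hs (F := F)
    have := c.hbig
    omega
  have hbig := c.hbig
  have h6 := pow_six_lt_five_pow (n := Nat.card c.H) (by omega)
  rw [hH] at h6
  have hP : 2 * Nat.card (P2 F) ≤ Fintype.card F ^ 3 := by
    rw [c.two_mul_card_P2, pow_succ' _ 2]
    exact Nat.mul_le_mul_left _ (Nat.sub_le _ _)
  have hI : Fintype.card F * (Fintype.card F - 1) + 1 ≤ Fintype.card F ^ 2 := by
    obtain ⟨k, hk⟩ := Nat.exists_eq_add_of_le (show 1 ≤ Fintype.card F by omega)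
    rw [hk, Nat.add_sub_cancel_left]
    nlinarith
  have : 2 * Fintype.card F * ((Fintype.card F * (Fintype.card F - 1) + 1) * Nat.card (P2 F))
      ≤ Fintype.card F ^ 6 := by
    calc _ = Fintype.card F * ((Fintype.card F * (Fintype.card F - 1) + 1) * (2 * Nat.card (P2 F))) := by ring
      _ ≤ Fintype.card F * (Fintype.card F ^ 2 * Fintype.card F ^ 3) :=
        Nat.mul_le_mul_left _ (Nat.mul_le_mul hI hP)
      _ = _ := by ring
  omega

end Ctx

end CfsgLib.LocalEven.GoldS
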