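import Cfsg.Agent.Lib.Classical.SL2Structure

/-!
Owner: helper24. Elementary facts on `PSL(2, q)`, `q = 3 ^ m ≡ 3 (mod 8)`, used for groups of Ree type.
-/

set_option autoImplicit false
set_option linter.all false

namespace CfsgLib.LocalEven.GoldS.PSLF

open Matrix CfsgLib.PLocal.SLTwo

variable {F : Type*} [Field F]

/-- `PSL(2, F)` -/
abbrev P2 (F : Type*) [Field F] := Matrix.ProjectiveSpecialLinearGroup (Fin 2) F

/-- the projection from `SL(2, F)` -/
abbrev mk : S2 F →* P2 F := QuotientGroup.mk' _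

theorem mk_surjective : Function.Surjective (mk : S2 F →* P2 F) := QuotientGroup.mk'_surjective _

theorem eq_or_neg_of_center {z : S2 F} (h : z ∈ Subgroup.center (S2 F)) : z = 1 ∨ z = -1 := by
  apply scalar_cases
  intro hn
  apply hn
  have hU := Subgroup.mem_center_iff.1 h (U 1)
  have hL := Subgroup.mem_center_iff.1 h (Lo 1)
  obtain ⟨h10, h11⟩ := commute_U_one hU.symm
  refine ⟨?_, h10, h11.symm⟩
  have := congrArg (fun x : S2 F => x.1 0 0) hL
  simp [m00] at this
  linear_combination this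

theorem mk_neg (x : S2 F) : mk (-x) = mk x := by
  have : -x = x * (-1) := by simp
  rw [this, map_mul]
  have h1 : mk (-1 : S2 F) = 1 := by
    refine (QuotientGroup.eq_one_iff _).2 (Subgroup.mem_center_iff.2 fun g => ?_)
    simp
  rw [h1, mul_one]

theorem mk_eq_mk {x y : S2 F} : mk x = mk y ↔ y = x ∨ y = -x := by
  constructor
  · intro h
    have : x⁻¹ * y ∈ Subgroup.center (S2 F) := QuotientGroup.eq.1 h
    rcases eq_or_neg_of_center this with e | e
    · left; exact (inv_mul_eq_one.1 e).symm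
    · right; rw [inv_mul_eq_iff_eq_mul] at e; rw [e]; simp
  · rintro (rfl | rfl)
    · rfl
    · rw [mk_neg]

theorem mk_eq_one {x : S2 F} : mk x = 1 ↔ x = 1 ∨ x = -1 := by
  rw [← map_one (mk : S2 F →* P2 F), eq_comm, mk_eq_mk]

/-- root elements -/
def u (t : F) : P2 F := mk (U t)

theorem u_mul (s t : F) : u s * u t = u (s + t) := by rw [u, u, u, ← map_mul, U_mul]

theorem u_zero : (u 0 : P2 F) = 1 := by rw [u, U_zero, map_one]

theorem u_inv (t : F) : (u t)⁻¹ = u (-t) := by rw [u, u, ← map_inv, U_inv]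

theorem u_injective : Function.Injective (u : F → P2 F) := by
  intro s t h
  rcases mk_eq_mk.1 h with e | e
  · exact (U_injective e).symm
  · have h0 := congrArg (fun x : S2 F => x.1 0 0) e
    have h1 := congrArg (fun x : S2 F => x.1 0 1) e
    simp at h0 h1
    have h2 : (2 : F) = 0 := by linear_combination h0
    linear_combination -h1 + s * h2

theorem u_eq_one {t : F} (h : u t = 1) : t = 0 := u_injective (h.trans u_zero.symm)

/-- the root group -/
def Us (F : Type*) [Field F] : Subgroup (P2 F) where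
  carrier := Set.range u
  mul_mem' := by rintro _ _ ⟨s, rfl⟩ ⟨t, rfl⟩; exact ⟨s + t, (u_mul s t).symm⟩
  one_mem' := ⟨0, u_zero⟩
  inv_mem' := by rintro _ ⟨t, rfl⟩; exact ⟨-t, (u_inv t).symm⟩

theorem mem_Us {x : P2 F} : x ∈ Us F ↔ ∃ t, u t = x := Iff.rfl

theorem u_mem (t : F) : u t ∈ Us F := ⟨t, rfl⟩

theorem Us_comm {x y : P2 F} (hx : x ∈ Us F) (hy : y ∈ Us F) : x * y = y * x := by
  obtain ⟨s, rfl⟩ := hx
  obtain ⟨t, rfl⟩ := hy
  rw [u_mul, u_mul, add_comm]

theorem Us_cube [CharP F 3] {x : P2 F} (hx : x ∈ Us F) : x ^ 3 = 1 := by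
  obtain ⟨s, rfl⟩ := hx
  rw [u, ← map_pow, U_pow]
  have : ((3 : ℕ) : F) = 0 := CharP.cast_eq_zero F 3
  rw [this, zero_mul, U_zero, map_one]

theorem card_Us [Fintype F] : Nat.card (Us F) = Fintype.card F := by
  rw [← Nat.card_eq_fintype_card]
  exact (Nat.card_congr (Equiv.ofInjective u u_injective)).symm

/-- diagonal matrices -/
def dS (a : Fˣ) : S2 F :=
  ⟨!![(a : F), 0; 0, ((a⁻¹ : Fˣ) : F)], by simp [Matrix.det_fin_two_of]⟩

@[simp] theorem dS00 (a : Fˣ) : (dS a).1 0 0 = (a : F) := rfl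
@[simp] theorem dS01 (a : Fˣ) : (dS a).1 0 1 = 0 := rfl
@[simp] theorem dS10 (a : Fˣ) : (dS a).1 1 0 = 0 := rfl
@[simp] theorem dS11 (a : Fˣ) : (dS a).1 1 1 = ((a⁻¹ : Fˣ) : F) := rfl

/-- the torus homomorphism -/
def dHom : Fˣ →* P2 F where
  toFun a := mk (dS a)
  map_one' := by
    rw [show dS (1 : Fˣ) = 1 from ext2 (by simp) (by simp) (by simp) (by simp), map_one]
  map_mul' a b := by
    rw [← map_mul]
    congr 1
    refine ext2 ?_ ?_ ?_ ?_ <;> simp [m00, m01, m10, m11, mul_comm]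

/-- the torus -/
def Hs (F : Type*) [Field F] : Subgroup (P2 F) := (dHom : Fˣ →* P2 F).range

theorem mem_Hs {x : P2 F} : x ∈ Hs F ↔ ∃ a : Fˣ, mk (dS a) = x := Iff.rfl

theorem dHom_eq_one {a : Fˣ} : (dHom a : P2 F) = 1 ↔ a = 1 ∨ a = -1 := by
  show mk (dS a) = 1 ↔ _
  rw [mk_eq_one]
  constructor
  · rintro (e | e)
    · exact Or.inl (Units.ext (congrArg (fun x : S2 F => x.1 0 0) e))
    · exact Or.inr (Units.ext (by simpa using congrArg (fun x : S2 F => x.1 0 0) e))
  · rintro (rfl | rfl)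
    · exact Or.inl (ext2 (by simp) (by simp) (by simp) (by simp))
    · exact Or.inr (ext2 (by simp) (by simp) (by simp) (by simp))

theorem two_ne_zero' [CharP F 3] : (2 : F) ≠ 0 := fun h => by
  have := (CharP.cast_eq_zero_iff F 3 2).1 (by simpa using h)
  omega

theorem one_ne_neg_one_units [CharP F 3] : (1 : Fˣ) ≠ -1 := fun h => by
  have := congrArg Units.val h
  simp at this
  exact two_ne_zero' (F := F) (by linear_combination this)

theorem card_Hs [Fintype F] [CharP F 3] : 2 * Nat.card (Hs F) = Fintype.card F - 1 := by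
  classical
  have hk : Nat.card (dHom : Fˣ →* P2 F).ker = 2 := by
    have : ((dHom : Fˣ →* P2 F).ker : Set Fˣ) = {1, -1} := Set.ext fun a => dHom_eq_one
    rw [← SetLike.coe_sort_coe, Nat.card_coe_set_eq, this, Set.ncard_pair one_ne_neg_one_units]
  have h1 := (dHom : Fˣ →* P2 F).ker.card_eq_card_quotient_mul_card_subgroup
  rw [hk, Nat.card_eq_fintype_card, Fintype.card_units] at h1
  have h2 : Nat.card (Fˣ ⧸ (dHom : Fˣ →* P2 F).ker) = Nat.card (Hs F) :=
    Nat.card_congr (QuotientGroup.quotientKerEquivRange _).toEquiv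
  omega

theorem isCyclic_Hs [Fintype F] : IsCyclic (Hs F) :=
  isCyclic_of_surjective (dHom : Fˣ →* P2 F).rangeRestrict (MonoidHom.rangeRestrict_surjective _)

theorem Hs_comm {x y : P2 F} (hx : x ∈ Hs F) (hy : y ∈ Hs F) : x * y = y * x := by
  obtain ⟨a, rfl⟩ := hx
  obtain ⟨b, rfl⟩ := hy
  rw [← map_mul, ← map_mul, mul_comm]

theorem odd_card_Hs [Fintype F] [CharP F 3] (hq : Fintype.card F % 8 = 3) :
    Odd (Nat.card (Hs F)) := by
  have := card_Hs (F := F)
  exact Nat.odd_iff.2 (by omega)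

theorem conj_u (a : Fˣ) (t : F) :
    mk (dS a) * u t * (mk (dS a))⁻¹ = u ((a : F) ^ 2 * t) := by
  rw [u, u, ← map_inv, ← map_mul, ← map_mul]
  congr 1
  refine ext2 ?_ ?_ ?_ ?_ <;> simp [m00, m01, m10, m11, i00, i01, i10, i11]
  ring

theorem Hs_normalizes {h x : P2 F} (hh : h ∈ Hs F) (hx : x ∈ Us F) : h * x * h⁻¹ ∈ Us F := by
  obtain ⟨a, rfl⟩ := mem_Hs.1 hh
  obtain ⟨t, rfl⟩ := hx
  exact ⟨_, (conj_u a t).symm⟩

/-- the torus acts without fixed points on the root group -/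
theorem Hs_free {h x : P2 F} (hh : h ∈ Hs F) (h1 : h ≠ 1) (hx : x ∈ Us F)
    (hc : h * x = x * h) : x = 1 := by
  obtain ⟨a, rfl⟩ := mem_Hs.1 hh
  obtain ⟨t, rfl⟩ := hx
  have e : u ((a : F) ^ 2 * t) = u t := by rw [← conj_u, hc, mul_inv_cancel_right]
  have h2 : ((a : F) - 1) * (((a : F) + 1) * t) = 0 := by linear_combination u_injective e
  rcases mul_eq_zero.1 h2 with h3 | h3
  · exact absurd (dHom_eq_one.2 (Or.inl (Units.ext (sub_eq_zero.1 h3)))) h1
  · rcases mul_eq_zero.1 h3 with h4 | h4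
    · exact absurd (dHom_eq_one.2 (Or.inr (Units.ext (by simpa using eq_neg_of_add_eq_zero_left h4)))) h1
    · rw [h4, u_zero]

/-- the Weyl element of `SL(2, F)` -/
def wS : S2 F := ⟨!![0, 1; -1, 0], by simp [Matrix.det_fin_two_of]⟩

@[simp] theorem wS00 : (wS : S2 F).1 0 0 = 0 := rfl
@[simp] theorem wS01 : (wS : S2 F).1 0 1 = 1 := rfl
@[simp] theorem wS10 : (wS : S2 F).1 1 0 = -1 := rfl
@[simp] theorem wS11 : (wS : S2 F).1 1 1 = 0 := rfl

/-- the Weyl involution -/
def ww (F : Type*) [Field F] : P2 F := mk wS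

theorem orderOf_ww : orderOf (ww F) = 2 := by
  refine orderOf_eq_prime ?_ ?_
  · rw [ww, ← map_pow, mk_eq_one]
    right
    refine ext2 ?_ ?_ ?_ ?_ <;> simp [pow_two, m00, m01, m10, m11]
  · intro h
    rcases mk_eq_one.1 h with e | e <;> simpa using congrArg (fun x : S2 F => x.1 0 1) e

theorem ww_inv {h : P2 F} (hh : h ∈ Hs F) : ww F * h * (ww F)⁻¹ = h⁻¹ := by
  obtain ⟨a, rfl⟩ := mem_Hs.1 hh
  rw [ww, ← map_inv, ← map_mul, ← map_mul, ← map_inv]
  congr 1
  refine ext2 ?_ ?_ ?_ ?_ <;> simp [m00, m01, m10, m11, i00, i01, i10, i11]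

/-- upper triangular elements -/
def Bs (F : Type*) [Field F] : Subgroup (P2 F) where
  carrier := {x | ∃ y : S2 F, mk y = x ∧ y.1 1 0 = 0}
  mul_mem' := by
    rintro _ _ ⟨x, rfl, hx⟩ ⟨y, rfl, hy⟩
    exact ⟨x * y, map_mul _ _ _, by rw [m10, hx, hy]; ring⟩
  one_mem' := ⟨1, map_one _, by simp⟩
  inv_mem' := by
    rintro _ ⟨x, rfl, hx⟩
    exact ⟨x⁻¹, map_inv _ _, by rw [i10, hx, neg_zero]⟩

theorem Us_le_Bs : Us F ≤ Bs F := by
  rintro _ ⟨t, rfl⟩
  exact ⟨U t, rfl, by simp⟩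

theorem Hs_le_Bs : Hs F ≤ Bs F := by
  rintro _ ⟨a, rfl⟩
  exact ⟨dS a, rfl, by simp⟩

theorem Bs_decomp {x : P2 F} (hx : x ∈ Bs F) : ∃ a ∈ Us F, ∃ h ∈ Hs F, x = a * h := by
  obtain ⟨y, rfl, hy⟩ := hx
  have hd := det2 y
  rw [hy, mul_zero, sub_zero] at hd
  have h0 : y.1 0 0 ≠ 0 := left_ne_zero_of_mul_eq_one hd
  refine ⟨u (y.1 0 1 * y.1 0 0), u_mem _, mk (dS (Units.mk0 _ h0)), ⟨_, rfl⟩, ?_⟩
  rw [u, ← map_mul]
  congr 1
  have hi : y.1 1 1 = (y.1 0 0)⁻¹ := eq_inv_of_mul_eq_one_right hd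
  refine ext2 ?_ ?_ ?_ ?_ <;> simp [m00, m01, m10, m11, hy, hi]
  field_simp

theorem upper_of_conj_U {x : S2 F} {t s : F} (ht : t ≠ 0) [CharP F 3]
    (h : x * U t * x⁻¹ = U s ∨ x * U t * x⁻¹ = -U s) :
    x.1 1 0 = 0 ∧ s = x.1 0 0 ^ 2 * t := by
  rcases h with h | h
  · have e := congrArg (fun z : S2 F => z.1 1 0) h
    have e1 := congrArg (fun z : S2 F => z.1 0 1) h
    simp [m00, m01, m10, m11, i00, i01, i10, i11] at e e1
    have hc : t * x.1 1 0 ^ 2 = 0 := by linear_combination -e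
    refine ⟨pow_eq_zero_iff two_ne_zero |>.1 ((mul_eq_zero.1 hc).resolve_left ht), ?_⟩
    linear_combination -e1
  · exfalso
    have e := congrArg tr h
    rw [tr_conj] at e
    simp [tr] at e
    have h4 : ((4 : ℕ) : F) = 0 := by push_cast; linear_combination e
    have := (CharP.cast_eq_zero_iff F 3 4).1 h4
    omega

theorem centralizer_u [CharP F 3] {x : P2 F} {t : F} (ht : t ≠ 0) (hx : x * u t = u t * x) :
    x ∈ Us F := by
  obtain ⟨y, rfl⟩ := mk_surjective x
  have e : mk (y * U t * y⁻¹) = mk (U t) := by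
    rw [map_mul, map_mul, map_inv]
    exact mul_inv_eq_of_eq_mul hx
  have h := upper_of_conj_U (s := t) ht (by
    rcases mk_eq_mk.1 e with e' | e'
    · exact Or.inl e'.symm
    · exact Or.inr (neg_eq_iff_eq_neg.1 e'.symm))
  obtain ⟨h10, hs⟩ := h
  have hd := det2 y
  rw [h10, mul_zero, sub_zero] at hd
  have h2 : y.1 0 0 ^ 2 = 1 := mul_right_cancel₀ ht (by rw [one_mul]; exact hs.symm)
  have hdiag : y.1 1 1 = y.1 0 0 := by linear_combination y.1 0 0 * hd - y.1 1 1 * h2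
  rcases eq_U_of_upper h10 hdiag with e' | e'
  · exact ⟨_, (congrArg mk e').symm⟩
  · exact ⟨-(y.1 0 1), ((congrArg mk e').trans (mk_neg _)).symm⟩

theorem normalizer_Us [CharP F 3] {x : P2 F} {t : F} (ht : t ≠ 0)
    (hx : x * u t * x⁻¹ ∈ Us F) : x ∈ Bs F := by
  obtain ⟨y, rfl⟩ := mk_surjective x
  obtain ⟨s, hs⟩ := hx
  have e : mk (y * U t * y⁻¹) = mk (U s) := by
    rw [map_mul, map_mul, map_inv]
    exact hs.symm
  exact ⟨y, rfl, (upper_of_conj_U ht (by
    rcases mk_eq_mk.1 e with e' | e'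
    · exact Or.inl e'.symm
    · exact Or.inr (neg_eq_iff_eq_neg.1 e'.symm))).1⟩

/-- a root element is not conjugate to its inverse -/
theorem u_not_conj_inv [Fintype F] [CharP F 3] (hq : Fintype.card F % 8 = 3) {x : P2 F} {t : F}
    (ht : t ≠ 0) : x * u t * x⁻¹ ≠ (u t)⁻¹ := by
  intro h
  obtain ⟨y, rfl⟩ := mk_surjective x
  have e : mk (y * U t * y⁻¹) = mk (U (-t)) := by
    rw [map_mul, map_mul, map_inv]
    exact h.trans (u_inv t)
  obtain ⟨-, hs⟩ := upper_of_conj_U (s := -t) ht (by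
    rcases mk_eq_mk.1 e with e' | e'
    · exact Or.inl e'.symm
    · exact Or.inr (neg_eq_iff_eq_neg.1 e'.symm))
  have h1 : IsSquare (-1 : F) := ⟨y.1 0 0, mul_right_cancel₀ ht (by linear_combination hs)⟩
  rw [FiniteField.isSquare_neg_one_iff] at h1
  omega

/-- the centraliser of a torus element -/
theorem centralizer_Hs [Fintype F] [CharP F 3] (hq : Fintype.card F % 8 = 3) {x h : P2 F}
    (hh : h ∈ Hs F) (h1 : h ≠ 1) (hx : x * h = h * x) : x ∈ Hs F := by
  obtain ⟨a, rfl⟩ := mem_Hs.1 hh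
  obtain ⟨y, rfl⟩ := mk_surjective x
  rw [← map_mul, ← map_mul] at hx
  have hi : ((a⁻¹ : Fˣ) : F) = (a : F)⁻¹ := Units.val_inv_eq_inv_val a
  have ha : (a : F) ≠ 0 := a.ne_zero
  rcases mk_eq_mk.1 hx with e | e
  · have hn : NonScalar (dS a) := fun hc => h1 (dHom_eq_one.2 (by
      have h3 : (a : F) = (a : F)⁻¹ := by simpa [hi] using hc.2.2
      have h4 : ((a : F) - 1) * ((a : F) + 1) = 0 := by
        have := mul_inv_cancel₀ ha
        rw [← h3] at this
        linear_combination this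
      rcases mul_eq_zero.1 h4 with h5 | h5
      · exact Or.inl (Units.ext (sub_eq_zero.1 h5))
      · exact Or.inr (Units.ext (by simpa using eq_neg_of_add_eq_zero_left h5))))
    obtain ⟨α, β, a1, a2, a3, a4⟩ := exists_affine hn e
    rw [dS01, mul_zero] at a2
    rw [dS10, mul_zero] at a3
    have hd := det2 y
    rw [a2, zero_mul, sub_zero] at hd
    refine ⟨Units.mk0 _ (left_ne_zero_of_mul_eq_one hd), ?_⟩
    show mk (dS _) = mk y
    congr 1
    refine ext2 ?_ ?_ ?_ ?_ <;> simp [a2, a3, eq_inv_of_mul_eq_one_right hd]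
  · -- `y` would anticommute with `dS a`, forcing `a ^ 4 = 1`
    exfalso
    have e00 := congrArg (fun z : S2 F => z.1 0 0) e
    have e01 := congrArg (fun z : S2 F => z.1 0 1) e
    simp [m00, m01, hi] at e00 e01
    have hy00 : y.1 0 0 = 0 := by
      have : (2 * (a : F)) * y.1 0 0 = 0 := by linear_combination e00
      exact (mul_eq_zero.1 this).resolve_left (mul_ne_zero two_ne_zero' ha)
    have hd := det2 y
    rw [hy00, zero_mul, zero_sub] at hd
    have h01 : y.1 0 1 ≠ 0 := fun h => by simp [h] at hd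
    have hsum : (a : F) * y.1 0 1 + y.1 0 1 * (a : F)⁻¹ = 0 := by linear_combination e01
    have h3 : (a : F) ^ 2 + 1 = 0 := by
      have h4 : y.1 0 1 * ((a : F) ^ 2 + 1) = 0 := by
        have := congrArg (fun z => (a : F) * z) hsum
        simp only [mul_add, mul_zero] at this
        field_simp at this
        linear_combination this
      exact (mul_eq_zero.1 h4).resolve_left h01
    have h1' : IsSquare (-1 : F) := ⟨(a : F), by linear_combination -h3⟩
    rw [FiniteField.isSquare_neg_one_iff] at h1'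
    omega

/-- the root group and an element outside the Borel subgroup generate -/
theorem closure_Us [Fintype F] {L : Subgroup (P2 F)} (hU : Us F ≤ L) {g : P2 F} (hg : g ∈ L)
    (hgB : g ∉ Bs F) : L = ⊤ := by
  obtain ⟨y, rfl⟩ := mk_surjective g
  have hc : y.1 1 0 ≠ 0 := fun h => hgB ⟨y, rfl, h⟩
  let L' := L.comap (mk : S2 F →* P2 F)
  have hU' : ∀ t, U t ∈ L' := fun t => hU (u_mem t)
  have hy' : y ∈ L' := hg
  -- the Bruhat decomposition of `y` gives `dS a * wS`, and conjugation gives the lower root group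
  have hd := det2 y
  have hci : (y.1 1 0) * (y.1 1 0)⁻¹ = 1 := mul_inv_cancel₀ hc
  set m := U (-(y.1 0 0) * (y.1 1 0)⁻¹) * y * U (-(y.1 1 1) * (y.1 1 0)⁻¹) with hm
  have hm' : m ∈ L' := L'.mul_mem (L'.mul_mem (hU' _) hy') (hU' _)
  have m00' : m.1 0 0 = 0 := by
    simp [hm, m00, m01, m10, m11]
    field_simp
    ring
  have m10' : m.1 1 0 = y.1 1 0 := by simp [hm, m00, m01, m10, m11]
  have m11' : m.1 1 1 = 0 := by
    simp [hm, m00, m01, m10, m11]
    field_simp
    ring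
  have hLo : ∀ s, Lo s ∈ L' := by
    intro s
    have e : m * U (-s * ((y.1 1 0)⁻¹) ^ 2) * m⁻¹ = Lo s := by
      refine ext2 ?_ ?_ ?_ ?_ <;>
        simp [m00, m01, m10, m11, i00, i01, i10, i11, m00', m10', m11']
      · have := det2 m
        rw [m00', m10', m11'] at this
        linear_combination this
      · field_simp
      · have := det2 m
        rw [m00', m10', m11'] at this
        linear_combination this
    exact e ▸ L'.mul_mem (L'.mul_mem hm' (hU' _)) (L'.inv_mem hm')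
  rw [eq_top_iff]
  intro x _
  obtain ⟨z, rfl⟩ := mk_surjective x
  show z ∈ L'
  have key : ∀ z : S2 F, z.1 1 0 ≠ 0 → z ∈ L' := by
    intro z hz
    have e : z = U ((z.1 0 0 - 1) / z.1 1 0) * Lo (z.1 1 0) * U ((z.1 1 1 - 1) / z.1 1 0) := by
      refine ext2 ?_ ?_ ?_ ?_ <;> simp [m00, m01, m10, m11]
      · field_simp
        ring
      · field_simp
        linear_combination (-1 : F) * det2 z
      · field_simp
        ring
    rw [e]
    exact L'.mul_mem (L'.mul_mem (hU' _) (hLo _)) (hU' _)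
  by_cases hz : z.1 1 0 = 0
  · have h1 : (Lo 1 * z).1 1 0 ≠ 0 := by
      have := det2 z
      rw [hz, mul_zero, sub_zero] at this
      simp [m10, hz, left_ne_zero_of_mul_eq_one this]
    have := L'.mul_mem (L'.inv_mem (hLo 1)) (key _ h1)
    rwa [inv_mul_cancel_left] at this
  · exact key z hz

end CfsgLib.LocalEven.GoldS.PSLF
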