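import Cfsg.Agent.Lib.LocalEven.GoldS.CentU

/-!
Owner: helper24. Groups of Ree type without real elements of order three: the inverted signalizer `W`.
-/

set_option autoImplicit false
set_option linter.all false

namespace CfsgLib.LocalEven.GoldS

open Subgroup PSLF

namespace Ctx

variable {G : Type*} [Group G] {F : Type*} [Field F] [Fintype F] (c : Ctx G F)

/-- `x` is a `{2,3}'`-element centralising some nontrivial root element -/
def IsGen (x : G) : Prop :=
  ∃ u ∈ c.U, u ≠ 1 ∧ x * u = u * x ∧ Odd (orderOf x) ∧ ¬ 3 ∣ orderOf x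

/-- the signalizer -/
def W : Subgroup G := closure {x | c.IsGen x}

theorem isGen_mem_W {x : G} (h : c.IsGen x) : x ∈ c.W := subset_closure h

/-- elements normalising `U` permute the generators -/
theorem isGen_conj {n x : G} (hn : n ∈ normalizer (c.U : Set G)) (h : c.IsGen x) :
    c.IsGen (n * x * n⁻¹) := by
  obtain ⟨u, hu, hu1, hxu, ho, h3⟩ := h
  refine ⟨n * u * n⁻¹, (mem_normalizer_iff.1 hn u).1 hu, fun e => hu1 (by simpa using e), ?_, ?_, ?_⟩
  · calc n * x * n⁻¹ * (n * u * n⁻¹) = n * (x * u) * n⁻¹ := by group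
      _ = n * (u * x) * n⁻¹ := by rw [hxu]
      _ = _ := by group
  all_goals rwa [show orderOf (n * x * n⁻¹) = orderOf x from (MulAut.conj n).orderOf_eq x]

theorem normalizer_U_le_normalizer_W : normalizer (c.U : Set G) ≤ normalizer (c.W : Set G) := by
  intro n hn
  have key : ∀ m ∈ normalizer (c.U : Set G), ∀ x ∈ c.W, m * x * m⁻¹ ∈ c.W := by
    intro m hm x hx
    have h : c.W ≤ c.W.comap (MulAut.conj m).toMonoidHom :=
      (closure_le _).2 fun y hy => c.isGen_mem_W (c.isGen_conj hm hy)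
    exact h hx
  refine mem_normalizer_iff.2 fun x => ⟨key n hn x, fun hx => ?_⟩
  have := key n⁻¹ (inv_mem hn) _ hx
  simpa [mul_assoc] using this

theorem U_le_normalizer_W : c.U ≤ normalizer (c.W : Set G) :=
  Subgroup.le_normalizer.trans c.normalizer_U_le_normalizer_W

theorem t_mem_normalizer_U : c.t ∈ normalizer (c.U : Set G) :=
  Subgroup.centralizer_le_normalizer _
    (mem_centralizer_iff.2 fun v hv => (commute_iff_conj.2 (c.t_conj_U hv)).symm)

theorem H_le_normalizer_U : c.H ≤ normalizer (c.U : Set G) := by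
  rintro _ ⟨h, hh, rfl⟩
  refine mem_normalizer_iff.2 fun x => ⟨?_, fun hx => ?_⟩
  · rintro ⟨a, ha, rfl⟩
    exact ⟨_, Hs_normalizes hh ha, by simp⟩
  · obtain ⟨a, ha, e⟩ := hx
    refine ⟨h⁻¹ * a * h, by simpa using Hs_normalizes ((Hs F).inv_mem hh) ha, ?_⟩
    rw [map_mul, map_mul, e, map_inv]
    group

theorem span_isMulCommutative {a b : G} (ha : a ∈ c.U) (hb : b ∈ c.U) :
    IsMulCommutative (zpowers a ⊔ zpowers b : Subgroup G) := by
  have h : zpowers a ⊔ zpowers b ≤ c.U := sup_le (zpowers_le.2 ha) (zpowers_le.2 hb)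
  exact ⟨⟨fun x y => Subtype.ext (c.U_comm (h x.2) (h y.2))⟩⟩

variable [CharP F 3]

theorem orderOf_U {a : G} (ha : a ∈ c.U) (ha1 : a ≠ 1) : orderOf a = 3 := by
  haveI : Fact (Nat.Prime 3) := ⟨Nat.prime_three⟩
  exact orderOf_eq_prime (c.U_cube ha) ha1

variable [Finite G]

theorem nine_le_card_span {a b : G} (ha : a ∈ c.U) (ha1 : a ≠ 1) (hb : b ∈ c.U)
    (hab : b ∉ zpowers a) : 3 ^ 2 ≤ Nat.card (zpowers a ⊔ zpowers b : Subgroup G) := by
  haveI : Fact (Nat.Prime 3) := ⟨Nat.prime_three⟩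
  have hle : zpowers a ⊔ zpowers b ≤ c.U := sup_le (zpowers_le.2 ha) (zpowers_le.2 hb)
  obtain ⟨n, hn⟩ := IsPGroup.iff_card.1 ((c.U_isPGroup (G := G)).to_le hle)
  have h1 : zpowers a < zpowers a ⊔ zpowers b :=
    lt_of_le_of_ne le_sup_left fun e => hab (e ▸ mem_sup_right (mem_zpowers b))
  have h2 : Nat.card (zpowers a) < Nat.card (zpowers a ⊔ zpowers b : Subgroup G) := by
    refine lt_of_le_of_ne (card_le_of_le h1.le) fun e => h1.ne (eq_of_le_of_card_ge h1.le e.ge)
  rw [Nat.card_zpowers, c.orderOf_U ha ha1, hn] at h2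
  rw [hn]
  exact Nat.pow_le_pow_right (by norm_num) (by
    by_contra h
    have : 3 ^ n ≤ 3 ^ 1 := Nat.pow_le_pow_right (by norm_num) (by omega)
    omega)

/-- the generators commute -/
theorem isGen_comm (hno : NoReal G) {x y : G} (hx : c.IsGen x) (hy : c.IsGen y) :
    x * y = y * x := by
  classical
  haveI : Fact (Nat.Prime 3) := ⟨Nat.prime_three⟩
  obtain ⟨u, hu, hu1, hxu, hxo, hx3⟩ := hx
  obtain ⟨v, hv, hv1, hyv, hyo, hy3⟩ := hy
  -- `R` is invariant under `U` and has order prime to three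
  have hRd : ∀ {w : G}, w ∈ c.U → w ≠ 1 → ∃ R : Subgroup G,
      (∀ z, z ∈ R ↔ z * w = w * z ∧ Odd (orderOf z) ∧ ¬ 3 ∣ orderOf z) ∧
      (∀ z ∈ R, Inverted c.t z) ∧ ¬ 3 ∣ Nat.card R ∧ c.U ≤ normalizer (R : Set G) := by
    intro w hw hw1
    obtain ⟨R, hR, hinv, -, -⟩ := c.exists_R hno hw hw1
    refine ⟨R, hR, hinv, fun hd => ?_, fun a ha => ?_⟩
    · obtain ⟨z, hz⟩ := exists_prime_orderOf_dvd_card' (G := R) 3 hd
      have := ((hR z).1 z.2).2.2
      rw [Subgroup.orderOf_coe, hz] at this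
      exact this dvd_rfl
    · have key : ∀ a ∈ c.U, ∀ z ∈ R, a * z * a⁻¹ ∈ R := by
        intro a ha z hz
        obtain ⟨h1, h2, h3⟩ := (hR z).1 hz
        refine (hR _).2 ⟨?_, ?_, ?_⟩
        · have e : Commute a w := c.U_comm ha hw
          exact (((e.mul_left h1).mul_left e.inv_left))
        all_goals rwa [show orderOf (a * z * a⁻¹) = orderOf z from (MulAut.conj a).orderOf_eq z]
      refine mem_normalizer_iff.2 fun z => ⟨key a ha z, fun hz => ?_⟩
      simpa [mul_assoc] using key a⁻¹ (c.U.inv_mem ha) _ hz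
  -- an element centralised by a group of order nine commutes with every generator
  have step : ∀ e ∈ c.U, e ∉ zpowers u → ∀ z, z * u = u * z → z * e = e * z → Odd (orderOf z) →
      ¬ 3 ∣ orderOf z → z * y = y * z := by
    intro e he heu z hzu hze hzo hz3
    obtain ⟨R, hR, -, hR3, hRn⟩ := hRd hv hv1
    haveI := c.span_isMulCommutative hu he
    have hle : zpowers u ⊔ zpowers e ≤ c.U := sup_le (zpowers_le.2 hu) (zpowers_le.2 he)
    have hzc : zpowers u ⊔ zpowers e ≤ centralizer ({z} : Set G) :=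
      sup_le (zpowers_le.2 (mem_centralizer_singleton_iff.2 hzu.symm))
        (zpowers_le.2 (mem_centralizer_singleton_iff.2 hze.symm))
    have hmain : R ≤ centralizer ({z} : Set G) := by
      refine LocalEven.le_of_centralizers_le (A := zpowers u ⊔ zpowers e) (p := 3)
        (fun a ha => c.U_cube (hle ha)) (c.nine_le_card_span hu hu1 he heu) (hle.trans hRn) hR3 ?_
      intro a ha ha1 r hr
      obtain ⟨h1, h2, h3⟩ := (hR r).1 hr.1
      obtain ⟨S, hS, hSi, -, -⟩ := hRd (hle ha) ha1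
      have hrS : r ∈ S := (hS r).2 ⟨mem_centralizer_singleton_iff.1 hr.2, h2, h3⟩
      have hzS : z ∈ S := (hS z).2 ⟨(mem_centralizer_singleton_iff.1 (hzc ha)).symm, hzo, hz3⟩
      exact mem_centralizer_singleton_iff.2 (comm_of_inverted hSi hrS hzS)
    exact (mem_centralizer_singleton_iff.1 (hmain ((hR y).2 ⟨hyv, hyo, hy3⟩))).symm
  -- decompose `x` along a group of order nine meeting `⟨u⟩` trivially
  obtain ⟨a, ha, hau⟩ : ∃ a ∈ c.U, a ∉ zpowers u := by
    by_contra h
    push Not at h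
    have := card_le_of_le (show c.U ≤ zpowers u from h)
    rw [c.card_U, Nat.card_zpowers, c.orderOf_U hu hu1] at this
    have := c.hbig
    omega
  have ha1 : a ≠ 1 := fun h => hau (h ▸ one_mem _)
  have hnorm : zpowers a ≤ normalizer ((zpowers u : Subgroup G) : Set G) := by
    rw [zpowers_le]
    refine Subgroup.centralizer_le_normalizer _ (mem_centralizer_iff.2 ?_)
    rintro _ ⟨i, rfl⟩
    exact c.U_comm (c.U.zpow_mem hu i) ha
  obtain ⟨b, hb, hbu⟩ : ∃ b ∈ c.U, b ∉ zpowers u ⊔ zpowers a := by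
    by_contra h
    push Not at h
    have h1 : ((zpowers u ⊔ zpowers a : Subgroup G) : Set G) ⊆
        (fun p : G × G => p.1 * p.2) '' ((zpowers u : Set G) ×ˢ (zpowers a : Set G)) := by
      intro g hg
      obtain ⟨p, hp, q, hq, rfl⟩ := (Core.mem_sup_iff_mul' hnorm).1 (sup_comm (zpowers u) (zpowers a) ▸ hg)
      exact ⟨(p, q), ⟨hp, hq⟩, rfl⟩
    have h2 := Set.ncard_le_ncard ((show (c.U : Set G) ⊆ _ from h).trans h1)
    have h3 := h2.trans (Set.ncard_image_le (Set.toFinite _))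
    rw [Set.ncard_prod, ← Nat.card_coe_set_eq, ← Nat.card_coe_set_eq, ← Nat.card_coe_set_eq] at h3
    simp only [SetLike.coe_sort_coe] at h3
    rw [c.card_U, Nat.card_zpowers, Nat.card_zpowers, c.orderOf_U hu hu1, c.orderOf_U ha ha1] at h3
    have := c.hbig
    omega
  have hba : b ∉ zpowers a := fun h => hbu (mem_sup_right h)
  obtain ⟨R, hR, -, hR3, hRn⟩ := hRd hu hu1
  haveI := c.span_isMulCommutative ha hb
  have hle : zpowers a ⊔ zpowers b ≤ c.U := sup_le (zpowers_le.2 ha) (zpowers_le.2 hb)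
  have hmain : R ≤ centralizer ({y} : Set G) := by
    refine LocalEven.le_of_centralizers_le (A := zpowers a ⊔ zpowers b) (p := 3)
      (fun e he => c.U_cube (hle he)) (c.nine_le_card_span ha ha1 hb hba) (hle.trans hRn) hR3 ?_
    intro e he he1 r hr
    obtain ⟨h1, h2, h3⟩ := (hR r).1 hr.1
    have heu : e ∉ zpowers u := by
      intro heu
      have hnb : zpowers b ≤ normalizer ((zpowers a : Subgroup G) : Set G) := by
        rw [zpowers_le]
        refine Subgroup.centralizer_le_normalizer _ (mem_centralizer_iff.2 ?_)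
        rintro _ ⟨i, rfl⟩
        exact c.U_comm (c.U.zpow_mem ha i) hb
      obtain ⟨p, hp, q, hq, rfl⟩ := (Core.mem_sup_iff_mul' hnb).1 (sup_comm (zpowers a) (zpowers b) ▸ he)
      by_cases hq1 : q = 1
      · subst hq1
        rw [mul_one] at heu he1
        refine hau ?_
        have : zpowers p = zpowers a := eq_of_le_of_card_ge (zpowers_le.2 hp) (by
          rw [Nat.card_zpowers, Nat.card_zpowers, c.orderOf_U ha ha1,
            c.orderOf_U (zpowers_le.2 ha hp) he1])
        exact zpowers_le.2 heu (this ▸ mem_zpowers a)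
      · refine hbu ?_
        have : zpowers q = zpowers b := eq_of_le_of_card_ge (zpowers_le.2 hq) (by
          rw [Nat.card_zpowers, Nat.card_zpowers,
            c.orderOf_U hb (fun h => hbu (h ▸ one_mem _)), c.orderOf_U (zpowers_le.2 hb hq) hq1])
        refine zpowers_le.2 ?_ (this ▸ mem_zpowers b)
        have := (zpowers u ⊔ zpowers a).mul_mem (inv_mem (mem_sup_right hp)) (mem_sup_left heu)
        rwa [inv_mul_cancel_left] at this
    exact mem_centralizer_singleton_iff.2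
      (step e (hle he) heu r h1 (mem_centralizer_singleton_iff.1 hr.2) h2 h3)
  exact mem_centralizer_singleton_iff.1 (hmain ((hR x).2 ⟨hxu, hxo, hx3⟩))

/-- `W` is abelian -/
theorem W_comm (hno : NoReal G) {x y : G} (hx : x ∈ c.W) (hy : y ∈ c.W) : x * y = y * x := by
  have h1 : c.W ≤ centralizer {z | c.IsGen z} := (closure_le _).2 fun a ha =>
    mem_centralizer_iff.2 fun b hb => c.isGen_comm hno hb ha
  have h2 : c.W ≤ centralizer (c.W : Set G) := (closure_le _).2 fun a ha =>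
    mem_centralizer_iff.2 fun b hb => ((mem_centralizer_iff.1 (h1 hb)) a ha).symm
  exact (mem_centralizer_iff.1 (h2 hy)) x hx

theorem W_props (hno : NoReal G) {x : G} (hx : x ∈ c.W) :
    Inverted c.t x ∧ Odd (orderOf x) ∧ ¬ 3 ∣ orderOf x := by
  have h : Inverted c.t x ∧ Odd (orderOf x) := by
    induction hx using closure_induction with
    | mem z hz =>
      obtain ⟨u, hu, hu1, hzu, ho, h3⟩ := hz
      obtain ⟨R, hR, hinv, -, -⟩ := c.exists_R hno hu hu1
      exact ⟨hinv z ((hR z).2 ⟨hzu, ho, h3⟩), ho⟩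
    | one => exact ⟨Inverted.one _, by simp⟩
    | mul a b ha hb iha ihb =>
      have hc : Commute a b := c.W_comm hno ha hb
      refine ⟨?_, (iha.2.mul ihb.2).of_dvd_nat hc.orderOf_mul_dvd_mul_orderOf⟩
      show c.t * (a * b) * c.t⁻¹ = (a * b)⁻¹
      rw [show c.t * (a * b) * c.t⁻¹ = (c.t * a * c.t⁻¹) * (c.t * b * c.t⁻¹) by group, iha.1, ihb.1,
        hc.eq, mul_inv_rev]
    | inv a _ ih => exact ⟨ih.1.inv, by rw [orderOf_inv]; exact ih.2⟩
  exact ⟨h.1, h.2, c.inverted_not_three hno h.1⟩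

theorem W_inverted (hno : NoReal G) {x : G} (hx : x ∈ c.W) : Inverted c.t x := (c.W_props hno hx).1

theorem W_odd (hno : NoReal G) {x : G} (hx : x ∈ c.W) : Odd (orderOf x) := (c.W_props hno hx).2.1

theorem W_card (hno : NoReal G) : Odd (Nat.card c.W) ∧ ¬ 3 ∣ Nat.card c.W := by
  have key : ∀ p : ℕ, p.Prime → p ∣ Nat.card c.W → ∃ x ∈ c.W, orderOf x = p := by
    intro p hp hd
    haveI := Fact.mk hp
    obtain ⟨z, hz⟩ := exists_prime_orderOf_dvd_card' (G := c.W) p hd
    exact ⟨z, z.2, by rw [Subgroup.orderOf_coe]; exact hz⟩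
  refine ⟨?_, fun hd => ?_⟩
  · rw [← Nat.not_even_iff_odd, even_iff_two_dvd]
    intro hd
    obtain ⟨x, hx, ho⟩ := key 2 Nat.prime_two hd
    have := c.W_odd hno hx
    rw [ho] at this
    exact absurd this (by decide)
  · obtain ⟨x, hx, ho⟩ := key 3 Nat.prime_three hd
    exact (c.W_props hno hx).2.2 (by rw [ho])

/-- every `U`-invariant `{2,3}'`-subgroup lies in `W` -/
theorem le_W (hno : NoReal G) {N : Subgroup G} (hUN : c.U ≤ normalizer (N : Set G))
    (hodd : Odd (Nat.card N)) (h3 : ¬ 3 ∣ Nat.card N) : N ≤ c.W := by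
  haveI : Fact (Nat.Prime 3) := ⟨Nat.prime_three⟩
  haveI : IsMulCommutative c.U := ⟨⟨fun a b => Subtype.ext (c.U_comm a.2 b.2)⟩⟩
  refine LocalEven.le_of_centralizers_le (A := c.U) (p := 3) (fun a ha => c.U_cube ha)
    (by rw [c.card_U]; have := c.hbig; omega) hUN h3 fun a ha ha1 x hx => ?_
  exact c.isGen_mem_W ⟨a, ha, ha1, mem_centralizer_singleton_iff.1 hx.2,
    hodd.of_dvd_nat (N.orderOf_dvd_natCard hx.1), fun hd => h3 (hd.trans (N.orderOf_dvd_natCard hx.1))⟩

/-- inverted elements of odd order normalising `U` lie in `W` -/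
theorem mem_W_of_inverted_normalize_U (hno : NoReal G) {n : G} (ho : Odd (orderOf n))
    (hi : Inverted c.t n) (hn : n ∈ normalizer (c.U : Set G)) : n ∈ c.W := by
  obtain ⟨a, ha, ha1⟩ : ∃ a ∈ c.U, a ≠ 1 := by
    by_contra h
    push Not at h
    have := card_le_of_le (show c.U ≤ ⊥ from fun x hx => mem_bot.2 (h x hx))
    rw [c.card_U, Subgroup.card_bot] at this
    have := c.hbig
    omega
  exact c.isGen_mem_W ⟨a, ha, ha1,
    commute_of_inverted_fixed ho hi (c.t_conj_U ha) (c.t_conj_U ((mem_normalizer_iff.1 hn a).1 ha)),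
    ho, c.inverted_not_three hno hi⟩

/-- the centraliser of a root element, with `W` -/
theorem cent_U_odd (hno : NoReal G) {u x : G} (hu : u ∈ c.U) (hu1 : u ≠ 1) (hx : x * u = u * x)
    (ho : Odd (orderOf x)) : ∃ r ∈ c.W, r * u = u * r ∧ ∃ v ∈ c.U, x = r * v := by
  obtain ⟨R, hR, -, hdec, -⟩ := c.exists_R hno hu hu1
  obtain ⟨r, hr, v, hv, e⟩ := hdec x hx ho
  obtain ⟨h1, h2, h3⟩ := (hR r).1 hr
  exact ⟨r, c.isGen_mem_W ⟨u, hu, hu1, h1, h2, h3⟩, h1, v, hv, e⟩

end Ctx

end CfsgLib.LocalEven.GoldS
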