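import Cfsg.Agent.Lib.LocalEven.GoldS.CentU
import Cfsg.Agent.Lib.PGroups.Basic

/-!
Owner: helper24. Groups of Ree type without real elements of order three: `U` is a Sylow 3-subgroup.
-/

set_option autoImplicit false
set_option linter.all false

namespace CfsgLib.LocalEven.GoldS

open Subgroup PSLF

namespace Ctx

variable {G : Type*} [Group G] [Finite G] {F : Type*} [Field F] [Fintype F] [CharP F 3] (c : Ctx G F)

theorem exists_U_ne_one : ∃ u ∈ c.U, u ≠ 1 :=
  ⟨c.ι (PSLF.u 1), mem_map_of_mem _ (u_mem 1),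
    fun e => one_ne_zero (α := F) (u_eq_one (c.inj (e.trans (map_one c.ι).symm)))⟩

/-- `U` is a Sylow `3`-subgroup -/
theorem exists_sylow_three (hno : NoReal G) : ∃ P : Sylow 3 G, (P : Subgroup G) = c.U := by
  classical
  haveI : Fact (Nat.Prime 3) := ⟨Nat.prime_three⟩
  obtain ⟨P, hP⟩ := (c.U_isPGroup (G := G)).exists_le_sylow
  refine ⟨P, ?_⟩
  by_contra hne
  haveI := P.isPGroup'.isNilpotent
  have hlt : c.U.subgroupOf (P : Subgroup G) < ⊤ := lt_of_le_of_ne le_top fun e => hne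
    (le_antisymm (fun x hx => mem_subgroupOf.1 (e.ge (mem_top (⟨x, hx⟩ : (P : Subgroup G))))) hP)
  have hlt2 := Group.normalizerCondition_of_isNilpotent (G := ↥(P : Subgroup G)) _ hlt
  set N := normalizer ((c.U.subgroupOf (P : Subgroup G) : Subgroup (P : Subgroup G)) : Set (P : Subgroup G))
    with hN
  set V : Subgroup N := (c.U.subgroupOf (P : Subgroup G)).subgroupOf N with hV
  haveI : V.Normal := ⟨fun v hv g =>
    mem_subgroupOf.2 ((mem_normalizer_iff.1 g.2 v).1 (mem_subgroupOf.1 hv))⟩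
  obtain ⟨u0, hu0, hu01⟩ := c.exists_U_ne_one
  have hVne : V ≠ ⊥ := fun e => hu01 (by
    have hmem : (⟨⟨u0, hP hu0⟩, Subgroup.le_normalizer (mem_subgroupOf.2 hu0)⟩ : N) ∈ V :=
      mem_subgroupOf.2 (mem_subgroupOf.2 hu0)
    rw [e, mem_bot] at hmem
    exact congrArg (fun z : N => ((z : (P : Subgroup G)) : G)) hmem)
  have hNp : IsPGroup 3 N := P.isPGroup'.to_subgroup N
  obtain ⟨⟨z, hzV, hzc⟩, hz⟩ :=
    Subgroup.ne_bot_iff_exists_ne_one.1 (PGroups.inf_center_ne_bot hNp hVne)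
  set u : G := ((z : (P : Subgroup G)) : G) with hu
  have huU : u ∈ c.U := mem_subgroupOf.1 (mem_subgroupOf.1 hzV)
  have hu1 : u ≠ 1 := fun e => hz (Subtype.ext (Subtype.ext (Subtype.ext e)))
  obtain ⟨n, hn, hnU⟩ := SetLike.exists_of_lt hlt2
  have hnu : (n : G) * u = u * n := congrArg (fun z : N => ((z : (P : Subgroup G)) : G))
    (Subgroup.mem_center_iff.1 hzc (⟨n, hn⟩ : N))
  obtain ⟨R, hR, -, hdec, -⟩ := c.exists_R hno huU hu1
  have hno' : Odd (orderOf (n : G)) := by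
    obtain ⟨k, hk⟩ := IsPGroup.iff_orderOf.1 P.isPGroup' n
    rw [Subgroup.orderOf_coe, hk]
    exact Odd.pow (by decide)
  obtain ⟨r, hr, v, hv, e⟩ := hdec n hnu hno'
  have hrP : r ∈ (P : Subgroup G) := by
    have := (P : Subgroup G).mul_mem n.2 ((P : Subgroup G).inv_mem (hP hv))
    rwa [e, mul_inv_cancel_right] at this
  obtain ⟨k, hk⟩ := IsPGroup.iff_orderOf.1 P.isPGroup' ⟨r, hrP⟩
  rw [Subgroup.orderOf_mk] at hk
  rcases k with - | k
  · refine hnU (mem_subgroupOf.2 ?_)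
    rw [e, orderOf_eq_one_iff.1 (show orderOf r = 1 by simpa using hk), one_mul]
    exact hv
  · exact ((hR r).1 hr).2.2 (hk ▸ dvd_pow_self 3 k.succ_ne_zero)

/-- the `3`-part of the order of `G` is `q` -/
theorem three_not_dvd_index_U (hno : NoReal G) : ¬ 3 ∣ c.U.index := by
  haveI : Fact (Nat.Prime 3) := ⟨Nat.prime_three⟩
  obtain ⟨P, hP⟩ := c.exists_sylow_three hno
  rw [← hP]
  exact P.not_dvd_index

end Ctx

end CfsgLib.LocalEven.GoldS
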